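/-
An automorphism of PSL(3, 4) given by a permutation of its 24 points, and twelve products of three automorphisms.
-/
import Mathlib.Data.Nat.Notation

set_option autoImplicit false

namespace CfsgON

/-- The permutation of the points. -/
def outPerm : List ℕ := [0, 1, 2, 3, 4, 5, 18, 8, 7, 10, 9, 19, 21, 16, 17, 15, 13, 14, 6, 11, 20, 12, 22, 23]

/-- Words for the images of the two letters. -/
def outGens : List (List ℕ) := [[0, 4, 0, 1, 3, 4, 3, 1, 0, 1, 3, 1, 0, 1, 0], [1, 3, 1, 0, 4, 3, 4, 0, 1, 0, 4, 0, 1, 0, 1]]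

/-- Words for the images of the chosen pairs. -/
def outPairs : List (List ℕ) := [[1, 0, 4, 0, 4, 3, 1, 3, 1, 0, 4, 0, 4], [3, 1, 0, 4, 3, 1, 0, 4, 3, 4, 3, 1, 0, 1, 3], [1, 3, 1, 0, 4, 0, 4, 3, 4, 3, 1, 3, 4, 0], [3, 4, 0, 1, 3, 1, 0, 4, 0, 1, 0]]

/-- The actions on the central elements of the three outer permutations and of the point permutation. -/
def outActs : List (ℕ × ℕ) := [(3, 12), (12, 3), (1, 4), (5, 3)]

/-- Products of the automorphisms reaching every action. -/
def outWords : List (List ℕ) := [[], [3], [0], [1], [0, 3], [1, 3], [3, 0], [1, 0], [3, 0, 3], [1, 0, 3], [1, 3, 0], [1, 3, 0, 3]]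

/-- Their actions. -/
def outTable : List (ℕ × ℕ) := [(4, 1), (5, 3), (3, 12), (12, 3), (15, 4), (15, 1), (1, 15), (1, 4), (12, 5), (5, 12), (3, 5), (4, 15)]

end CfsgON
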