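/-
Words in permutations of 504 points, evaluated on base points modulo a small kernel.
-/
import Cfsg.Agent.Lib.PermChain.Eval
import Cfsg.Agent.Lib.PermChain.Closed

set_option autoImplicit false
set_option maxHeartbeats 400000

namespace CfsgON

open Equiv CfsgPC

universe u

/-- The points determining an element. -/
def bases : List ℕ := [2, 3, 4, 5, 24, 272, 496]

/-- Seven points below 512 as one number. -/
def pack (l : List ℕ) : ℕ := l.foldl (fun acc b => acc * 512 + b) 0

/-- The images of the bases under a word. -/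
def img (gs : List ℕ) (w : List ℕ) : List ℕ := bases.map (apW gs w)

/-- The least packed image over the translates by a kernel given through its images of the bases. -/
def key (gs : List ℕ) (Kp : List (List ℕ)) (w : List ℕ) : ℕ :=
  (Kp.map fun ps => pack (ps.map (apW gs w))).foldl Nat.min (2 ^ 64)

/-- A word in six letters. -/
def okW (w : List ℕ) : Bool := w.all fun a => Nat.blt a 6

/-- The letter of the inverse. -/
def invL (a : ℕ) : ℕ := (a + 3) % 6

/-- The word of the inverse. -/
def invW (w : List ℕ) : List ℕ := (w.reverse).map invL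

/-- The word has evenly many outer letters. -/
def parW (w : List ℕ) : Bool := w.foldr (fun a b => if Nat.beq (a % 3) 2 then !b else b) true

theorem okW_iff {w : List ℕ} : okW w = true ↔ ∀ a ∈ w, a < 6 := by simp [okW]

theorem okW_append {u w : List ℕ} : okW (u ++ w) = true ↔ okW u = true ∧ okW w = true := by
  simp only [okW_iff, List.mem_append]
  exact ⟨fun h => ⟨fun a ha => h a (.inl ha), fun a ha => h a (.inr ha)⟩,
    fun h a ha => ha.elim (h.1 a) (h.2 a)⟩

theorem okW_invW (w : List ℕ) : okW (invW w) = true := by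
  rw [okW_iff]
  intro a ha
  obtain ⟨b, -, rfl⟩ := List.mem_map.mp ha
  exact Nat.mod_lt _ (by norm_num)

theorem pack_inj : ∀ (l l' : List ℕ), l.length = l'.length → (∀ x ∈ l, x < 512) → (∀ x ∈ l', x < 512) →
    pack l = pack l' → l = l' := by
  intro l
  induction l using List.reverseRecOn with
  | nil => intro l' h _ _ _; exact (List.eq_nil_of_length_eq_zero h.symm).symm
  | append_singleton l a ih =>
    intro l' hlen hl hl' e
    rcases l'.eq_nil_or_concat with rfl | ⟨l'', b, rfl⟩
    · simp at hlen
    · rw [List.concat_eq_append] at hlen hl' e ⊢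
      simp only [pack, List.foldl_append, List.foldl_cons, List.foldl_nil] at e
      have ha := hl a (by simp)
      have hb := hl' b (by simp)
      have hab : a = b := by omega
      subst hab
      rw [ih l'' (by simpa using hlen) (fun x hx => hl x (by simp [hx])) (fun x hx => hl' x (by simp [hx]))
        (by unfold pack; omega)]

theorem foldl_min_le : ∀ (l : List ℕ) (c : ℕ),
    l.foldl Nat.min c ≤ c ∧ (∀ x ∈ l, l.foldl Nat.min c ≤ x) ∧ (l.foldl Nat.min c = c ∨ l.foldl Nat.min c ∈ l) := by
  intro l
  induction l with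
  | nil => simp
  | cons a l ih =>
    intro c
    obtain ⟨h1, h2, h3⟩ := ih (Nat.min c a)
    rw [List.foldl_cons]
    have l1 : Nat.min c a ≤ c := Nat.min_le_left c a
    have l2 : Nat.min c a ≤ a := Nat.min_le_right c a
    refine ⟨h1.trans l1, ?_, ?_⟩
    · intro x hx
      rcases List.mem_cons.mp hx with rfl | hx
      exacts [h1.trans l2, h2 x hx]
    · rcases h3 with h | h
      · rw [h]
        show min c a = c ∨ min c a ∈ a :: l
        rcases min_choice c a with e | e <;> rw [e]
        exacts [.inl rfl, .inr (List.mem_cons_self ..)]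
      · exact .inr (List.mem_cons_of_mem _ h)

theorem pack_lt : ∀ (l : List ℕ), (∀ x ∈ l, x < 512) → pack l < 512 ^ l.length := by
  intro l
  induction l using List.reverseRecOn with
  | nil => simp [pack]
  | append_singleton l a ih =>
    intro hl
    have h := ih fun x hx => hl x (by simp [hx])
    have ha := hl a (by simp)
    simp only [pack, List.foldl_append, List.foldl_cons, List.foldl_nil, List.length_append, List.length_singleton,
      pow_succ] at h ⊢
    omega

theorem apW_lt {gs : List ℕ} : ∀ (w : List ℕ) {i : ℕ}, i < 512 → apW gs w i < 512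
  | [], _, h => h
  | _ :: _, _, _ => Nat.mod_lt _ (by norm_num)

/-- Six permutations, pairwise inverse. -/
structure Gens (gs : List ℕ) (g : ℕ → Perm (Fin 504)) : Prop where
  rep : ∀ a < 6, Rep 504 (gs.getD a 0) (g a)
  inv : ∀ a < 6, g (invL a) = (g a)⁻¹

/-- The permutation of a word. -/
def ev (g : ℕ → Perm (Fin 504)) (w : List ℕ) : Perm (Fin 504) := (w.map g).prod

theorem ev_nil (g : ℕ → Perm (Fin 504)) : ev g [] = 1 := rfl

theorem ev_append (g : ℕ → Perm (Fin 504)) (u w : List ℕ) : ev g (u ++ w) = ev g u * ev g w := by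
  simp [ev, List.prod_append]

theorem ev_cons (g : ℕ → Perm (Fin 504)) (a : ℕ) (w : List ℕ) : ev g (a :: w) = g a * ev g w := by
  simp [ev]

namespace Gens

variable {gs : List ℕ} {g : ℕ → Perm (Fin 504)}

theorem ev_apW (h : Gens gs g) {w : List ℕ} (hw : okW w = true) (i : Fin 504) : apW gs w i = (ev g w i : ℕ) :=
  rep_apW w (fun a ha => h.rep a (okW_iff.mp hw a ha)) i

theorem ev_invW (h : Gens gs g) : ∀ {w : List ℕ}, okW w = true → ev g (invW w) = (ev g w)⁻¹
  | [], _ => by simp [invW, ev_nil]
  | a :: w, hw => by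
    rw [okW_iff] at hw
    have hw' : okW w = true := okW_iff.mpr fun b hb => hw b (List.mem_cons_of_mem _ hb)
    rw [ev_cons, mul_inv_rev, ← h.ev_invW hw', ← h.inv a (hw a (List.mem_cons_self ..))]
    simp [invW, ev, List.prod_append]

theorem img_lt (w : List ℕ) : ∀ x ∈ img gs w, x < 512 := by
  intro x hx
  obtain ⟨b, hb, rfl⟩ := List.mem_map.mp hx
  refine apW_lt w ?_
  simp only [bases, List.mem_cons, List.not_mem_nil, or_false] at hb
  omega

theorem bases_lt : ∀ b ∈ bases, b < 504 := by decide

/-- The images under a word followed by a word. -/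
theorem img_append (h : Gens gs g) {u k : List ℕ} (hu : okW u = true) (hk : okW k = true) :
    (img gs k).map (apW gs u) = img gs (u ++ k) := by
  rw [img, img, List.map_map]
  refine List.map_congr_left fun b hb => ?_
  have e1 := h.ev_apW hk ⟨b, bases_lt b hb⟩
  have e2 := h.ev_apW (okW_append.mpr ⟨hu, hk⟩) ⟨b, bases_lt b hb⟩
  simp only at e1 e2
  rw [Function.comp_apply, e2, e1, ev_append, Perm.mul_apply, h.ev_apW hu]

/-- Equal images of the bases give equal elements, when the bases are faithful. -/
theorem ev_eq_of_img (h : Gens gs g)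
    (faith : ∀ w, okW w = true → (∀ b : Fin 504, (b : ℕ) ∈ bases → ev g w b = b) → ev g w = 1)
    {u w : List ℕ} (hu : okW u = true) (hw : okW w = true) (e : img gs u = img gs w) : ev g u = ev g w := by
  have h1 := faith (invW u ++ w) (okW_append.mpr ⟨okW_invW u, hw⟩) fun b hb => by
    have e' := List.map_inj_left.mp e b hb
    rw [h.ev_apW hu, h.ev_apW hw] at e'
    rw [ev_append, h.ev_invW hu, Perm.mul_apply, ← Fin.ext e']
    exact (ev g u).symm_apply_apply b
  rw [ev_append, h.ev_invW hu] at h1
  exact inv_mul_eq_one.mp h1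

/-- Keys are equal exactly when the images in a quotient by the listed kernel are. -/
theorem key_iff (h : Gens gs g)
    (faith : ∀ w, okW w = true → (∀ b : Fin 504, (b : ℕ) ∈ bases → ev g w b = b) → ev g w = 1)
    {Kw : List (List ℕ)} (hKok : ∀ k ∈ Kw, okW k = true) (hne : Kw ≠ [])
    {G : Type u} [Group G] {v : List ℕ → G}
    (hv : ∀ u w, okW u = true → okW w = true →
      (v u = v w ↔ ∃ k ∈ Kw, ev g u = ev g w * ev g k))
    {u w : List ℕ} (hu : okW u = true) (hw : okW w = true) :
    key gs (Kw.map (img gs)) u = key gs (Kw.map (img gs)) w ↔ v u = v w := by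
  set f : List ℕ → List ℕ → ℕ := fun x k => pack (img gs (x ++ k)) with hf
  have hkey : ∀ x, okW x = true → key gs (Kw.map (img gs)) x = (Kw.map (f x)).foldl Nat.min (2 ^ 64) := fun x hx => by
    rw [key, List.map_map]
    refine congrArg (List.foldl Nat.min (2 ^ 64)) (List.map_congr_left fun k hk => ?_)
    rw [Function.comp_apply, h.img_append hx (hKok k hk)]
  have hmin : ∀ x, okW x = true → ∃ k ∈ Kw, key gs (Kw.map (img gs)) x = f x k ∧ ∀ k' ∈ Kw, f x k ≤ f x k' := by
    intro x hx
    obtain ⟨h1, h2, h3⟩ := foldl_min_le (Kw.map (f x)) (2 ^ 64)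
    rw [← hkey x hx] at h1 h2 h3
    rcases h3 with h3 | h3
    · exfalso
      obtain ⟨k, hk⟩ := List.exists_mem_of_ne_nil Kw hne
      have hle := h2 _ (List.mem_map_of_mem hk)
      have hlt := pack_lt _ (img_lt (gs := gs) (x ++ k))
      rw [show (img gs (x ++ k)).length = 7 by simp [img, bases]] at hlt
      simp only [hf] at hle
      omega
    · obtain ⟨k, hk, e⟩ := List.mem_map.mp h3
      exact ⟨k, hk, e.symm, fun k' hk' => e.trans_le (h2 _ (List.mem_map_of_mem hk'))⟩
  have hfeq : ∀ {x y k k'}, okW x = true → okW y = true → k ∈ Kw → k' ∈ Kw →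
      (f x k = f y k' ↔ ev g x * ev g k = ev g y * ev g k') := by
    intro x y k k' hx hy hk hk'
    rw [← ev_append, ← ev_append]
    refine ⟨fun e => h.ev_eq_of_img faith (okW_append.mpr ⟨hx, hKok k hk⟩) (okW_append.mpr ⟨hy, hKok k' hk'⟩)
      (pack_inj _ _ (by simp [img]) (img_lt _) (img_lt _) e), fun e => ?_⟩
    refine congrArg pack (List.map_congr_left fun b hb => ?_)
    have e1 := h.ev_apW (okW_append.mpr ⟨hx, hKok k hk⟩) ⟨b, bases_lt b hb⟩
    have e2 := h.ev_apW (okW_append.mpr ⟨hy, hKok k' hk'⟩) ⟨b, bases_lt b hb⟩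
    simp only at e1 e2
    rw [e1, e2, e]
  obtain ⟨k, hk, ek, lk⟩ := hmin u hu
  obtain ⟨l, hl, el, ll⟩ := hmin w hw
  rw [ek, el]
  constructor
  · intro e
    have ee : ev g (u ++ k) = ev g (w ++ l) := by rw [ev_append, ev_append]; exact (hfeq hu hw hk hl).mp e
    have e1 : v (u ++ k) = v u := (hv _ _ (okW_append.mpr ⟨hu, hKok k hk⟩) hu).mpr ⟨k, hk, ev_append g u k⟩
    have e2 : v (u ++ k) = v w := (hv _ _ (okW_append.mpr ⟨hu, hKok k hk⟩) hw).mpr ⟨l, hl, by rw [ee, ev_append]⟩
    rw [← e1, e2]
  · intro e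
    obtain ⟨c, hc, ec⟩ := (hv u w hu hw).mp e
    -- every translate of one word is a translate of the other
    have sub : ∀ {x y : List ℕ}, okW x = true → okW y = true → v x = v y → ∀ j ∈ Kw, ∃ j' ∈ Kw, f y j' = f x j := by
      intro x y hx hy exy j hj
      have e1 : v (x ++ j) = v y :=
        ((hv _ _ (okW_append.mpr ⟨hx, hKok j hj⟩) hx).mpr ⟨j, hj, ev_append g x j⟩).trans exy
      obtain ⟨j', hj', e'⟩ := (hv _ _ (okW_append.mpr ⟨hx, hKok j hj⟩) hy).mp e1
      exact ⟨j', hj', (hfeq hy hx hj' hj).mpr (by rw [← ev_append g x j]; exact e'.symm)⟩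
    refine le_antisymm ?_ ?_
    · obtain ⟨j', hj', e'⟩ := sub hw hu e.symm l hl
      exact (lk j' hj').trans_eq e'
    · obtain ⟨j', hj', e'⟩ := sub hu hw e k hk
      exact (ll j' hj').trans_eq e'

end Gens

end CfsgON
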