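/-
Words used with the fibre product of the two fourfold covers of PSL(3, 4).
-/
import Mathlib.Data.Nat.Notation

set_option autoImplicit false

namespace CfsgON

/-- Words of the central elements, in the order of their exponent pairs. -/
def zWords : List (List ℕ) := [
  [],
  [0, 0, 0],
  [1, 1, 1],
  [3, 3, 3],
  [4, 3, 1, 3, 1, 3, 4, 0, 1, 3, 4, 0, 4, 3, 1, 0, 1, 3, 4, 0, 1, 0],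
  [4, 3, 1, 3, 4, 0, 1, 0, 4, 0, 4, 3, 4, 0, 1, 3, 1, 3, 1, 0, 1, 0],
  [1, 3, 1, 0, 1, 0, 4, 3, 1, 3, 4, 0, 1, 0, 4, 0, 4, 3, 4, 0, 1, 0, 0],
  [4, 3, 4, 0, 1, 3, 4, 3, 1, 0, 4, 0, 1, 3, 4, 0, 1, 3, 1, 3, 1, 0],
  [4, 0, 4, 0, 4, 0, 4, 0, 4, 0, 4, 0, 4, 0],
  [1, 3, 1, 3, 1, 3, 1, 3, 1, 3, 1, 3, 1, 0, 0],
  [4, 0, 4, 0, 4, 0, 4, 0, 4, 0, 4, 0, 1, 1, 0],
  [4, 3, 3, 4, 0, 4, 0, 4, 0, 4, 0, 4, 0, 4, 0],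
  [1, 3, 4, 0, 4, 3, 1, 0, 1, 3, 1, 3, 4, 3, 1, 0, 4, 0, 4, 0, 1, 0],
  [4, 3, 1, 0, 1, 3, 4, 0, 4, 0, 4, 3, 1, 0, 4, 3, 1, 3, 4, 0, 1, 0],
  [4, 0, 4, 0, 4, 3, 1, 0, 4, 3, 1, 3, 4, 0, 1, 0, 4, 3, 1, 0, 1, 0, 0],
  [1, 3, 1, 3, 4, 3, 1, 0, 4, 0, 1, 3, 4, 3, 4, 0, 4, 0, 4, 3, 1, 0]]

/-- Two pairs of words with central commutators. -/
def cWords : List (List ℕ) := [[1, 3, 1, 0, 1, 3, 4, 0, 1, 3, 1, 3], [3, 4, 0, 1, 3, 4, 3, 1, 0, 1, 3, 4], [4, 3, 4, 3, 1, 0, 1, 3, 4, 3, 1, 3, 1], [4, 0, 4, 3, 1, 0, 4, 0, 4, 3, 4, 3]]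

/-- The conjugates of the inner letters under the outer permutations, as words. -/
def conjWords : List (List (List ℕ)) := [
  [[3, 4, 3, 1, 0, 1, 3, 1, 0, 4, 0, 1, 3, 1, 3, 1, 0, 1], [1, 3, 1, 3, 1, 0, 4, 0, 1, 0, 1, 3, 1, 1, 0], [4, 3, 1, 0, 1, 3, 1, 0, 4, 0, 1, 3, 1, 3, 1, 0, 1, 0], [3, 1, 0, 4, 3, 4, 3, 1, 3, 4, 0, 4, 0, 1, 1]],
  [[1, 3, 3, 4, 0, 4, 0, 4, 3, 1, 3, 1, 0, 1, 0], [3, 1, 3, 4, 3, 1, 3, 3, 1, 3, 4, 0, 4, 0, 1, 3, 1], [0, 4, 3, 1, 0, 4, 3, 1, 0, 1, 3, 4, 3, 1, 3], [1, 3, 3, 1, 3, 4, 3, 1, 0, 4, 3, 1, 3, 1, 0, 1, 0]],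
  [[3, 4, 0, 4, 0, 4, 0, 4, 3, 1, 0, 1, 1, 3, 1, 0, 1, 0], [1, 3, 4, 0, 1, 0, 4, 3, 4, 0, 4, 3, 1, 3, 4], [0, 4, 3, 1, 3, 1, 0, 1, 0, 4, 3, 1, 0, 1, 3, 1, 0, 0], [1, 0, 4, 0, 1, 3, 1, 0, 1, 3, 4, 3, 1, 0, 4]]]

end CfsgON
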