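/-
Kernel checks for the fibre product on 504 points.
-/
import Cfsg.Agent.Lib.ONRecog.Engine
import Cfsg.Agent.Lib.ONRecog.PData
import Cfsg.Agent.Lib.ONRecog.PWords
import Cfsg.Agent.Lib.StemSylow.PlaneFourData

set_option autoImplicit false
set_option maxRecDepth 30000
set_option maxHeartbeats 400000

namespace CfsgON

open CfsgPC

/-- The six letters for the outer permutation number `i`. -/
def gsX (i : ℕ) : List ℕ :=
  [(pGens.getD 0 (0, 0)).1, (pGens.getD 1 (0, 0)).1, (xGens.getD i (0, 0)).1,
    (pGens.getD 0 (0, 0)).2, (pGens.getD 1 (0, 0)).2, (xGens.getD i (0, 0)).2]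

/-- A word in the inner letters. -/
def okP (w : List ℕ) : Bool := w.all fun a => Nat.blt a 6 && !Nat.beq (a % 3) 2

theorem perm_ok : (pGens.all fun c => isPerm 504 c.1 c.2 && isPerm 504 c.2 c.1) = true ∧ pGens.length = 2 ∧
    (xGens.all fun c => isPerm 504 c.1 c.2 && isPerm 504 c.2 c.1) = true ∧ xGens.length = 3 := by decide +kernel

theorem shape_ok : shapeOK 504 pChain (pGens.map Prod.fst) = true ∧
    (pChain.map fun L => L.tr.length) = [21, 20, 16, 3, 4, 4] ∧ sizeOfChain pChain = 322560 ∧
    pChain.map Level.base = [2, 3, 4, 5, 24, 272] ∧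
    ((gensAt 504 pChain (pGens.map Prod.fst) 6).all fun c => (List.range 504).all fun i => Nat.beq (ap c i) i) = true := by
  decide +kernel

theorem entries0 : entriesOK 504 pChain (pGens.map Prod.fst) 0 0 21 = true := by decide +kernel
theorem closed0 : closedOK 504 pChain (pGens.map Prod.fst) 0 0 21 = true := by decide +kernel
theorem entries1 : entriesOK 504 pChain (pGens.map Prod.fst) 1 0 20 = true := by decide +kernel
theorem closed1 : closedOK 504 pChain (pGens.map Prod.fst) 1 0 20 = true := by decide +kernel
theorem entries2 : entriesOK 504 pChain (pGens.map Prod.fst) 2 0 16 = true := by decide +kernel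
theorem closed2 : closedOK 504 pChain (pGens.map Prod.fst) 2 0 16 = true := by decide +kernel
theorem entries3 : entriesOK 504 pChain (pGens.map Prod.fst) 3 0 3 = true := by decide +kernel
theorem closed3 : closedOK 504 pChain (pGens.map Prod.fst) 3 0 3 = true := by decide +kernel
theorem entries4 : entriesOK 504 pChain (pGens.map Prod.fst) 4 0 4 = true := by decide +kernel
theorem closed4 : closedOK 504 pChain (pGens.map Prod.fst) 4 0 4 = true := by decide +kernel
theorem entries5 : entriesOK 504 pChain (pGens.map Prod.fst) 5 0 4 = true := by decide +kernel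
theorem closed5 : closedOK 504 pChain (pGens.map Prod.fst) 5 0 4 = true := by decide +kernel

/-- The first 24 points carry the projection, and the last eight points are fixed by the inner letters. -/
theorem top_ok : ((List.range 24).all fun i =>
    Nat.beq (ap (pGens.getD 0 (0, 0)).1 i) (ap (CfsgLib.StemSylow.PlaneFour.smallGens.getD 0 (0, 0)).1 i) &&
    Nat.beq (ap (pGens.getD 1 (0, 0)).1 i) (ap (CfsgLib.StemSylow.PlaneFour.smallGens.getD 1 (0, 0)).1 i)) = true ∧
    ((List.range 8).all fun i => Nat.beq (ap (pGens.getD 0 (0, 0)).1 (496 + i)) (496 + i) &&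
    Nat.beq (ap (pGens.getD 1 (0, 0)).1 (496 + i)) (496 + i)) = true := by decide +kernel

/-- The outer permutations step the last eight points and have order eight. -/
def outerOK (i : ℕ) : Bool :=
  ((List.range 8).all fun k => Nat.beq (ap (xGens.getD i (0, 0)).1 (496 + k)) (496 + (k + 1) % 8)) &&
    ((List.range 504).all fun p => Nat.beq (apW (gsX i) [2, 2, 2, 2, 2, 2, 2, 2] p) p) &&
    ((List.range 504).all fun p => [0, 1, 3, 4].all fun a =>
      Nat.beq (apW (gsX i) [2, a, 5] p) (apW (gsX i) ((conjWords.getD i []).getD (List.idxOf a [0, 1, 3, 4]) []) p)) &&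
    ((List.range 504).all fun p => [0, 1].all fun a => Nat.beq (apW (gsX i) [2, 2, a] p) (apW (gsX i) [a, 2, 2] p)) &&
    ((conjWords.getD i []).all okP) && Nat.beq (conjWords.getD i []).length 4

theorem outer0 : outerOK 0 = true := by decide +kernel
theorem outer1 : outerOK 1 = true := by decide +kernel
theorem outer2 : outerOK 2 = true := by decide +kernel

theorem z_shape : (zWords.all okP && cWords.all okP && Nat.beq cWords.length 4 && Nat.beq zWords.length 16) = true := by
  decide +kernel

/-- The central words project trivially, commute with the letters, differ, and multiply as exponent pairs. -/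
theorem z_top : (zWords.all fun w => (List.range 24).all fun i => Nat.beq (apW (gsX 0) w i) i) = true := by
  decide +kernel

theorem z_comm : (zWords.all fun w => [0, 1].all fun a => (List.range 504).all fun i =>
    Nat.beq (apW (gsX 0) (w ++ [a]) i) (apW (gsX 0) (a :: w) i)) = true := by decide +kernel

theorem z_nodup : decide ((zWords.map fun w => pack (img (gsX 0) w)).Nodup) = true := by decide +kernel

theorem z_mul : ((List.range 16).all fun a => (List.range 16).all fun b =>
    Nat.beq (pack (img (gsX 0) (zWords.getD a [] ++ zWords.getD b [])))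
      (pack (img (gsX 0) (zWords.getD ((a / 4 + b / 4) % 4 * 4 + (a + b) % 4) [])))) = true := by decide +kernel

/-- The commutators of the chosen pairs. -/
theorem z_commutators : ([(0, 4), (2, 1)].all fun p =>
    Nat.beq (pack (img (gsX 0) (cWords.getD p.1 [] ++ cWords.getD (p.1 + 1) [] ++
      invW (cWords.getD p.1 []) ++ invW (cWords.getD (p.1 + 1) []))))
      (pack (img (gsX 0) (zWords.getD p.2 [])))) = true := by decide +kernel

end CfsgON
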