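/-
Kernel checks for the automorphisms of PSL(3, 4).
-/
import Cfsg.Agent.Lib.ONRecog.PChecks
import Cfsg.Agent.Lib.ONRecog.OutData

set_option autoImplicit false
set_option maxRecDepth 30000
set_option maxHeartbeats 400000

namespace CfsgON

open CfsgPC

/-- The linear combination of two exponent pairs. -/
def comb (a b n : ℕ) : ℕ :=
  ((n / 4 * (a / 4) + n % 4 * (b / 4)) % 4) * 4 + (n / 4 * (a % 4) + n % 4 * (b % 4)) % 4

theorem out_shape : (Nat.beq outPerm.length 24 && (List.range 24).all (fun i => Nat.blt (outPerm.getD i 24) 24) &&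
    decide outPerm.Nodup && outGens.all okP && outPairs.all okP && Nat.beq outGens.length 2 &&
    Nat.beq outPairs.length 4) = true := by decide +kernel

theorem out_gens : ((List.range 24).all fun i => [0, 1].all fun a =>
    Nat.beq (apW (gsX 0) (outGens.getD a []) (outPerm.getD i 0)) (outPerm.getD (apW (gsX 0) [a] i) 0)) = true := by
  decide +kernel

theorem out_pairs : ((List.range 24).all fun i => (List.range 4).all fun a =>
    Nat.beq (apW (gsX 0) (outPairs.getD a []) (outPerm.getD i 0))
      (outPerm.getD (apW (gsX 0) (cWords.getD a []) i) 0)) = true := by decide +kernel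

theorem out_comm : ([(0, (outActs.getD 3 (0, 0)).1), (2, (outActs.getD 3 (0, 0)).2)].all fun p =>
    Nat.beq (pack (img (gsX 0) (outPairs.getD p.1 [] ++ outPairs.getD (p.1 + 1) [] ++
      invW (outPairs.getD p.1 []) ++ invW (outPairs.getD (p.1 + 1) []))))
      (pack (img (gsX 0) (zWords.getD p.2 [])))) = true := by decide +kernel

theorem out_x : ((List.range 3).all fun i => [(4, (outActs.getD i (0, 0)).1), (1, (outActs.getD i (0, 0)).2)].all fun p =>
    Nat.beq (pack (img (gsX i) ([2] ++ zWords.getD p.1 [] ++ [5])))
      (pack (img (gsX i) (zWords.getD p.2 [])))) = true := by decide +kernel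

theorem out_table : (Nat.beq outWords.length 12 && Nat.beq outTable.length 12 && Nat.beq outActs.length 4 &&
    (outWords.all fun w => w.all fun a => Nat.blt a 4) &&
    (outActs.all fun A => Nat.blt A.1 16 && Nat.blt A.2 16) &&
    decide (outTable.Nodup) &&
    (List.range 12).all (fun k =>
      decide ((outWords.getD k []).foldr
        (fun a A => (comb (outActs.getD a (0, 0)).1 (outActs.getD a (0, 0)).2 A.1,
          comb (outActs.getD a (0, 0)).1 (outActs.getD a (0, 0)).2 A.2)) (4, 1) = outTable.getD k (0, 0)))) = true := by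
  decide +kernel

end CfsgON
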