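/-
The possible involution centralisers: a kind of cover, an outer permutation and a square of the outer element.
-/
import Cfsg.Agent.Lib.ONRecog.PChecks
import Cfsg.Agent.Lib.ONRecog.OutChecks

set_option autoImplicit false
set_option maxRecDepth 30000
set_option maxHeartbeats 400000

namespace CfsgON

/-- The value of a character of the centre at an exponent pair. -/
def fval (f : ℕ × ℕ) (a : ℕ) : ℕ := (f.1 * (a / 4) + f.2 * (a % 4)) % 4

/-- The two characters. -/
def kind (o : ℕ) : ℕ × ℕ := if o = 0 then (1, 3) else (1, 1)

/-- Central exponent pairs with outer exponents that a character and a square kill. -/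
def kPairs (o j : ℕ) : List (ℕ × ℕ) :=
  ((List.range 16).flatMap fun a => (List.range 4).map fun r => (a, r)).filter fun p =>
    (fval (kind o) p.1 + p.2 * j) % 4 == 0

/-- The kernel as words. -/
def kWords (o j : ℕ) : List (List ℕ) := (kPairs o j).map fun p => zWords.getD p.1 [] ++ List.replicate (2 * p.2) 2

/-- The three outer permutations are compatible with a case. -/
def caseList : List (ℕ × ℕ × ℕ) :=
  [(0, 0, 0), (0, 0, 1), (0, 1, 0), (0, 1, 2), (0, 2, 0), (0, 2, 2),
   (1, 0, 0), (1, 0, 2), (1, 1, 0), (1, 1, 2), (1, 2, 0), (1, 2, 1)]

/-- Any character taking a unit value is one of the two after a representative and a unit. -/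
theorem reduce_kind : ((List.range 4).all fun p => (List.range 4).all fun q => (p % 2 == 0 && q % 2 == 0) ||
    (List.range 12).any fun k => (List.range 2).any fun o => [1, 3].any fun u => (List.range 16).all fun a =>
      fval (p, q) (comb (outTable.getD k (0, 0)).1 (outTable.getD k (0, 0)).2 a) == (u * fval (kind o) a) % 4) = true := by
  decide +kernel

/-- An outer automorphism respecting a character is one of the three permutations. -/
theorem reduce_outer : ((List.range 12).all fun k => (List.range 2).all fun o => [1, 3].all fun s =>
    let A := outTable.getD k (0, 0)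
    !((List.range 16).all fun a => fval (kind o) (comb A.1 A.2 a) == (s * fval (kind o) a) % 4) ||
    !(comb A.1 A.2 A.1 == 4 && comb A.1 A.2 A.2 == 1) || k == 0 ||
    (List.range 3).any fun i => outTable.getD k (0, 0) == outActs.getD i (0, 0) &&
      (List.range 4).all fun j => !((s * j) % 4 == j) || caseList.any fun c => c.1 == o && c.2.1 == i &&
        (List.range 16).any fun a => (j + (s + 1) * fval (kind o) a) % 4 == c.2.2) = true := by
  decide +kernel

theorem out_zero : (outWords.getD 0 [2] == []) = true := by decide +kernel

end CfsgON
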