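/-
A quicker way to compute keys: the images of the few distinct points are packed once and then selected.
-/
import Cfsg.Agent.Lib.ONRecog.Engine

set_option autoImplicit false
set_option maxHeartbeats 400000

namespace CfsgON

open CfsgPC

/-- Continue with the value of a number. -/
noncomputable def frc {α : Type} (n : ℕ) (k : ℕ → α) : α := Nat.rec (k 0) (fun j _ => k (Nat.succ j)) n

theorem frc_eq {α : Type} (n : ℕ) (k : ℕ → α) : frc n k = k n := by cases n <;> rfl

/-- The image of a point. -/
noncomputable def apR (gs : List ℕ) (w : List ℕ) (i : ℕ) : ℕ :=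
  List.rec i (fun a _ r => Nat.mod (Nat.shiftRight (gs.getD a 0) (Nat.mul 9 r)) 512) w

theorem apR_eq (gs : List ℕ) : ∀ (w : List ℕ) (i : ℕ), apR gs w i = apW gs w i
  | [], _ => rfl
  | a :: w, i => by
    show Nat.mod (Nat.shiftRight (gs.getD a 0) (Nat.mul 9 (apR gs w i))) 512 = _
    rw [apR_eq gs w i]
    rfl

/-- The images of some points in one number, the first one lowest. -/
noncomputable def imgR (gs : List ℕ) (w : List ℕ) (ps : List ℕ) : ℕ :=
  List.rec 0 (fun p _ r => frc r fun R => frc (apR gs w p) fun x => Nat.add (Nat.mul R 512) x) ps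

theorem imgR_cons (gs w : List ℕ) (p : ℕ) (ps : List ℕ) :
    imgR gs w (p :: ps) = imgR gs w ps * 512 + apW gs w p := by
  show frc (imgR gs w ps) (fun R => frc (apR gs w p) fun x => Nat.add (Nat.mul R 512) x) = _
  rw [frc_eq, frc_eq, apR_eq]
  rfl

theorem imgR_get (gs w : List ℕ) : ∀ (ps : List ℕ), (∀ p ∈ ps, p < 512) → ∀ k < ps.length,
    imgR gs w ps >>> (9 * k) % 512 = apW gs w (ps.getD k 0)
  | [], _, k, hk => absurd hk (Nat.not_lt_zero k)
  | p :: ps, h, 0, _ => by
    have := apW_lt (gs := gs) w (h p (List.mem_cons_self ..))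
    rw [imgR_cons, Nat.mul_zero, Nat.shiftRight_zero, List.getD_cons_zero]
    omega
  | p :: ps, h, k + 1, hk => by
    have hp := apW_lt (gs := gs) w (h p (List.mem_cons_self ..))
    have e : (imgR gs w ps * 512 + apW gs w p) >>> (9 * (k + 1)) = imgR gs w ps >>> (9 * k) := by
      rw [show 9 * (k + 1) = 9 + 9 * k by omega, Nat.shiftRight_add]
      congr 1
      rw [Nat.shiftRight_eq_div_pow]
      omega
    rw [imgR_cons, e, List.getD_cons_succ]
    exact imgR_get gs w ps (fun q hq => h q (List.mem_cons_of_mem _ hq)) k (by simpa using hk)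

/-- Selected parts of a packed number, packed again. -/
noncomputable def selR (P : ℕ) (ix : List ℕ) : ℕ :=
  List.rec (motive := fun _ => ℕ → ℕ) (fun acc => acc)
    (fun p _ r acc => frc (Nat.add (Nat.mul acc 512) (Nat.mod (Nat.shiftRight P (Nat.mul 9 p)) 512)) r) ix 0

theorem selR_eq (P : ℕ) (ix : List ℕ) : selR P ix = pack (ix.map fun p => P >>> (9 * p) % 512) := by
  have key : ∀ (l : List ℕ) (acc : ℕ), List.rec (motive := fun _ => ℕ → ℕ) (fun acc => acc)
      (fun p _ r acc => frc (Nat.add (Nat.mul acc 512) (Nat.mod (Nat.shiftRight P (Nat.mul 9 p)) 512)) r) l acc =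
      (l.map fun p => P >>> (9 * p) % 512).foldl (fun acc b => acc * 512 + b) acc := by
    intro l
    induction l with
    | nil => intro acc; rfl
    | cons p l ih =>
      intro acc
      show frc _ _ = _
      rw [frc_eq, ih]
      rfl
  exact key ix 0

/-- The key from the distinct points and the selections. -/
noncomputable def fkeyFrom (B : ℕ) (gs pts : List ℕ) (sel : List (List ℕ)) (w : List ℕ) : ℕ :=
  frc (imgR gs w pts) fun P =>
    List.rec B (fun ix _ r => frc r fun R => frc (selR P ix) fun x => if Nat.ble R x then R else x) sel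

/-- The key. -/
noncomputable def fkey (gs pts : List ℕ) (sel : List (List ℕ)) (w : List ℕ) : ℕ := fkeyFrom (2 ^ 64) gs pts sel w

/-- The selections describe the translates. -/
def selOK (pts : List ℕ) (sel : List (List ℕ)) (Kp : List (List ℕ)) : Bool :=
  ((sel.map fun ix => ix.map fun p => pts.getD p 0) == Kp) && (sel.all fun ix => ix.all fun p => Nat.blt p pts.length) &&
    (pts.all fun p => Nat.blt p 512)

theorem fkey_eq (gs : List ℕ) {pts : List ℕ} {sel Kp : List (List ℕ)} (h : selOK pts sel Kp = true) (w : List ℕ) :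
    fkey gs pts sel w = key gs Kp w := by
  suffices hB : ∀ B : ℕ, fkeyFrom B gs pts sel w = (Kp.map fun ps => pack (ps.map (apW gs w))).foldl Nat.min B from
    hB (2 ^ 64)
  intro B
  simp only [selOK, Bool.and_eq_true, beq_iff_eq, List.all_eq_true, Nat.blt_eq] at h
  obtain ⟨⟨hK, hlen⟩, hp⟩ := h
  have hrec : ∀ (l : List (List ℕ)), (∀ ix ∈ l, ∀ p ∈ ix, p < pts.length) →
      List.rec (motive := fun _ => ℕ) B (fun ix _ r => frc r fun R => frc (selR (imgR gs w pts) ix) fun x =>
        if Nat.ble R x then R else x) l =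
      (l.map fun ix => pack ((ix.map fun p => pts.getD p 0).map (apW gs w))).foldr Nat.min B := by
    intro l hl
    induction l with
    | nil => rfl
    | cons ix l ih =>
      have hsel : selR (imgR gs w pts) ix = pack ((ix.map fun p => pts.getD p 0).map (apW gs w)) := by
        rw [selR_eq, List.map_map]
        refine congrArg pack (List.map_congr_left fun p hpx => ?_)
        exact imgR_get gs w pts hp p (hl ix (List.mem_cons_self ..) p hpx)
      show frc _ _ = _
      rw [frc_eq, frc_eq, hsel, ih fun j hj => hl j (List.mem_cons_of_mem _ hj), List.map_cons, List.foldr_cons]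
      simp only [Nat.ble_eq]
      show _ = min _ _
      split_ifs with hle <;> omega
  rw [fkeyFrom, frc_eq, hrec sel hlen, ← hK, List.map_map]
  have hfr : ∀ l : List ℕ, l.foldr Nat.min B = l.foldl Nat.min B := fun l =>
    (List.foldl_eq_foldr (f := Nat.min) (a := B) (l := l)).symm
  rw [hfr]
  rfl

end CfsgON
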