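/-
Checks on the fusion data of one possible involution centraliser.
-/
import Cfsg.Agent.Lib.ONRecog.Fast
import Cfsg.Agent.Lib.ONRecog.CaseData
import Cfsg.Agent.Lib.ONRecog.PChecks

set_option autoImplicit false
set_option maxHeartbeats 400000

namespace CfsgON

open CfsgPC

/-- An outer class: a representative, an element of order three commuting with it, and two conjugators. -/
structure OutRep where
  rep : List ℕ
  three : List ℕ
  left : List ℕ
  right : List ℕ

/-- The letters of a packed word. -/
def decW : ℕ → ℕ → List ℕ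
  | 0, _ => []
  | f + 1, x => if Nat.beq x 0 then [] else (x % 8 - 1) :: decW f (x / 8)

/-- An entry of a packed array. -/
def arr (w P i : ℕ) : ℕ := (Nat.shiftRight P (w * i)) % 2 ^ w

/-- A word of a packed array. -/
def warr (P i : ℕ) : List ℕ := decW 16 (arr 48 P i)

/-- The fusion data of one case. -/
structure FData where
  c : ℕ × ℕ × ℕ
  pts : List ℕ
  sel : List (List ℕ)
  sgens : List (List ℕ)
  s : ℕ → List ℕ
  sKey : ℕ → ℕ
  mv : ℕ → ℕ → ℕ
  par : ℕ → ℕ × ℕ
  srt : ℕ → ℕ
  cls : ℕ → List ℕ × ℕ
  u : List ℕ
  r : ℕ → List ℕ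
  rKey : ℕ → ℕ
  cw : ℕ → List ℕ
  cKey : ℕ → ℕ
  sqList : List ℕ
  sqKeys : List ℕ
  outs : List OutRep
  zroot : ℕ

/-- Strictly increasing. -/
def increasing : List ℕ → Bool
  | [] => true
  | [_] => true
  | a :: b :: l => Nat.blt a b && increasing (b :: l)

/-- Strictly increasing on the numbers below a bound. -/
def incF (f : ℕ → ℕ) (n : ℕ) : Bool := (List.range (n - 1)).all fun i => Nat.blt (f i) (f (i + 1))

/-- The conjugate word. -/
def cjW (w x : List ℕ) : List ℕ := w ++ x ++ invW w

namespace FData

/-- The key of a word. -/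
noncomputable def K (D : FData) (w : List ℕ) : ℕ := fkey (gsX D.c.2.1) D.pts D.sel w

/-- The class representatives. -/
def reps (D : FData) : List (List ℕ) := D.u :: D.outs.map OutRep.rep

/-- The elements of the centraliser. -/
def rList (D : FData) : List (List ℕ) := (List.range 256).map D.r

/-- The shape of the data. -/
noncomputable def shapeChk (D : FData) : Bool :=
  caseList.contains D.c && selOK D.pts D.sel ((kWords D.c.1 D.c.2.2).map (img (gsX D.c.2.1))) &&
  D.sgens.all okW && (List.range 512).all (fun i => okW (D.s i) && okW (D.cls i).1) && okW D.u && parW D.u &&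
  (List.range 256).all (fun i => okW (D.r i)) && (List.range 630).all (fun i => okW (D.cw i)) &&
  D.outs.all (fun o => okW o.rep && !parW o.rep && okW o.three && okW o.left && okW o.right)

/-- The keys of the Sylow subgroup. -/
noncomputable def sylChk (D : FData) : Bool :=
  (List.range 512).all (fun i => Nat.beq (D.K (D.s i)) (D.sKey i)) && Nat.beq (D.K []) (D.sKey 0) &&
  incF (fun i => D.sKey (D.srt i)) 512 && (List.range 512).all (fun i => Nat.blt (D.srt i) 512) &&
  (List.range 511).all (fun i =>
    let p := D.par i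
    Nat.blt p.1 D.sgens.length && Nat.ble p.2 i && Nat.beq (D.mv p.1 p.2) (i + 1))

/-- The generators permute the list. -/
noncomputable def closChk (D : FData) : Bool :=
  (List.range D.sgens.length).all fun g => (List.range 512).all fun i =>
    Nat.blt (D.mv g i) 512 && Nat.beq (D.K (D.sgens.getD g [] ++ D.s i)) (D.sKey (D.mv g i))

/-- Every involution of the Sylow subgroup is accounted for. -/
noncomputable def clsChk (D : FData) : Bool :=
  let k1 := D.K []
  let kt := D.K (zWords.getD 8 [])
  (List.range 512).all fun i =>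
    !Nat.beq (D.K (D.s i ++ D.s i)) k1 || Nat.beq (D.sKey i) k1 || Nat.beq (D.sKey i) kt ||
      (Nat.blt (D.cls i).2 D.reps.length && Nat.beq (D.K (cjW (D.cls i).1 (D.s i))) (D.K (D.reps.getD (D.cls i).2 [])))

/-- The centraliser of the inner representative. -/
noncomputable def centChk (D : FData) : Bool :=
  let k1 := D.K []
  Nat.beq (D.K (D.u ++ D.u)) k1 && !Nat.beq (D.K D.u) k1 && !Nat.beq (D.K D.u) (D.K (zWords.getD 8 [])) &&
  (List.range 256).all (fun i => Nat.beq (D.K (D.r i)) (D.rKey i) && Nat.beq (D.K (D.r i ++ D.u)) (D.K (D.u ++ D.r i))) &&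
  incF D.rKey 256 && (List.range 630).all (fun i => Nat.beq (D.K (cjW (D.cw i) D.u)) (D.cKey i)) && incF D.cKey 630

/-- A central square root of the central involution. -/
noncomputable def rootChk (D : FData) : Bool :=
  let z := zWords.getD D.zroot []
  Nat.blt D.zroot 16 && Nat.beq (D.K (z ++ z)) (D.K (zWords.getD 8 [])) &&
    [0, 1, 2].all (fun a => Nat.beq (D.K (a :: z)) (D.K (z ++ [a])))

/-- The outer representatives. -/
noncomputable def outChk (D : FData) : Bool :=
  let k1 := D.K []
  D.outs.all fun o =>
    let x := o.rep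
    let w := o.three
    Nat.beq (D.K (x ++ x)) k1 && Nat.beq (D.K (w ++ w ++ w)) k1 && !Nat.beq (D.K w) k1 &&
      Nat.beq (D.K (w ++ x)) (D.K (x ++ w)) &&
      (D.rootChk ||
        (let y₁ := cjW o.left x
         let y₂ := cjW o.right x
         Nat.beq (D.K (y₁ ++ x)) (D.K (x ++ y₁)) && Nat.beq (D.K (y₂ ++ x)) (D.K (x ++ y₂)) &&
         !Nat.beq (D.K y₁) (D.K x) && !Nat.beq (D.K y₂) (D.K x) &&
         Nat.beq (D.K (y₁ ++ y₂)) (D.K (zWords.getD 8 []))))

/-- The listed squares in the centraliser are all of them. -/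
noncomputable def sqChk (D : FData) : Bool :=
  increasing D.sqKeys && (D.sqList.map (fun i => D.K (D.r i ++ D.r i)) == D.sqKeys) &&
    D.sqList.all (fun i => Nat.blt i 256) && D.rList.all (fun r => D.sqKeys.contains (D.K (r ++ r)))

/-- The roots of a word in the centraliser. -/
noncomputable def roots (D : FData) (z : List ℕ) : List (List ℕ) :=
  D.rList.filter fun r => Nat.beq (D.K (r ++ r)) (D.K z)

/-- The commuting pairs of a root and a square. -/
noncomputable def pairs (D : FData) (z : List ℕ) : ℕ :=
  ((D.roots z).map fun r => D.sqList.countP fun i =>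
    Nat.beq (D.K (r ++ (D.r i ++ D.r i))) (D.K (D.r i ++ D.r i ++ r))).sum

/-- The case is impossible or the expected one. -/
noncomputable def elimChk (D : FData) : Bool :=
  D.c == (0, 1, 0) || !Nat.beq (D.roots (zWords.getD 8 [])).length (D.roots D.u).length ||
    (D.sqChk && !Nat.beq (D.pairs (zWords.getD 8 [])) (D.pairs D.u))

/-- No involution of the Sylow subgroup but the central one is central in it. -/
noncomputable def zsChk (D : FData) : Bool :=
  let k1 := D.K []
  let kt := D.K (zWords.getD 8 [])
  (List.range 512).all fun i =>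
    let s := D.s i
    !Nat.beq (D.K (s ++ s)) k1 || Nat.beq (D.sKey i) k1 || Nat.beq (D.sKey i) kt ||
      D.sgens.any (fun g => !Nat.beq (D.K (g ++ s)) (D.K (s ++ g)))

end FData

end CfsgON
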