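/-
The fibre product of the two fourfold covers of PSL(3, 4) as a group on 504 points, and its extensions by outer
permutations with a tag of order eight.
-/
import Cfsg.Agent.Lib.ONRecog.PChecks
import Cfsg.Agent.Lib.StemSylow.PlaneFourModel
import Cfsg.Agent.Lib.PermChain.Schur

set_option autoImplicit false
set_option maxRecDepth 30000
set_option maxHeartbeats 400000
set_option linter.unusedSectionVars false

namespace CfsgON

open Equiv CfsgPC CfsgLib.StemSylow.PlaneFour
open scoped commutatorElement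

attribute [local irreducible] pGens xGens pChain smallChain smallGens zWords cWords conjWords

/-- The permutations of the letters. -/
noncomputable def gen (i a : ℕ) : Perm (Fin 504) := decP 504 ((gsX i).getD a 0)

theorem gens_ok {i : ℕ} (hi : i < 3) : Gens (gsX i) (gen i) := by
  obtain ⟨hp, hpl, hx, hxl⟩ := perm_ok
  have hp0 := List.all_eq_true.mp hp _ (List.getElem_mem (show 0 < pGens.length by omega))
  have hp1 := List.all_eq_true.mp hp _ (List.getElem_mem (show 1 < pGens.length by omega))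
  have hxi := List.all_eq_true.mp hx _ (List.getElem_mem (show i < xGens.length by omega))
  rw [Bool.and_eq_true] at hp0 hp1 hxi
  rw [← List.getD_eq_getElem (d := (0, 0))] at hp0 hp1 hxi
  have hr : ∀ a < 6, Rep 504 ((gsX i).getD a 0) (gen i a) ∧
      isPerm 504 ((gsX i).getD a 0) ((gsX i).getD (invL a) 0) = true := by
    intro a ha
    have key : ∀ c d, isPerm 504 c d = true → (gsX i).getD a 0 = c → (gsX i).getD (invL a) 0 = d →
        Rep 504 ((gsX i).getD a 0) (gen i a) ∧ isPerm 504 ((gsX i).getD a 0) ((gsX i).getD (invL a) 0) = true := by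
      rintro c d h e1 e2
      rw [gen, e1, e2]
      exact ⟨decP_rep h, h⟩
    interval_cases a
    exacts [key _ _ hp0.1 rfl rfl, key _ _ hp1.1 rfl rfl, key _ _ hxi.1 rfl rfl, key _ _ hp0.2 rfl rfl,
      key _ _ hp1.2 rfl rfl, key _ _ hxi.2 rfl rfl]
  refine ⟨fun a ha => (hr a ha).1, fun a ha => ?_⟩
  exact decP_eq (rep_inv (by norm_num) (hr a ha).1 (hr a ha).2)

theorem gen_inner (i : ℕ) {a : ℕ} (ha : a ∈ [0, 1, 3, 4]) : gen i a = gen 0 a := by
  simp only [List.mem_cons, List.not_mem_nil, or_false] at ha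
  rcases ha with rfl | rfl | rfl | rfl <;> rfl

theorem okP_iff {w : List ℕ} : okP w = true ↔ ∀ a ∈ w, a ∈ [0, 1, 3, 4] := by
  simp only [okP, List.all_eq_true, Bool.and_eq_true, Nat.blt_eq, Bool.not_eq_true', List.mem_cons, List.not_mem_nil,
    or_false]
  refine forall₂_congr fun a _ => ?_
  constructor
  · rintro ⟨h, h'⟩
    interval_cases a <;> simp at h' ⊢
  · rintro (rfl | rfl | rfl | rfl) <;> exact ⟨by norm_num, rfl⟩

theorem okW_of_okP {w : List ℕ} (h : okP w = true) : okW w = true :=
  okW_iff.mpr fun a ha => by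
    have := okP_iff.mp h a ha
    simp only [List.mem_cons, List.not_mem_nil, or_false] at this
    omega

theorem okP_append {u w : List ℕ} : okP (u ++ w) = true ↔ okP u = true ∧ okP w = true := by
  simp only [okP_iff, List.mem_append]
  exact ⟨fun h => ⟨fun a ha => h a (.inl ha), fun a ha => h a (.inr ha)⟩, fun h a ha => ha.elim (h.1 a) (h.2 a)⟩

theorem okP_invW {w : List ℕ} (h : okP w = true) : okP (invW w) = true := by
  rw [okP_iff] at h ⊢
  intro a ha
  obtain ⟨b, hb, rfl⟩ := List.mem_map.mp ha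
  have := h b (List.mem_reverse.mp hb)
  simp only [List.mem_cons, List.not_mem_nil, or_false] at this ⊢
  rcases this with rfl | rfl | rfl | rfl <;> decide

theorem ev_inner (i : ℕ) {w : List ℕ} (h : okP w = true) : ev (gen i) w = ev (gen 0) w :=
  congrArg List.prod (List.map_congr_left fun a ha => gen_inner i (okP_iff.mp h a ha))

/-- The fibre product. -/
noncomputable def PC : Subgroup (Perm (Fin 504)) := genG 504 (pGens.map Prod.fst)

theorem pc_table : Valid 504 (pGens.map Prod.fst) ∧ TableOK 504 pChain (pGens.map Prod.fst) ∧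
    prodSet 504 pChain = genG 504 (pGens.map Prod.fst) ∧ Nat.card PC = 322560 := by
  obtain ⟨hp, -, -, -⟩ := perm_ok
  obtain ⟨hsh, hlens, hsz, -, hlast⟩ := shape_ok
  have hv : Valid 504 (pGens.map Prod.fst) := fun c hc => by
    obtain ⟨d, hd, rfl⟩ := List.mem_map.mp hc
    have h := List.all_eq_true.mp hp d hd
    rw [Bool.and_eq_true] at h
    exact ⟨_, decP_rep h.1⟩
  have hl : pChain.length = 6 := by simpa using congrArg List.length hlens
  have hb : ∀ j < pChain.length, ∀ k < (pChain.getD j ⟨0, [], [], []⟩).tr.length,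
      k < [21, 20, 16, 3, 4, 4].getD j 0 := fun j hj k hk => by
    rw [← hlens, List.getD_eq_getElem _ _ (by simpa using hj), List.getElem_map]
    rwa [List.getD_eq_getElem _ _ hj] at hk
  have hT : TableOK 504 pChain (pGens.map Prod.fst) := tableOK_of_checks hsh fun j hj k hk => by
    have := hb j hj k hk
    rw [hl] at hj
    interval_cases j
    exacts [of_entriesOK entries0 k.zero_le this, of_entriesOK entries1 k.zero_le this, of_entriesOK entries2 k.zero_le this,
      of_entriesOK entries3 k.zero_le this, of_entriesOK entries4 k.zero_le this, of_entriesOK entries5 k.zero_le this]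
  have hp' := table_closed (by norm_num) hT hv
    (fun j hj k hk => by
      have := hb j hj k hk
      rw [hl] at hj
      interval_cases j
      exacts [of_closedOK closed0 k.zero_le this, of_closedOK closed1 k.zero_le this, of_closedOK closed2 k.zero_le this,
        of_closedOK closed3 k.zero_le this, of_closedOK closed4 k.zero_le this, of_closedOK closed5 k.zero_le this])
    (fun c hc i hi => by
      rw [hl] at hc
      exact Nat.eq_of_beq_eq_true (List.all_eq_true.mp (List.all_eq_true.mp hlast c hc) i (List.mem_range.mpr hi)))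
  refine ⟨hv, hT, hp', ?_⟩
  rw [PC, ← hsz, ← (table_products (by norm_num) hT hv).2, hp', ← Nat.card_coe_set_eq]
  rfl

theorem gen_mem_PC (i : ℕ) {a : ℕ} (ha : a ∈ [0, 1, 3, 4]) : gen i a ∈ PC := by
  rw [gen_inner i ha]
  obtain ⟨-, hpl, -, -⟩ := perm_ok
  have hg := gens_ok (show 0 < 3 by norm_num)
  have h0 : gen 0 0 ∈ PC := Valid.mem (List.mem_map.mpr ⟨_, List.getElem_mem (show 0 < pGens.length by omega), rfl⟩)
    (by rw [← List.getD_eq_getElem (d := (0, 0))]; exact hg.rep 0 (by norm_num))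
  have h1 : gen 0 1 ∈ PC := Valid.mem (List.mem_map.mpr ⟨_, List.getElem_mem (show 1 < pGens.length by omega), rfl⟩)
    (by rw [← List.getD_eq_getElem (d := (0, 0))]; exact hg.rep 1 (by norm_num))
  simp only [List.mem_cons, List.not_mem_nil, or_false] at ha
  rcases ha with rfl | rfl | rfl | rfl
  exacts [h0, h1, by simpa [invL] using (hg.inv 0 (by norm_num)) ▸ inv_mem h0,
    by simpa [invL] using (hg.inv 1 (by norm_num)) ▸ inv_mem h1]

theorem ev_mem_PC (i : ℕ) {w : List ℕ} (hw : okP w = true) : ev (gen i) w ∈ PC :=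
  list_prod_mem fun x hx => by
    obtain ⟨a, ha, rfl⟩ := List.mem_map.mp hx
    exact gen_mem_PC i (okP_iff.mp hw a ha)

/-- The two letters generate. -/
theorem PC_le {H : Subgroup (Perm (Fin 504))} (h0 : gen 0 0 ∈ H) (h1 : gen 0 1 ∈ H) : PC ≤ H := by
  obtain ⟨-, hpl, -, -⟩ := perm_ok
  refine (Subgroup.closure_le H).mpr ?_
  rintro g ⟨c, hc, hg⟩
  obtain ⟨a, ha, rfl⟩ := List.getElem_of_mem hc
  rw [List.length_map, hpl] at ha
  rw [List.getElem_map, ← List.getD_eq_getElem (d := (0, 0))] at hg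
  have hgg := gens_ok (show 0 < 3 by norm_num)
  interval_cases a
  · rw [hg.unique (hgg.rep 0 (by norm_num))]; exact h0
  · rw [hg.unique (hgg.rep 1 (by norm_num))]; exact h1

/-- The members of the fibre product as words. -/
theorem exists_word {p : Perm (Fin 504)} (hp : p ∈ PC) : ∃ w, okP w = true ∧ ev (gen 0) w = p := by
  let H : Subgroup (Perm (Fin 504)) :=
    { carrier := {p | ∃ w, okP w = true ∧ ev (gen 0) w = p}
      one_mem' := ⟨[], rfl, rfl⟩
      mul_mem' := by
        rintro _ _ ⟨u, hu, rfl⟩ ⟨w, hw, rfl⟩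
        exact ⟨u ++ w, okP_append.mpr ⟨hu, hw⟩, ev_append _ _ _⟩
      inv_mem' := by
        rintro _ ⟨u, hu, rfl⟩
        exact ⟨invW u, okP_invW hu, (gens_ok (by norm_num)).ev_invW (okW_of_okP hu)⟩ }
  exact PC_le (H := H) ⟨[0], rfl, by simp [ev]⟩ ⟨[1], rfl, by simp [ev]⟩ hp

theorem fix_tail {p : Perm (Fin 504)} (hp : p ∈ PC) {b : Fin 504} (hb : 496 ≤ (b : ℕ)) : p b = b := by
  refine MulAction.mem_stabilizer_iff.mp (PC_le (H := MulAction.stabilizer (Perm (Fin 504)) b) ?_ ?_ hp) <;>
  · refine MulAction.mem_stabilizer_iff.mpr (Fin.ext ?_)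
    rw [Perm.smul_def, ← (gens_ok (show 0 < 3 by norm_num)).rep _ (by norm_num) b]
    have h := List.all_eq_true.mp top_ok.2 ((b : ℕ) - 496) (List.mem_range.mpr (by omega))
    rw [Bool.and_eq_true, Nat.add_sub_cancel' hb] at h
    first | exact Nat.eq_of_beq_eq_true h.1 | exact Nat.eq_of_beq_eq_true h.2

/-- Members fixing the bases are trivial. -/
theorem eq_one_of_fix {p : Perm (Fin 504)} (hp : p ∈ PC) (h : ∀ b : Fin 504, (b : ℕ) ∈ bases → p b = b) : p = 1 := by
  obtain ⟨hv, hT, hp', -⟩ := pc_table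
  refine eq_of_bases (by norm_num) hT hv hp' hp (one_mem _) fun j hj b hb => h b ?_
  rw [shape_ok.2.2.2.1] at hb
  have hl : pChain.length = 6 := by simpa using congrArg List.length shape_ok.2.1
  rw [hl] at hj
  interval_cases j <;> simp_all [bases]

section Outer

variable {i : ℕ}

theorem outer_ok (hi : i < 3) : outerOK i = true := by
  interval_cases i
  exacts [outer0, outer1, outer2]

theorem outer_step (hi : i < 3) {b : Fin 504} (hb : 496 ≤ (b : ℕ)) :
    (gen i 2 b : ℕ) = 496 + ((b : ℕ) - 496 + 1) % 8 := by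
  have h := outer_ok hi
  simp only [outerOK, Bool.and_eq_true, List.all_eq_true, List.mem_range] at h
  have h' := Nat.eq_of_beq_eq_true (h.1.1.1.1.1 ((b : ℕ) - 496) (by omega))
  rw [Nat.add_sub_cancel' hb] at h'
  rw [← (gens_ok hi).rep 2 (by norm_num) b]
  exact h'

theorem outer_pow_eight (hi : i < 3) : gen i 2 ^ 8 = 1 := by
  have h := outer_ok hi
  simp only [outerOK, Bool.and_eq_true, List.all_eq_true, List.mem_range] at h
  refine Equiv.ext fun b => Fin.ext ?_
  have h' := Nat.eq_of_beq_eq_true (h.1.1.1.1.2 b b.2)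
  rw [(gens_ok hi).ev_apW (w := [2, 2, 2, 2, 2, 2, 2, 2]) rfl] at h'
  simpa [ev, pow_succ, mul_assoc] using h'

theorem outer_conj (hi : i < 3) {a : ℕ} (ha : a ∈ [0, 1, 3, 4]) :
    ∃ w, okP w = true ∧ w = (conjWords.getD i []).getD (List.idxOf a [0, 1, 3, 4]) [] ∧
      gen i 2 * gen i a * (gen i 2)⁻¹ = ev (gen i) w := by
  have h := outer_ok hi
  simp only [outerOK, Bool.and_eq_true, List.all_eq_true, List.mem_range] at h
  have hw : okP ((conjWords.getD i []).getD (List.idxOf a [0, 1, 3, 4]) []) = true := by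
    rw [List.getD_eq_getElem _ _ (by
      rw [Nat.eq_of_beq_eq_true h.2]; exact List.idxOf_lt_length_iff.mpr ha)]
    exact h.1.2 _ (List.getElem_mem _)
  refine ⟨_, hw, rfl, Equiv.ext fun b => Fin.ext ?_⟩
  have h' := Nat.eq_of_beq_eq_true (h.1.1.1.2 b b.2 a ha)
  have hok : okW [2, a, 5] = true := okW_iff.mpr fun x hx => by
    simp only [List.mem_cons, List.not_mem_nil, or_false] at hx ha
    omega
  rw [(gens_ok hi).ev_apW hok, (gens_ok hi).ev_apW (okW_of_okP hw)] at h'
  rw [← (gens_ok hi).inv 2 (by norm_num), show invL 2 = 5 from rfl]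
  simpa [ev, mul_assoc] using h'

theorem outer_sq_comm (hi : i < 3) {p : Perm (Fin 504)} (hp : p ∈ PC) : Commute (gen i 2 * gen i 2) p := by
  have h := outer_ok hi
  simp only [outerOK, Bool.and_eq_true, List.all_eq_true, List.mem_range] at h
  have key : ∀ a ∈ [0, 1], gen i 2 * gen i 2 * gen 0 a = gen 0 a * (gen i 2 * gen i 2) := fun a ha => by
    rw [← gen_inner i (show a ∈ [0, 1, 3, 4] by simp_all; omega)]
    refine Equiv.ext fun b => Fin.ext ?_
    have h' := Nat.eq_of_beq_eq_true (h.1.1.2 b b.2 a ha)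
    have ha' : a < 6 := by simp_all; omega
    rw [(gens_ok hi).ev_apW (okW_iff.mpr (by simp; omega)), (gens_ok hi).ev_apW (okW_iff.mpr (by simp; omega))] at h'
    simpa [ev, mul_assoc] using h'
  exact (Subgroup.mem_centralizer_singleton_iff.mp (PC_le (H := Subgroup.centralizer ({gen i 2 * gen i 2} : Set _))
    (Subgroup.mem_centralizer_singleton_iff.mpr (key 0 (by simp)).symm)
    (Subgroup.mem_centralizer_singleton_iff.mpr (key 1 (by simp)).symm) hp)).symm

theorem outer_conj_mem (hi : i < 3) {p : Perm (Fin 504)} (hp : p ∈ PC) (k : ℕ) :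
    gen i 2 ^ k * p * (gen i 2 ^ k)⁻¹ ∈ PC := by
  induction k generalizing p with
  | zero => simpa using hp
  | succ k ih =>
    have h1 : gen i 2 * p * (gen i 2)⁻¹ ∈ PC := by
      have key : ∀ a ∈ [0, 1, 3, 4], gen 0 a ∈ PC.comap (MulAut.conj (gen i 2)).toMonoidHom := fun a ha => by
        rw [Subgroup.mem_comap, MulEquiv.coe_toMonoidHom, MulAut.conj_apply, ← gen_inner i ha]
        obtain ⟨w, hw, -, e⟩ := outer_conj hi ha
        rw [e]
        exact ev_mem_PC i hw
      exact PC_le (key 0 (by simp)) (key 1 (by simp)) hp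
    have := ih h1
    rw [show gen i 2 ^ (k + 1) * p * (gen i 2 ^ (k + 1))⁻¹ =
      gen i 2 ^ k * (gen i 2 * p * (gen i 2)⁻¹) * (gen i 2 ^ k)⁻¹ by rw [pow_succ]; group]
    exact this

/-- The number of outer steps of a word. -/
def steps (w : List ℕ) : ℕ := w.foldr (fun a n => if Nat.beq (a % 3) 2 then (if Nat.beq a 2 then n + 1 else n + 7) else n) 0

theorem decompose (hi : i < 3) : ∀ {w : List ℕ}, okW w = true →
    ∃ p ∈ PC, ev (gen i) w = p * gen i 2 ^ steps w
  | [], _ => ⟨1, one_mem _, by simp [ev, steps]⟩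
  | a :: w, hw => by
    rw [okW_iff] at hw
    have ha := hw a (List.mem_cons_self ..)
    obtain ⟨p, hp, e⟩ := decompose hi (w := w) (okW_iff.mpr fun b hb => hw b (List.mem_cons_of_mem _ hb))
    rw [ev_cons, e]
    have hinner : a ∈ [0, 1, 3, 4] → ∃ q ∈ PC, gen i a * (p * gen i 2 ^ steps w) = q * gen i 2 ^ steps (a :: w) :=
      fun h => ⟨gen i a * p, mul_mem (gen_mem_PC i h) hp, by
        rw [← mul_assoc]
        congr 2
        simp only [List.mem_cons, List.not_mem_nil, or_false] at h
        rcases h with rfl | rfl | rfl | rfl <;> rfl⟩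
    interval_cases a
    · exact hinner (by simp)
    · exact hinner (by simp)
    · refine ⟨_, outer_conj_mem hi hp 1, ?_⟩
      rw [show steps (2 :: w) = steps w + 1 from rfl, pow_succ' (gen i 2) (steps w), pow_one]
      group
    · exact hinner (by simp)
    · exact hinner (by simp)
    · refine ⟨_, outer_conj_mem hi hp 7, ?_⟩
      have h7 : gen i 5 = gen i 2 ^ 7 := by
        rw [show (5 : ℕ) = invL 2 from rfl, (gens_ok hi).inv 2 (by norm_num), inv_eq_iff_mul_eq_one, ← pow_succ']
        exact outer_pow_eight hi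
      rw [show steps (5 :: w) = steps w + 7 from rfl, h7, pow_add]
      have hc : Commute (gen i 2 ^ steps w) (gen i 2 ^ 7) := (Commute.refl _).pow_pow _ _
      rw [hc.eq]
      group

theorem outer_pow_tail (hi : i < 3) : ∀ k : ℕ, (gen i 2 ^ k) ⟨496, by norm_num⟩ = ⟨496 + k % 8, by omega⟩
  | 0 => rfl
  | k + 1 => by
    refine Fin.ext ?_
    rw [pow_succ', Perm.mul_apply, outer_pow_tail hi k, outer_step hi (by simp)]
    simp only
    omega

theorem outer_pow_mod (hi : i < 3) (k : ℕ) : gen i 2 ^ k = gen i 2 ^ (k % 8) := by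
  conv_lhs => rw [← Nat.mod_add_div k 8, pow_add, pow_mul, outer_pow_eight hi, one_pow, mul_one]

/-- A product of an inner element and an outer power is trivial only if both are. -/
theorem eq_one_of_split (hi : i < 3) {p : Perm (Fin 504)} (hp : p ∈ PC) {k : ℕ} (h : p * gen i 2 ^ k = 1) :
    p = 1 ∧ k % 8 = 0 := by
  have e := congrArg (fun q : Perm (Fin 504) => (q ⟨496, by norm_num⟩ : ℕ)) h
  simp only [Perm.mul_apply, outer_pow_tail hi, Perm.one_apply] at e
  rw [fix_tail hp (show 496 ≤ ((⟨496 + k % 8, by omega⟩ : Fin 504) : ℕ) by simp)] at e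
  simp only at e
  have hk : k % 8 = 0 := by omega
  refine ⟨?_, hk⟩
  rwa [outer_pow_mod hi, hk, pow_zero, mul_one] at h

theorem faith (hi : i < 3) {w : List ℕ} (hw : okW w = true)
    (h : ∀ b : Fin 504, (b : ℕ) ∈ bases → ev (gen i) w b = b) : ev (gen i) w = 1 := by
  obtain ⟨p, hp, e⟩ := decompose hi hw
  rw [e] at h ⊢
  have e6 := congrArg Fin.val (h ⟨496, by norm_num⟩ (by decide))
  rw [Perm.mul_apply, outer_pow_tail hi, fix_tail hp (by simp)] at e6
  simp only at e6
  rw [outer_pow_mod hi, show steps w % 8 = 0 by omega, pow_zero, mul_one] at h ⊢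
  exact eq_one_of_fix hp h

end Outer

/-- The top points. -/
def top (i : Fin 24) : Fin 504 := ⟨i, by omega⟩

theorem top_injective : Function.Injective top := fun a b h => Fin.ext (by simpa [top] using congrArg Fin.val h)

theorem proj_exists (p : PC) : ∃ x : SmallPlane, ∀ i, (p : Perm (Fin 504)) (top i) = top ((x : Perm (Fin 24)) i) := by
  obtain ⟨p, hp⟩ := p
  let H : Subgroup (Perm (Fin 504)) :=
    { carrier := {p | ∃ x : SmallPlane, ∀ i, p (top i) = top ((x : Perm (Fin 24)) i)}
      one_mem' := ⟨1, fun i => rfl⟩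
      mul_mem' := by
        rintro _ _ ⟨x, hx⟩ ⟨y, hy⟩
        exact ⟨x * y, fun i => by simp [Perm.mul_apply, hx, hy]⟩
      inv_mem' := by
        rintro a ⟨x, hx⟩
        exact ⟨x⁻¹, fun i => by rw [Perm.inv_eq_iff_eq, hx]; simp⟩ }
  have key : ∀ a < 2, gen 0 a ∈ H := by
    intro a ha
    obtain ⟨hv, -⟩ := plane_model
    have hl : smallGens.length = 2 := small_perm.2.1
    have hm : (smallGens.getD a (0, 0)).1 ∈ smallGens.map Prod.fst :=
      List.mem_map.mpr ⟨_, List.getD_eq_getElem smallGens (0, 0) (hl.symm ▸ ha) ▸ List.getElem_mem _, rfl⟩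
    obtain ⟨x, hx⟩ := hv _ hm
    refine ⟨⟨x, Valid.mem hm hx⟩, fun i => Fin.ext ?_⟩
    rw [← (gens_ok (show 0 < 3 by norm_num)).rep a (by omega) (top i)]
    have h := List.all_eq_true.mp top_ok.1 i (List.mem_range.mpr i.2)
    rw [Bool.and_eq_true] at h
    show ap _ (i : ℕ) = ((x i : Fin 24) : ℕ)
    rw [← hx i]
    interval_cases a
    exacts [Nat.eq_of_beq_eq_true h.1, Nat.eq_of_beq_eq_true h.2]
  exact PC_le (H := H) (key 0 (by norm_num)) (key 1 (by norm_num)) hp

/-- The projection to PSL(3, 4). -/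
noncomputable def proj : PC →* SmallPlane :=
  MonoidHom.mk' (fun p => (proj_exists p).choose) fun p q => Subtype.ext (Equiv.ext fun i => top_injective (by
    rw [← (proj_exists (p * q)).choose_spec i, Subgroup.coe_mul, Subgroup.coe_mul, Perm.mul_apply, Perm.mul_apply,
      (proj_exists q).choose_spec i, (proj_exists p).choose_spec]))

theorem proj_apply (p : PC) (i : Fin 24) :
    (p : Perm (Fin 504)) (top i) = top (((proj p : SmallPlane) : Perm (Fin 24)) i) :=
  (proj_exists p).choose_spec i

theorem proj_surjective : Function.Surjective proj := by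
  rintro ⟨x, hx⟩
  suffices hs : x ∈ proj.range.map (genG 24 (smallGens.map Prod.fst)).subtype by
    obtain ⟨-, ⟨g, rfl⟩, e⟩ := hs
    exact ⟨g, Subtype.ext e⟩
  refine (Subgroup.closure_le _).mpr ?_ hx
  rintro x ⟨c, hc, hx⟩
  obtain ⟨a, ha, rfl⟩ := List.getElem_of_mem hc
  rw [List.length_map, small_perm.2.1] at ha
  rw [List.getElem_map, ← List.getD_eq_getElem (d := (0, 0))] at hx
  refine ⟨proj ⟨gen 0 a, gen_mem_PC 0 (by simp; omega)⟩, ⟨_, rfl⟩, Equiv.ext fun i => top_injective (Fin.ext ?_)⟩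
  show (top (((proj _ : SmallPlane) : Perm (Fin 24)) i) : ℕ) = (x i : ℕ)
  rw [← proj_apply, ← hx i]
  show (gen 0 a (top i) : ℕ) = _
  rw [← (gens_ok (show 0 < 3 by norm_num)).rep a (by omega) (top i)]
  have h := List.all_eq_true.mp top_ok.1 i (List.mem_range.mpr i.2)
  rw [Bool.and_eq_true] at h
  interval_cases a
  exacts [Nat.eq_of_beq_eq_true h.1, Nat.eq_of_beq_eq_true h.2]

/-- The central elements. -/
noncomputable def zel (a : ℕ) : Perm (Fin 504) := ev (gen 0) (zWords.getD a [])

theorem z_okP (a : ℕ) : okP (zWords.getD a []) = true := by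
  have h := z_shape
  simp only [Bool.and_eq_true, List.all_eq_true] at h
  by_cases ha : a < zWords.length
  · rw [List.getD_eq_getElem _ _ ha]; exact h.1.1.1 _ (List.getElem_mem ha)
  · rw [List.getD_eq_default _ _ (not_lt.mp ha)]; rfl

theorem c_okP (a : ℕ) : okP (cWords.getD a []) = true := by
  have h := z_shape
  simp only [Bool.and_eq_true, List.all_eq_true] at h
  by_cases ha : a < cWords.length
  · rw [List.getD_eq_getElem _ _ ha]; exact h.1.1.2 _ (List.getElem_mem ha)
  · rw [List.getD_eq_default _ _ (not_lt.mp ha)]; rfl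

theorem ev_eq_of_pack {u w : List ℕ} (hu : okW u = true) (hw : okW w = true)
    (h : Nat.beq (pack (img (gsX 0) u)) (pack (img (gsX 0) w)) = true) : ev (gen 0) u = ev (gen 0) w :=
  (gens_ok (by norm_num)).ev_eq_of_img (fun _ => faith (by norm_num)) hu hw
    (pack_inj _ _ (by simp [img]) (Gens.img_lt _) (Gens.img_lt _) (Nat.eq_of_beq_eq_true h))

theorem zel_mul {a b : ℕ} (ha : a < 16) (hb : b < 16) : zel a * zel b = zel ((a / 4 + b / 4) % 4 * 4 + (a + b) % 4) := by
  rw [zel, zel, zel, ← ev_append]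
  exact ev_eq_of_pack (okW_append.mpr ⟨okW_of_okP (z_okP a), okW_of_okP (z_okP b)⟩) (okW_of_okP (z_okP _))
    (List.all_eq_true.mp (List.all_eq_true.mp z_mul a (List.mem_range.mpr ha)) b (List.mem_range.mpr hb))

theorem zel_inj {a b : ℕ} (ha : a < 16) (hb : b < 16) (e : zel a = zel b) : a = b := by
  have hl : zWords.length = 16 := by
    have h := z_shape
    simp only [Bool.and_eq_true] at h
    exact Nat.eq_of_beq_eq_true h.2
  have key := of_decide_eq_true z_nodup
  have hg := gens_ok (show 0 < 3 by norm_num)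
  have e' : pack (img (gsX 0) (zWords.getD a [])) = pack (img (gsX 0) (zWords.getD b [])) :=
    congrArg pack (List.map_congr_left fun p hp => by
      have e1 := hg.ev_apW (okW_of_okP (z_okP a)) ⟨p, Gens.bases_lt p hp⟩
      have e2 := hg.ev_apW (okW_of_okP (z_okP b)) ⟨p, Gens.bases_lt p hp⟩
      simp only at e1 e2
      rw [e1, e2]
      exact congrArg (fun q : Perm (Fin 504) => (q _ : ℕ)) e)
  refine (key.getElem_inj_iff (hi := by simpa [hl] using ha) (hj := by simpa [hl] using hb)).mp ?_
  rw [List.getElem_map, List.getElem_map]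
  rwa [List.getD_eq_getElem _ _ (hl.symm ▸ ha), List.getD_eq_getElem _ _ (hl.symm ▸ hb)] at e'

theorem zel_center (a : ℕ) {p : Perm (Fin 504)} (hp : p ∈ PC) : Commute (zel a) p := by
  have hg := gens_ok (show 0 < 3 by norm_num)
  have key : ∀ b < 2, zel a * gen 0 b = gen 0 b * zel a := by
    intro b hb
    by_cases ha : a < zWords.length
    · refine Equiv.ext fun i => Fin.ext ?_
      have h := Nat.eq_of_beq_eq_true (List.all_eq_true.mp (List.all_eq_true.mp
        (List.all_eq_true.mp z_comm _ (List.getElem_mem ha)) b (by simp; omega)) i (List.mem_range.mpr i.2))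
      rw [← List.getD_eq_getElem (d := [])] at h
      have hok := okW_of_okP (z_okP a)
      have hb' : okW [b] = true := okW_iff.mpr fun x hx => by simp at hx; omega
      rw [hg.ev_apW (okW_append.mpr ⟨hok, hb'⟩), hg.ev_apW (show okW (b :: zWords.getD a []) = true from
        okW_append.mpr ⟨hb', hok⟩)] at h
      simpa [ev_append, ev_cons, ev_nil, zel] using h
    · rw [zel, List.getD_eq_default _ _ (not_lt.mp ha), ev_nil, one_mul, mul_one]
  exact (Subgroup.mem_centralizer_singleton_iff.mp (PC_le (H := Subgroup.centralizer ({zel a} : Set _))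
    (Subgroup.mem_centralizer_singleton_iff.mpr (key 0 (by norm_num)).symm)
    (Subgroup.mem_centralizer_singleton_iff.mpr (key 1 (by norm_num)).symm) hp)).symm

theorem proj_zel {a : ℕ} (ha : a < 16) : proj ⟨zel a, ev_mem_PC 0 (z_okP a)⟩ = 1 := by
  have hl : zWords.length = 16 := by
    have h := z_shape
    simp only [Bool.and_eq_true] at h
    exact Nat.eq_of_beq_eq_true h.2
  refine Subtype.ext (Equiv.ext fun i => top_injective ?_)
  rw [← proj_apply]
  refine Fin.ext ?_
  show (zel a (top i) : ℕ) = (top i : ℕ)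
  rw [zel, ← (gens_ok (show 0 < 3 by norm_num)).ev_apW (okW_of_okP (z_okP a))]
  rw [List.getD_eq_getElem _ _ (hl.symm ▸ ha)]
  exact Nat.eq_of_beq_eq_true (List.all_eq_true.mp (List.all_eq_true.mp z_top _ (List.getElem_mem _)) i
    (List.mem_range.mpr i.2))

theorem ker_proj_card : Nat.card proj.ker = 16 := by
  have h := proj.ker.card_mul_index
  rw [Subgroup.index_ker, MonoidHom.range_eq_top.mpr proj_surjective, Subgroup.card_top,
    plane_model.2.2.2.1, pc_table.2.2.2] at h
  exact Nat.eq_of_mul_eq_mul_right (by norm_num : 0 < 20160) (h.trans (by norm_num))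

theorem ker_proj_iff (p : PC) : p ∈ proj.ker ↔ ∃ a < 16, (p : Perm (Fin 504)) = zel a := by
  classical
  let s : Fin 16 → PC := fun a => ⟨zel a, ev_mem_PC 0 (z_okP a)⟩
  have hs : Function.Injective s := fun a b e => Fin.ext (zel_inj a.2 b.2 (congrArg Subtype.val e))
  have himg : Set.range s = (proj.ker : Set PC) := Set.eq_of_subset_of_ncard_le
    (by rintro _ ⟨a, rfl⟩; exact proj_zel a.2)
    (by
      rw [← Nat.card_coe_set_eq, ← Nat.card_coe_set_eq, Nat.card_range_of_injective hs, Nat.card_fin]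
      exact ker_proj_card.le)
    (Set.toFinite _)
  rw [← SetLike.mem_coe, ← himg]
  constructor
  · rintro ⟨a, rfl⟩; exact ⟨a, a.2, rfl⟩
  · rintro ⟨a, ha, e⟩; exact ⟨⟨a, ha⟩, Subtype.ext e.symm⟩

/-- The elements of the chosen pairs. -/
noncomputable def cel (k : ℕ) : PC := ⟨ev (gen 0) (cWords.getD k []), ev_mem_PC 0 (c_okP k)⟩

theorem cel_commutator : ((⁅cel 0, cel 1⁆ : PC) : Perm (Fin 504)) = zel 4 ∧
    ((⁅cel 2, cel 3⁆ : PC) : Perm (Fin 504)) = zel 1 := by
  have hg := gens_ok (show 0 < 3 by norm_num)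
  have key : ∀ p ∈ [(0, 4), (2, 1)], ((⁅cel p.1, cel (p.1 + 1)⁆ : PC) : Perm (Fin 504)) = zel p.2 := by
    intro p hp
    have hok : ∀ k, okW (cWords.getD k []) = true := fun k => okW_of_okP (c_okP k)
    rw [commutatorElement_def, Subgroup.coe_mul, Subgroup.coe_mul, Subgroup.coe_mul, InvMemClass.coe_inv,
      InvMemClass.coe_inv, cel, cel, ← hg.ev_invW (hok _), ← hg.ev_invW (hok _), ← ev_append, ← ev_append, ← ev_append,
      zel]
    exact ev_eq_of_pack (okW_append.mpr ⟨okW_append.mpr ⟨okW_append.mpr ⟨hok _, hok _⟩, okW_invW _⟩, okW_invW _⟩) (okW_of_okP (z_okP _))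
      (List.all_eq_true.mp z_commutators p hp)
  exact ⟨key (0, 4) (by simp), key (2, 1) (by simp)⟩

theorem proj_stem : Cfsg.IsStemExtension proj := by
  refine ⟨proj_surjective, fun p hp => Subgroup.mem_center_iff.mpr fun q => ?_, fun p hp => ?_⟩
  · obtain ⟨a, -, e⟩ := (ker_proj_iff p).mp hp
    exact Subtype.ext (by rw [Subgroup.coe_mul, Subgroup.coe_mul, e]; exact (zel_center a q.2).symm.eq)
  · obtain ⟨a, ha, e⟩ := (ker_proj_iff p).mp hp
    obtain ⟨h4, h1⟩ := cel_commutator
    have key : ∀ b < 16, ∃ d ∈ commutator PC, (d : Perm (Fin 504)) = zel b := by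
      have m4 := Subgroup.commutator_mem_commutator (Subgroup.mem_top (cel 0)) (Subgroup.mem_top (cel 1))
      have m1 := Subgroup.commutator_mem_commutator (Subgroup.mem_top (cel 2)) (Subgroup.mem_top (cel 3))
      have c1 : ∃ d ∈ commutator PC, (d : Perm (Fin 504)) = zel 1 := ⟨_, m1, h1⟩
      have c4 : ∃ d ∈ commutator PC, (d : Perm (Fin 504)) = zel 4 := ⟨_, m4, h4⟩
      have step : ∀ {x y : ℕ}, x < 16 → y < 16 → (∃ d ∈ commutator PC, (d : Perm (Fin 504)) = zel x) →
          (∃ d ∈ commutator PC, (d : Perm (Fin 504)) = zel y) →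
          ∃ d ∈ commutator PC, (d : Perm (Fin 504)) = zel ((x / 4 + y / 4) % 4 * 4 + (x + y) % 4) := by
        rintro x y hx hy ⟨d, hd, ed⟩ ⟨d', hd', ed'⟩
        exact ⟨d * d', mul_mem hd hd', by rw [Subgroup.coe_mul, ed, ed', zel_mul hx hy]⟩
      have c2 := step (show (1 : ℕ) < 16 by norm_num) (by norm_num) c1 c1
      have c3 := step (show (2 : ℕ) < 16 by norm_num) (show (1 : ℕ) < 16 by norm_num) c2 c1
      have c0 := step (show (3 : ℕ) < 16 by norm_num) (show (1 : ℕ) < 16 by norm_num) c3 c1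
      have c8 := step (show (4 : ℕ) < 16 by norm_num) (by norm_num) c4 c4
      have c12 := step (show (8 : ℕ) < 16 by norm_num) (show (4 : ℕ) < 16 by norm_num) c8 c4
      intro b hb
      interval_cases b
      exacts [c0, c1, c2, c3, c4, step (by norm_num) (by norm_num) c4 c1, step (by norm_num) (by norm_num) c4 c2,
        step (by norm_num) (by norm_num) c4 c3, c8, step (by norm_num) (by norm_num) c8 c1,
        step (by norm_num) (by norm_num) c8 c2, step (by norm_num) (by norm_num) c8 c3, c12,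
        step (by norm_num) (by norm_num) c12 c1, step (by norm_num) (by norm_num) c12 c2,
        step (by norm_num) (by norm_num) c12 c3]
    obtain ⟨d, hd, ed⟩ := key a ha
    rwa [show p = d from Subtype.ext (e.trans ed.symm)]

end CfsgON
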