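/-
The fibre product maps onto every stem extension of PSL(3, 4) with kernel of exponent four.
-/
import Cfsg.Agent.Lib.ONRecog.Cover
import Cfsg.Agent.Lib.Co3Recog.Cover
import Mathlib.GroupTheory.NoncommCoprod

set_option autoImplicit false
set_option maxRecDepth 30000
set_option maxHeartbeats 400000
set_option linter.unusedSectionVars false
set_option linter.style.haveILetI false

namespace CfsgON

open CfsgLib.StemSylow.PlaneFour Subgroup
open scoped commutatorElement

universe u v w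

attribute [local irreducible] pGens xGens pChain smallChain smallGens zWords cWords conjWords

theorem small_perfect : commutator SmallPlane = ⊤ := by
  classical
  haveI : Fact (Nat.Prime 2) := ⟨Nat.prime_two⟩
  haveI : Fintype (GaloisField 2 2) := Fintype.ofFinite _
  have hK : Fintype.card (GaloisField 2 2) = 4 := by
    rw [← Nat.card_eq_fintype_card, GaloisField.card 2 2 (by norm_num)]; norm_num
  obtain ⟨e⟩ := equiv_small hK
  let f : Matrix.SpecialLinearGroup (Fin 3) (GaloisField 2 2) →* SmallPlane :=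
    e.toMonoidHom.comp (QuotientGroup.mk' _)
  have hf : Function.Surjective f := e.surjective.comp (QuotientGroup.mk'_surjective _)
  have h := congrArg (Subgroup.map f) (CfsgLib.SLPerfect.commutator_eq_top (F := GaloisField 2 2) (n := 3) le_rfl)
  rwa [_root_.commutator_def, map_commutator, map_top_of_surjective f hf, ← _root_.commutator_def] at h

theorem PC_perfect : commutator PC = ⊤ := CfsgLib.Co3Recog.Cover.perfect_of_stem proj_stem small_perfect

/-- Two homomorphisms on a perfect group agreeing modulo the centre are equal. -/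
theorem hom_unique {A : Type u} {B : Type v} {K : Type w} [Group A] [Group B] [Group K] (hA : commutator A = ⊤)
    (σ : B →* K) (hσ : σ.ker ≤ center B) {f₁ f₂ : A →* B} (h : σ.comp f₁ = σ.comp f₂) : f₁ = f₂ := by
  have key : ∀ a, ∃ z ∈ σ.ker, f₂ a = z * f₁ a := fun a => ⟨f₂ a * (f₁ a)⁻¹, by
    rw [MonoidHom.mem_ker, map_mul, map_inv, ← MonoidHom.comp_apply σ f₂, ← h, MonoidHom.comp_apply, mul_inv_cancel],
    by rw [inv_mul_cancel_right]⟩
  refine MonoidHom.ext fun a => ?_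
  have hsub : commutator A ≤ f₁.eqLocus f₂ := by
    rw [_root_.commutator_def, commutator_le]
    intro x _ y _
    show f₁ ⁅x, y⁆ = f₂ ⁅x, y⁆
    obtain ⟨z, hz, ex⟩ := key x
    obtain ⟨z', hz', ey⟩ := key y
    rw [map_commutatorElement, map_commutatorElement, ex, ey]
    have c1 := mem_center_iff.mp (hσ hz)
    have c2 := mem_center_iff.mp (hσ hz')
    simp only [commutatorElement_def, mul_inv_rev]
    calc f₁ x * f₁ y * (f₁ x)⁻¹ * (f₁ y)⁻¹
        = f₁ x * f₁ y * ((f₁ x)⁻¹ * (z⁻¹ * z)) * ((f₁ y)⁻¹ * (z'⁻¹ * z')) := by group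
      _ = z * f₁ x * (z' * f₁ y) * ((f₁ x)⁻¹ * z⁻¹) * ((f₁ y)⁻¹ * z'⁻¹) := by
        have a1 : ∀ g, Commute g z := fun g => c1 g
        have a2 : ∀ g, Commute g z' := fun g => c2 g
        rw [show z * f₁ x * (z' * f₁ y) * ((f₁ x)⁻¹ * z⁻¹) * ((f₁ y)⁻¹ * z'⁻¹) =
          z * (f₁ x * z' * f₁ y * (f₁ x)⁻¹) * z⁻¹ * (f₁ y)⁻¹ * z'⁻¹ by group,
          (a1 _).symm.eq, mul_inv_cancel_right, (a2 (f₁ x)).eq,
          show z' * f₁ x * f₁ y * (f₁ x)⁻¹ * (f₁ y)⁻¹ * z'⁻¹ = z' * (f₁ x * f₁ y * (f₁ x)⁻¹ * (f₁ y)⁻¹) * z'⁻¹ by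
            group, (a2 _).symm.eq, mul_inv_cancel_right]
        group
  exact hsub (hA ▸ mem_top a)

/-- A group of exponent four generated by two commuting elements has at most sixteen elements. -/
theorem card_closure_pair {Γ : Type u} [Group Γ] [Finite Γ] {a b : Γ} (hab : Commute a b) (ha : a ^ 4 = 1)
    (hb : b ^ 4 = 1) : Nat.card (closure {a, b}) ≤ 16 := by
  let f : zpowers a × zpowers b →* Γ := MonoidHom.noncommCoprod (zpowers a).subtype (zpowers b).subtype fun x y => by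
    obtain ⟨i, hi⟩ := mem_zpowers_iff.mp x.2
    obtain ⟨j, hj⟩ := mem_zpowers_iff.mp y.2
    show Commute (x : Γ) (y : Γ)
    rw [← hi, ← hj]
    exact (hab.zpow_left i).zpow_right j
  have hle : closure {a, b} ≤ f.range := by
    rw [closure_le]
    rintro x (rfl | rfl)
    · exact ⟨(⟨_, mem_zpowers x⟩, 1), by simp [f, MonoidHom.noncommCoprod_apply]⟩
    · exact ⟨(1, ⟨_, mem_zpowers x⟩), by simp [f, MonoidHom.noncommCoprod_apply]⟩
  refine (card_le_of_le hle).trans ((Nat.card_le_card_of_surjective f.rangeRestrict f.rangeRestrict_surjective).trans ?_)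
  rw [Nat.card_prod, Nat.card_zpowers, Nat.card_zpowers]
  exact Nat.mul_le_mul (Nat.le_of_dvd (by norm_num) (orderOf_dvd_of_pow_eq_one ha))
    (Nat.le_of_dvd (by norm_num) (orderOf_dvd_of_pow_eq_one hb))

/-- The lift into a stem extension. -/
theorem exists_lift {Γ : Type u} [Group Γ] [Finite Γ] {σ : Γ →* SmallPlane} (hσ : Cfsg.IsStemExtension σ)
    (h4 : ∀ z ∈ σ.ker, z ^ 4 = 1) : ∃ φ : PC →* Γ, Function.Surjective φ ∧ σ.comp φ = proj := by
  classical
  let P : Subgroup (PC × Γ) := (proj.comp (MonoidHom.fst PC Γ)).eqLocus (σ.comp (MonoidHom.snd PC Γ))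
  let D : Subgroup (PC × Γ) := ⁅P, P⁆
  have hle : D ≤ P := commutator_le.mpr fun a ha b hb => by
    rw [commutatorElement_def]; exact mul_mem (mul_mem (mul_mem ha hb) (inv_mem ha)) (inv_mem hb)
  have hP1 : P.map (MonoidHom.fst PC Γ) = ⊤ := eq_top_iff.mpr fun a _ => by
    obtain ⟨b, hb⟩ := hσ.1 (proj a)
    exact ⟨(a, b), hb.symm, rfl⟩
  have hP2 : P.map (MonoidHom.snd PC Γ) = ⊤ := eq_top_iff.mpr fun b _ => by
    obtain ⟨a, ha⟩ := proj_surjective (σ b)
    exact ⟨(a, b), ha, rfl⟩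
  have hD1 : D.map (MonoidHom.fst PC Γ) = ⊤ := by
    rw [map_commutator, hP1, ← _root_.commutator_def, PC_perfect]
  have hD2 : D.map (MonoidHom.snd PC Γ) = ⊤ := by
    rw [map_commutator, hP2, ← _root_.commutator_def, CfsgLib.Co3Recog.Cover.perfect_of_stem hσ small_perfect]
  let π : D →* SmallPlane := (proj.comp (MonoidHom.fst PC Γ)).comp D.subtype
  have hfst : Function.Surjective ((MonoidHom.fst PC Γ).comp D.subtype) := fun a => by
    obtain ⟨d, hd, e⟩ := (hD1 ▸ mem_top a : a ∈ D.map (MonoidHom.fst PC Γ))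
    exact ⟨⟨d, hd⟩, e⟩
  have hπs : Function.Surjective π := fun s => by
    obtain ⟨a, rfl⟩ := proj_surjective s
    obtain ⟨d, rfl⟩ := hfst a
    exact ⟨d, rfl⟩
  have hπk : ∀ d : D, d ∈ π.ker → (d : PC × Γ).1 ∈ proj.ker ∧ (d : PC × Γ).2 ∈ σ.ker := fun d hd =>
    ⟨MonoidHom.mem_ker.mpr hd,
      MonoidHom.mem_ker.mpr (((hle d.2 : proj (d : PC × Γ).1 = σ (d : PC × Γ).2)).symm.trans hd)⟩
  have hcen : π.ker ≤ center D := fun d hd => mem_center_iff.mpr fun q => Subtype.ext (Prod.ext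
    (mem_center_iff.mp (proj_stem.2.1 (hπk d hd).1) _) (mem_center_iff.mp (hσ.2.1 (hπk d hd).2) _))
  have hPpair : ∀ p : P, ∃ d : D, ((p : PC × Γ).1)⁻¹ * (d : PC × Γ).1 ∈ proj.ker ∧
      ((p : PC × Γ).2)⁻¹ * (d : PC × Γ).2 ∈ σ.ker := fun p => by
    obtain ⟨d, hd⟩ := hπs (proj (p : PC × Γ).1)
    refine ⟨d, MonoidHom.mem_ker.mpr ?_, MonoidHom.mem_ker.mpr ?_⟩
    · rw [map_mul, map_inv, show proj (d : PC × Γ).1 = _ from hd, inv_mul_cancel]
    · rw [map_mul, map_inv, ← (show proj (p : PC × Γ).1 = σ (p : PC × Γ).2 from p.2),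
        ← (show proj (d : PC × Γ).1 = σ (d : PC × Γ).2 from hle d.2), show proj (d : PC × Γ).1 = _ from hd, inv_mul_cancel]
  have hperf : commutator D = ⊤ := by
    refine map_injective D.subtype_injective ?_
    rw [_root_.commutator_def, map_commutator, ← MonoidHom.range_eq_map, range_subtype]
    refine le_antisymm ?_ ?_
    · exact commutator_le.mpr fun a ha b hb => by
        rw [commutatorElement_def]; exact mul_mem (mul_mem (mul_mem ha hb) (inv_mem ha)) (inv_mem hb)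
    show ⁅P, P⁆ ≤ ⁅D, D⁆
    rw [commutator_le]
    intro a ha b hb
    obtain ⟨d, hd1, hd2⟩ := hPpair ⟨a, ha⟩
    obtain ⟨e, he1, he2⟩ := hPpair ⟨b, hb⟩
    have hz : ∀ z : PC × Γ, z.1 ∈ proj.ker → z.2 ∈ σ.ker → ∀ g, Commute z g := fun z h1 h2 g =>
      Prod.ext ((mem_center_iff.mp (proj_stem.2.1 h1) g.1).symm) ((mem_center_iff.mp (hσ.2.1 h2) g.2).symm)
    have za := hz (a⁻¹ * d) hd1 hd2
    have zb := hz (b⁻¹ * e) he1 he2
    have key : ⁅a, b⁆ = ⁅(d : PC × Γ), (e : PC × Γ)⁆ := by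
      have ed : (d : PC × Γ) = a * (a⁻¹ * d) := by group
      have ee : (e : PC × Γ) = b * (b⁻¹ * e) := by group
      rw [ed, ee]
      generalize a⁻¹ * (d : PC × Γ) = z at za ⊢
      generalize b⁻¹ * (e : PC × Γ) = z' at zb ⊢
      simp only [commutatorElement_def, mul_inv_rev]
      rw [show a * z * (b * z') * (z⁻¹ * a⁻¹) * (z'⁻¹ * b⁻¹) = a * (z * (b * z') * z⁻¹) * a⁻¹ * z'⁻¹ * b⁻¹ by group,
        (za (b * z')).eq, mul_inv_cancel_right, show a * (b * z') * a⁻¹ * z'⁻¹ * b⁻¹ = a * b * (z' * a⁻¹ * z'⁻¹) * b⁻¹ by group,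
        (zb a⁻¹).eq, mul_inv_cancel_right]
    rw [key]
    exact commutator_mem_commutator d.2 e.2
  have hstem : Cfsg.IsStemExtension π := ⟨hπs, hcen, hperf ▸ le_top⟩
  obtain ⟨x, y, z, hx, hy, hz, hx3, hy4, hz4, hgen⟩ := ker_small hstem
  have hexp : ∀ d : D, d ∈ π.ker → d ^ 4 = 1 := fun d hd => by
    obtain ⟨h1, h2⟩ := hπk d hd
    refine Subtype.ext (Prod.ext (Subtype.ext ?_) (h4 _ h2))
    obtain ⟨a, ha, e⟩ := (ker_proj_iff _).mp h1
    show ((d : PC × Γ).1 : Equiv.Perm (Fin 504)) ^ 4 = 1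
    rw [e, pow_succ, pow_succ, pow_two, zel_mul ha ha, zel_mul (by omega) ha, zel_mul (by omega) ha]
    have h0 : ∀ b < 16, zel b * zel 0 = zel b := fun b hb => by
      rw [zel_mul hb (by norm_num)]; congr 1; omega
    have z0 : zel 0 = 1 := mul_left_cancel ((h0 0 (by norm_num)).trans (mul_one (zel 0)).symm)
    rw [← z0]
    congr 1
    omega
  have hx1 : x = 1 := by
    have h := pow_gcd_eq_one.mpr ⟨hx3, hexp x hx⟩
    simpa using h
  have hk16 : Nat.card π.ker ≤ 16 := by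
    refine (card_le_of_le (hgen.trans ((closure_le _).mpr ?_))).trans
      (card_closure_pair (a := y) (b := z) ((mem_center_iff.mp (hcen hy) z).symm) hy4 hz4)
    rintro g (rfl | rfl | rfl)
    exacts [hx1 ▸ one_mem _, subset_closure (by simp), subset_closure (by simp)]
  have hcard : Nat.card D ≤ 322560 := by
    rw [← π.ker.card_mul_index, index_ker, MonoidHom.range_eq_top.mpr hπs, card_top, plane_model.2.2.2.1]
    exact (Nat.mul_le_mul_right _ hk16).trans (by norm_num)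
  have hb : Function.Bijective ((MonoidHom.fst PC Γ).comp D.subtype) :=
    (Nat.bijective_iff_surjective_and_card _).mpr ⟨hfst,
      le_antisymm (hcard.trans pc_table.2.2.2.ge) (Nat.card_le_card_of_surjective _ hfst)⟩
  let e := MulEquiv.ofBijective _ hb
  refine ⟨((MonoidHom.snd PC Γ).comp D.subtype).comp e.symm.toMonoidHom, fun b => ?_, MonoidHom.ext fun a => ?_⟩
  · obtain ⟨d, hd, ed⟩ := (hD2 ▸ mem_top b : b ∈ D.map (MonoidHom.snd PC Γ))
    exact ⟨e ⟨d, hd⟩, by simpa using ed⟩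
  · have h := e.apply_symm_apply a
    show σ ((e.symm a : D) : PC × Γ).2 = proj a
    rw [← (show proj ((e.symm a : D) : PC × Γ).1 = σ ((e.symm a : D) : PC × Γ).2 from hle (e.symm a).2)]
    exact congrArg proj h

end CfsgON
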