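/-
The automorphisms of PSL(3, 4) are determined modulo inner ones by their action on the multiplier.
-/
import Cfsg.Agent.Lib.ONRecog.Universal
import Cfsg.Agent.Lib.ONRecog.OutChecks
import Cfsg.Agent.S0813

set_option autoImplicit false
set_option maxRecDepth 30000
set_option maxHeartbeats 400000
set_option linter.unusedSectionVars false
set_option linter.style.haveILetI false

namespace CfsgON

open CfsgLib.StemSylow.PlaneFour Equiv Subgroup CfsgPC
open scoped commutatorElement

attribute [local irreducible] pGens xGens pChain smallChain smallGens zWords cWords conjWords outPerm outGens outPairs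
  outActs outWords outTable

theorem small_center : center SmallPlane = ⊥ := by
  classical
  haveI : Fact (Nat.Prime 2) := ⟨Nat.prime_two⟩
  haveI : Fintype (GaloisField 2 2) := Fintype.ofFinite _
  have hK : Fintype.card (GaloisField 2 2) = 4 := by
    rw [← Nat.card_eq_fintype_card, GaloisField.card 2 2 (by norm_num)]; norm_num
  obtain ⟨e⟩ := equiv_small hK
  refine eq_bot_iff.mpr fun s hs => ?_
  obtain ⟨g, hg⟩ := QuotientGroup.mk'_surjective
    (center (Matrix.SpecialLinearGroup (Fin 3) (GaloisField 2 2))) (e.symm s)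
  have h := hom_unique (CfsgLib.SLPerfect.commutator_eq_top (F := GaloisField 2 2) (n := 3) le_rfl)
    (QuotientGroup.mk' (center (Matrix.SpecialLinearGroup (Fin 3) (GaloisField 2 2)))) (QuotientGroup.ker_mk' _).le
    (f₁ := MonoidHom.id _) (f₂ := (MulAut.conj g).toMonoidHom) (MonoidHom.ext fun x => by
      simp only [MonoidHom.comp_apply, MonoidHom.id_apply, MulEquiv.coe_toMonoidHom, MulAut.conj_apply, map_mul, map_inv, hg]
      refine e.injective ?_
      rw [map_mul, map_mul, map_inv, e.apply_symm_apply, (mem_center_iff.mp hs _).symm, mul_inv_cancel_right])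
  have hgc : g ∈ center (Matrix.SpecialLinearGroup (Fin 3) (GaloisField 2 2)) := mem_center_iff.mpr fun x => by
    have := DFunLike.congr_fun h x
    simp only [MonoidHom.id_apply, MulEquiv.coe_toMonoidHom, MulAut.conj_apply] at this
    exact (mul_inv_eq_iff_eq_mul.mp this.symm).symm
  rw [(QuotientGroup.eq_one_iff g).mpr hgc |>.symm.trans rfl |> fun _ => mem_bot]
  refine e.symm.injective ?_
  rw [map_one, ← hg]
  exact (QuotientGroup.eq_one_iff g).mpr hgc

theorem zel_zero : zel 0 = 1 := by
  have h := zel_mul (show 0 < 16 by norm_num) (show 0 < 16 by norm_num)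
  exact mul_left_cancel (h.trans (mul_one _).symm)

theorem zel_pow {a : ℕ} (ha : a < 16) : ∀ k : ℕ, zel a ^ k = zel (k * (a / 4) % 4 * 4 + k * a % 4)
  | 0 => by simp [zel_zero]
  | k + 1 => by
    rw [pow_succ, zel_pow ha k, zel_mul (by omega) ha]
    congr 1
    rw [Nat.add_mul, Nat.one_mul, Nat.add_mul, Nat.one_mul]
    omega

theorem comb_lt (a b n : ℕ) : comb a b n < 16 := by
  unfold comb; omega

theorem comb_eq : ∀ a < 16, ∀ b < 16, ∀ n < 16,
    ((n / 4 * (a / 4) % 4 * 4 + n / 4 * a % 4) / 4 + (n % 4 * (b / 4) % 4 * 4 + n % 4 * b % 4) / 4) % 4 * 4 +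
      (n / 4 * (a / 4) % 4 * 4 + n / 4 * a % 4 + (n % 4 * (b / 4) % 4 * 4 + n % 4 * b % 4)) % 4 = comb a b n := by
  decide +kernel

/-- A homomorphism of the fibre product with the given images of the two generators of the centre. -/
theorem zel_image {B : Type*} [Group B] (f : PC →* B) {a b : B}
    (h4 : f ⟨zel 4, ev_mem_PC 0 (z_okP 4)⟩ = a) (h1 : f ⟨zel 1, ev_mem_PC 0 (z_okP 1)⟩ = b) {n : ℕ} (hn : n < 16) :
    f ⟨zel n, ev_mem_PC 0 (z_okP n)⟩ = a ^ (n / 4) * b ^ (n % 4) := by
  rw [← h4, ← h1, ← map_pow, ← map_pow, ← map_mul]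
  refine congrArg f (Subtype.ext ?_)
  show zel n = zel 4 ^ (n / 4) * zel 1 ^ (n % 4)
  rw [zel_pow (by norm_num), zel_pow (by norm_num), zel_mul (by omega) (by omega)]
  congr 1
  omega

section Lift

theorem aut_stem (γ : MulAut SmallPlane) : Cfsg.IsStemExtension (γ.toMonoidHom.comp proj) ∧
    ∀ z ∈ (γ.toMonoidHom.comp proj).ker, z ^ 4 = 1 := by
  have hk : (γ.toMonoidHom.comp proj).ker = proj.ker := MonoidHom.ker_mulEquiv_comp _ _
  refine ⟨⟨γ.surjective.comp proj_surjective, hk ▸ proj_stem.2.1, hk ▸ proj_stem.2.2⟩, fun z hz => ?_⟩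
  rw [hk] at hz
  obtain ⟨a, ha, e⟩ := (ker_proj_iff z).mp hz
  refine Subtype.ext ?_
  rw [SubgroupClass.coe_pow, e, zel_pow ha, OneMemClass.coe_one, ← zel_zero]
  exact congrArg zel (by omega)

/-- The lift of an automorphism. -/
noncomputable def lift (γ : MulAut SmallPlane) : PC →* PC :=
  (exists_lift (aut_stem γ⁻¹).1 (aut_stem γ⁻¹).2).choose

theorem proj_lift (γ : MulAut SmallPlane) : proj.comp (lift γ) = γ.toMonoidHom.comp proj := by
  have h := (exists_lift (aut_stem γ⁻¹).1 (aut_stem γ⁻¹).2).choose_spec.2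
  refine MonoidHom.ext fun p => ?_
  have e := DFunLike.congr_fun h p
  have := congrArg γ e
  simpa [lift] using this

theorem lift_unique {γ : MulAut SmallPlane} {f : PC →* PC} (h : ∀ p, proj (f p) = γ (proj p)) : lift γ = f :=
  hom_unique PC_perfect proj proj_stem.2.1 ((proj_lift γ).trans (MonoidHom.ext fun p => (h p).symm))

/-- The action of an automorphism on the two generators of the centre. -/
def ActIs (γ : MulAut SmallPlane) (A : ℕ × ℕ) : Prop :=
  (A.1 < 16 ∧ A.2 < 16) ∧ (lift γ ⟨zel 4, ev_mem_PC 0 (z_okP 4)⟩ : Perm (Fin 504)) = zel A.1 ∧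
    (lift γ ⟨zel 1, ev_mem_PC 0 (z_okP 1)⟩ : Perm (Fin 504)) = zel A.2

theorem ActIs.image {γ : MulAut SmallPlane} {A : ℕ × ℕ} (h : ActIs γ A) {n : ℕ} (hn : n < 16) :
    (lift γ ⟨zel n, ev_mem_PC 0 (z_okP n)⟩ : Perm (Fin 504)) = zel (comb A.1 A.2 n) := by
  rw [show lift γ ⟨zel n, _⟩ = _ from zel_image (lift γ) (a := ⟨zel A.1, ev_mem_PC 0 (z_okP _)⟩)
    (b := ⟨zel A.2, ev_mem_PC 0 (z_okP _)⟩) (Subtype.ext h.2.1) (Subtype.ext h.2.2) hn, Subgroup.coe_mul,
    SubgroupClass.coe_pow, SubgroupClass.coe_pow, zel_pow h.1.1, zel_pow h.1.2, zel_mul (by omega) (by omega)]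
  exact congrArg zel (comb_eq _ h.1.1 _ h.1.2 _ hn)

theorem ActIs.mul {γ δ : MulAut SmallPlane} {A B : ℕ × ℕ} (hγ : ActIs γ A) (hδ : ActIs δ B) :
    ActIs (γ * δ) (comb A.1 A.2 B.1, comb A.1 A.2 B.2) := by
  have e : lift (γ * δ) = (lift γ).comp (lift δ) := lift_unique fun p => by
    rw [MonoidHom.comp_apply, show proj (lift γ _) = γ (proj _) from DFunLike.congr_fun (proj_lift γ) _,
      show proj (lift δ p) = δ (proj p) from DFunLike.congr_fun (proj_lift δ) _]
    rfl
  refine ⟨⟨comb_lt _ _ _, comb_lt _ _ _⟩, ?_, ?_⟩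
  · rw [e, MonoidHom.comp_apply, show lift δ ⟨zel 4, _⟩ = ⟨zel B.1, ev_mem_PC 0 (z_okP _)⟩ from Subtype.ext hδ.2.1]
    exact hγ.image hδ.1.1
  · rw [e, MonoidHom.comp_apply, show lift δ ⟨zel 1, _⟩ = ⟨zel B.2, ev_mem_PC 0 (z_okP _)⟩ from Subtype.ext hδ.2.2]
    exact hγ.image hδ.1.2

theorem ActIs.unique {γ : MulAut SmallPlane} {A B : ℕ × ℕ} (hA : ActIs γ A) (hB : ActIs γ B) : A = B :=
  Prod.ext (zel_inj hA.1.1 hB.1.1 (hA.2.1.symm.trans hB.2.1)) (zel_inj hA.1.2 hB.1.2 (hA.2.2.symm.trans hB.2.2))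

theorem act_inner (s : SmallPlane) : ActIs (MulAut.conj s) (4, 1) := by
  obtain ⟨q, rfl⟩ := proj_surjective s
  have e : lift (MulAut.conj (proj q)) = (MulAut.conj q).toMonoidHom := lift_unique fun p => by
    simp [MulAut.conj_apply]
  refine ⟨⟨by norm_num, by norm_num⟩, ?_, ?_⟩ <;>
  · rw [e]
    show (q : Perm (Fin 504)) * zel _ * (q : Perm (Fin 504))⁻¹ = zel _
    rw [(zel_center _ q.2).symm.eq, mul_inv_cancel_right]

theorem act_one : ActIs 1 (4, 1) := by
  have := act_inner 1
  rwa [map_one] at this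

end Lift

section Outer

variable {i : ℕ}

theorem outer_conj_map_le (hi : i < 3) : ∀ p ∈ PC, gen i 2 * p * (gen i 2)⁻¹ ∈ PC := fun p hp => by
  have h := outer_conj_mem hi hp 1
  rwa [pow_one] at h

/-- Conjugation by the outer permutation. -/
noncomputable def outerTheta (hi : i < 3) : PC →* PC :=
  MonoidHom.mk' (fun p => ⟨gen i 2 * (p : Perm (Fin 504)) * (gen i 2)⁻¹, outer_conj_map_le hi _ p.2⟩) fun p q =>
    Subtype.ext (by simp only [Subgroup.coe_mul]; group)

theorem center_PC : center PC = proj.ker := by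
  refine le_antisymm (fun p hp => MonoidHom.mem_ker.mpr ?_) proj_stem.2.1
  have h : proj p ∈ center SmallPlane := mem_center_iff.mpr fun s => by
    obtain ⟨q, rfl⟩ := proj_surjective s
    rw [← map_mul, ← map_mul, mem_center_iff.mp hp q]
  rwa [small_center, mem_bot] at h

theorem outerTheta_bijective (hi : i < 3) : Function.Bijective (outerTheta hi) := by
  refine Finite.injective_iff_bijective.mp fun p q e => Subtype.ext ?_
  simpa [outerTheta] using congrArg Subtype.val e

/-- The induced automorphism of the simple quotient. -/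
noncomputable def outerAut (hi : i < 3) : MulAut SmallPlane :=
  let θ : MulAut PC := MulEquiv.ofBijective _ (outerTheta_bijective hi)
  let e : SmallPlane ≃* PC ⧸ proj.ker := (QuotientGroup.quotientKerEquivOfSurjective proj proj_surjective).symm
  (e.trans (QuotientGroup.congr proj.ker proj.ker θ (by
    rw [← center_PC]
    exact Subgroup.characteristic_iff_map_eq.mp inferInstance θ))).trans e.symm

theorem outerAut_proj (hi : i < 3) (p : PC) : outerAut hi (proj p) = proj (outerTheta hi p) := by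
  have e : (QuotientGroup.quotientKerEquivOfSurjective proj proj_surjective).symm (proj p) =
      QuotientGroup.mk' proj.ker p := by
    rw [MulEquiv.symm_apply_eq]; rfl
  simp only [outerAut, MulEquiv.trans_apply, e, MulEquiv.symm_symm]
  rfl

theorem lift_outerAut (hi : i < 3) : lift (outerAut hi) = outerTheta hi :=
  lift_unique fun p => (outerAut_proj hi p).symm

theorem act_outer (hi : i < 3) : ActIs (outerAut hi) (outActs.getD i (0, 0)) := by
  have ht := out_table
  simp only [Bool.and_eq_true, List.all_eq_true, Nat.blt_eq] at ht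
  have hlen : outActs.length = 4 := Nat.eq_of_beq_eq_true ht.1.1.1.1.2
  have hlt := ht.1.1.2 _ (List.getElem_mem (show i < outActs.length by omega))
  rw [← List.getD_eq_getElem (d := (0, 0))] at hlt
  have h := List.all_eq_true.mp out_x i (List.mem_range.mpr hi)
  simp only [List.all_cons, List.all_nil, Bool.and_true, Bool.and_eq_true] at h
  have key : ∀ a b, Nat.beq (pack (img (gsX i) ([2] ++ zWords.getD a [] ++ [5])))
      (pack (img (gsX i) (zWords.getD b []))) = true → gen i 2 * zel a * (gen i 2)⁻¹ = zel b := by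
    intro a b e
    have e' := (gens_ok hi).ev_eq_of_img (fun _ => faith hi)
      (u := [2] ++ zWords.getD a [] ++ [5]) (w := zWords.getD b [])
      (okW_append.mpr ⟨okW_append.mpr ⟨rfl, okW_of_okP (z_okP a)⟩, rfl⟩) (okW_of_okP (z_okP b))
      (pack_inj _ _ (by simp [img]) (Gens.img_lt _) (Gens.img_lt _) (Nat.eq_of_beq_eq_true e))
    rw [ev_append, ev_append, ev_inner i (z_okP a), ev_inner i (z_okP b), ← (gens_ok hi).inv 2 (by norm_num),
      show invL 2 = 5 from rfl] at *
    simpa [ev, zel] using e'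
  refine ⟨hlt, ?_, ?_⟩ <;> rw [lift_outerAut hi]
  exacts [key _ _ h.1, key _ _ h.2]

/-- The point permutation. -/
noncomputable def pointPerm : Perm (Fin 24) := Equiv.ofBijective
  (fun i => ⟨outPerm.getD i 0 % 24, Nat.mod_lt _ (by norm_num)⟩)
  (Finite.injective_iff_bijective.mp fun a b e => by
    have h := out_shape
    simp only [Bool.and_eq_true, List.all_eq_true, List.mem_range, Nat.blt_eq] at h
    have hl : outPerm.length = 24 := Nat.eq_of_beq_eq_true h.1.1.1.1.1.1
    have ha := h.1.1.1.1.1.2 a a.2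
    have hb := h.1.1.1.1.1.2 b b.2
    have e' := congrArg Fin.val e
    simp only [List.getD_eq_getElem _ _ (show (a : ℕ) < outPerm.length by omega),
      List.getD_eq_getElem _ _ (show (b : ℕ) < outPerm.length by omega)] at e' ha hb
    rw [Nat.mod_eq_of_lt ha, Nat.mod_eq_of_lt hb] at e'
    exact Fin.ext ((of_decide_eq_true h.1.1.1.1.2).getElem_inj_iff.mp e'))

theorem pointPerm_val (i : Fin 24) : (pointPerm i : ℕ) = outPerm.getD i 0 := by
  have h := out_shape
  simp only [Bool.and_eq_true, List.all_eq_true, List.mem_range, Nat.blt_eq] at h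
  have hl : outPerm.length = 24 := Nat.eq_of_beq_eq_true h.1.1.1.1.1.1
  have hi := h.1.1.1.1.1.2 i i.2
  rw [List.getD_eq_getElem _ _ (show (i : ℕ) < outPerm.length by omega)] at hi
  show outPerm.getD i 0 % 24 = _
  rw [List.getD_eq_getElem _ _ (show (i : ℕ) < outPerm.length by omega), Nat.mod_eq_of_lt hi]

/-- A word acting as the conjugate of another by the point permutation. -/
theorem conj_point {u w : List ℕ} (hu : okP u = true) (hw : okP w = true)
    (h : ∀ i < 24, Nat.beq (apW (gsX 0) w (outPerm.getD i 0)) (outPerm.getD (apW (gsX 0) u i) 0) = true) :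
    pointPerm * ((proj ⟨ev (gen 0) u, ev_mem_PC 0 hu⟩ : SmallPlane) : Perm (Fin 24)) * pointPerm⁻¹ =
      ((proj ⟨ev (gen 0) w, ev_mem_PC 0 hw⟩ : SmallPlane) : Perm (Fin 24)) := by
  have val : ∀ {v : List ℕ} (hv : okP v = true) (j : Fin 24),
      apW (gsX 0) v j = ((((proj ⟨ev (gen 0) v, ev_mem_PC 0 hv⟩ : SmallPlane) : Perm (Fin 24)) j : Fin 24) : ℕ) :=
    fun hv j => ((gens_ok (show 0 < 3 by norm_num)).ev_apW (okW_of_okP hv) (top j)).trans
      (congrArg Fin.val (proj_apply ⟨_, ev_mem_PC 0 hv⟩ j))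
  rw [mul_inv_eq_iff_eq_mul]
  refine Equiv.ext fun i => Fin.ext ?_
  rw [Perm.mul_apply, Perm.mul_apply, ← val hw, pointPerm_val, pointPerm_val,
    Nat.eq_of_beq_eq_true (h i i.2), val hu]

theorem point_normal : ∀ s : SmallPlane, pointPerm * (s : Perm (Fin 24)) * pointPerm⁻¹ ∈ genG 24 (smallGens.map Prod.fst) := by
  intro s
  obtain ⟨⟨p, hp⟩, rfl⟩ := proj_surjective s
  let H : Subgroup PC := (genG 24 (smallGens.map Prod.fst)).comap
    (((MulAut.conj pointPerm).toMonoidHom.comp (genG 24 (smallGens.map Prod.fst)).subtype).comp proj)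
  have hH : (⟨p, hp⟩ : PC) ∈ H := by
    have key : ∀ a ∈ [0, 1], gen 0 a ∈ H.map PC.subtype := by
      intro a ha
      have hu : okP [a] = true := by simp at ha; rcases ha with rfl | rfl <;> rfl
      have hw : okP (outGens.getD a []) = true := by
        have h := out_shape
        simp only [Bool.and_eq_true, List.all_eq_true] at h
        rw [List.getD_eq_getElem _ _ (by rw [Nat.eq_of_beq_eq_true h.1.2]; simp at ha; omega)]
        exact h.1.1.1.2 _ (List.getElem_mem _)
      refine ⟨⟨ev (gen 0) [a], ev_mem_PC 0 hu⟩, ?_, by simp [ev]⟩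
      show pointPerm * _ * pointPerm⁻¹ ∈ genG 24 (smallGens.map Prod.fst)
      rw [show ((genG 24 (smallGens.map Prod.fst)).subtype (proj _)) = ((proj _ : SmallPlane) : Perm (Fin 24)) from rfl,
        conj_point hu hw fun i hi =>
        List.all_eq_true.mp (List.all_eq_true.mp out_gens i (List.mem_range.mpr hi)) a ha]
      exact Subtype.prop _
    obtain ⟨q, hq, e⟩ := PC_le (H := H.map PC.subtype) (key 0 (by simp)) (key 1 (by simp)) hp
    rwa [show (⟨p, hp⟩ : PC) = q from Subtype.ext e.symm]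
  exact hH

/-- The automorphism of the point permutation. -/
noncomputable def pointAut : MulAut SmallPlane :=
  MulEquiv.ofBijective (MonoidHom.mk' (fun s => (⟨_, point_normal s⟩ : SmallPlane)) fun s t => Subtype.ext (by
    simp only [Subgroup.coe_mul]; group))
    (Finite.injective_iff_bijective.mp fun s t e => Subtype.ext (by
      simpa using congrArg Subtype.val e))

theorem act_point : ActIs pointAut (outActs.getD 3 (0, 0)) := by
  have ht := out_table
  simp only [Bool.and_eq_true, List.all_eq_true, Nat.blt_eq] at ht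
  have hlen : outActs.length = 4 := Nat.eq_of_beq_eq_true ht.1.1.1.1.2
  have hlt := ht.1.1.2 _ (List.getElem_mem (show 3 < outActs.length by omega))
  rw [← List.getD_eq_getElem (d := (0, 0))] at hlt
  have hs := out_shape
  simp only [Bool.and_eq_true, List.all_eq_true] at hs
  have hw : ∀ a, okP (outPairs.getD a []) = true := fun a => by
    by_cases ha : a < outPairs.length
    · rw [List.getD_eq_getElem _ _ ha]; exact hs.1.1.2 _ (List.getElem_mem _)
    · rw [List.getD_eq_default _ _ (not_lt.mp ha)]; rfl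
  have hl4 : ∀ k < 4, proj (lift pointAut (cel k)) = proj ⟨ev (gen 0) (outPairs.getD k []), ev_mem_PC 0 (hw k)⟩ := by
    intro k hk
    rw [show proj (lift pointAut _) = pointAut (proj _) from DFunLike.congr_fun (proj_lift _) _]
    exact Subtype.ext (conj_point (c_okP k) (hw k) fun i hi =>
      List.all_eq_true.mp (List.all_eq_true.mp out_pairs i (List.mem_range.mpr hi)) k (List.mem_range.mpr hk))
  have hc := out_comm
  simp only [List.all_cons, List.all_nil, Bool.and_true, Bool.and_eq_true] at hc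
  have key : ∀ k b, k + 1 < 4 → ∀ z (hz : ((⁅cel k, cel (k + 1)⁆ : PC) : Perm (Fin 504)) = z),
      Nat.beq (pack (img (gsX 0) (outPairs.getD k [] ++ outPairs.getD (k + 1) [] ++
        invW (outPairs.getD k []) ++ invW (outPairs.getD (k + 1) []))))
        (pack (img (gsX 0) (zWords.getD b []))) = true →
      (lift pointAut ⁅cel k, cel (k + 1)⁆ : Perm (Fin 504)) = zel b := by
    intro k b hk z _ e
    obtain ⟨x, hx, ex⟩ : ∃ x ∈ center PC, lift pointAut (cel k) = x * ⟨_, ev_mem_PC 0 (hw k)⟩ :=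
      ⟨lift pointAut (cel k) * (⟨_, ev_mem_PC 0 (hw k)⟩ : PC)⁻¹, proj_stem.2.1 (MonoidHom.mem_ker.mpr (by
        rw [map_mul, map_inv, hl4 k (by omega), mul_inv_cancel])), by rw [inv_mul_cancel_right]⟩
    obtain ⟨y, hy, ey⟩ : ∃ y ∈ center PC, lift pointAut (cel (k + 1)) = y * ⟨_, ev_mem_PC 0 (hw (k + 1))⟩ :=
      ⟨lift pointAut (cel (k + 1)) * (⟨_, ev_mem_PC 0 (hw (k + 1))⟩ : PC)⁻¹, proj_stem.2.1 (MonoidHom.mem_ker.mpr (by
        rw [map_mul, map_inv, hl4 (k + 1) hk, mul_inv_cancel])), by rw [inv_mul_cancel_right]⟩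
    rw [map_commutatorElement, ex, ey]
    generalize hP : (⟨_, ev_mem_PC 0 (hw k)⟩ : PC) = P at *
    generalize hQ : (⟨_, ev_mem_PC 0 (hw (k + 1))⟩ : PC) = Q at *
    have a1 : ∀ g, Commute x g := fun g => (mem_center_iff.mp hx g).symm
    have a2 : ∀ g, Commute y g := fun g => (mem_center_iff.mp hy g).symm
    have hcomm : ⁅x * P, y * Q⁆ = ⁅P, Q⁆ := by
      simp only [commutatorElement_def, mul_inv_rev]
      rw [show x * P * (y * Q) * (P⁻¹ * x⁻¹) * (Q⁻¹ * y⁻¹) = x * (P * y * Q * P⁻¹) * x⁻¹ * Q⁻¹ * y⁻¹ by group,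
        (a1 _).eq, mul_inv_cancel_right, (a2 P).symm.eq,
        show y * P * Q * P⁻¹ * Q⁻¹ * y⁻¹ = y * (P * Q * P⁻¹ * Q⁻¹) * y⁻¹ by group, (a2 _).eq, mul_inv_cancel_right]
    rw [hcomm, ← hP, ← hQ]
    have hg := gens_ok (show 0 < 3 by norm_num)
    have hok : ∀ j, okW (outPairs.getD j []) = true := fun j => okW_of_okP (hw j)
    rw [commutatorElement_def, Subgroup.coe_mul, Subgroup.coe_mul, Subgroup.coe_mul, InvMemClass.coe_inv,
      InvMemClass.coe_inv, ← hg.ev_invW (hok _), ← hg.ev_invW (hok _), ← ev_append, ← ev_append, ← ev_append, zel]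
    exact ev_eq_of_pack (okW_append.mpr ⟨okW_append.mpr ⟨okW_append.mpr ⟨hok _, hok _⟩, okW_invW _⟩, okW_invW _⟩)
      (okW_of_okP (z_okP _)) e
  obtain ⟨c4, c1⟩ := cel_commutator
  refine ⟨hlt, ?_, ?_⟩
  · rw [show (⟨zel 4, ev_mem_PC 0 (z_okP 4)⟩ : PC) = ⁅cel 0, cel 1⁆ from Subtype.ext c4.symm]
    exact key 0 _ (by norm_num) _ c4 hc.1
  · rw [show (⟨zel 1, ev_mem_PC 0 (z_okP 1)⟩ : PC) = ⁅cel 2, cel 3⁆ from Subtype.ext c1.symm]
    exact key 2 _ (by norm_num) _ c1 hc.2

end Outer

/-- The four automorphisms. -/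
noncomputable def basicAut (a : ℕ) : MulAut SmallPlane :=
  if h : a < 3 then outerAut h else pointAut

theorem act_basic {a : ℕ} (ha : a < 4) : ActIs (basicAut a) (outActs.getD a (0, 0)) := by
  unfold basicAut
  split
  · exact act_outer _
  · rw [show a = 3 by omega]; exact act_point

/-- The twelve representatives. -/
noncomputable def rep (k : ℕ) : MulAut SmallPlane := ((outWords.getD k []).map basicAut).prod

theorem act_rep {k : ℕ} (hk : k < 12) : ActIs (rep k) (outTable.getD k (0, 0)) := by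
  have ht := out_table
  simp only [Bool.and_eq_true, List.all_eq_true, List.mem_range, Nat.blt_eq, decide_eq_true_eq] at ht
  rw [← ht.2 k hk]
  have hw : ∀ a ∈ outWords.getD k [], a < 4 := by
    rw [List.getD_eq_getElem _ _ (show k < outWords.length by rw [Nat.eq_of_beq_eq_true ht.1.1.1.1.1.1]; exact hk)]
    exact ht.1.1.1.2 _ (List.getElem_mem _)
  rw [rep]
  generalize outWords.getD k [] = w at hw
  induction w with
  | nil => exact act_one
  | cons a w ih =>
    rw [List.map_cons, List.prod_cons, List.foldr_cons]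
    exact (act_basic (hw a (List.mem_cons_self ..))).mul (ih fun b hb => hw b (List.mem_cons_of_mem _ hb))

theorem card_aut : Nat.card (MulAut SmallPlane) = 241920 := by
  classical
  haveI : Fact (Nat.Prime 2) := ⟨Nat.prime_two⟩
  haveI : Fintype (GaloisField 2 2) := Fintype.ofFinite _
  have hK : Fintype.card (GaloisField 2 2) = 4 := by
    rw [← Nat.card_eq_fintype_card, GaloisField.card 2 2 (by norm_num)]; norm_num
  obtain ⟨e⟩ := equiv_small hK
  have hq : Nat.card (GL (Fin 3) (GaloisField 2 2) ⧸ center (GL (Fin 3) (GaloisField 2 2))) = 60480 := by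
    have h := Subgroup.card_eq_card_quotient_mul_card_subgroup (center (GL (Fin 3) (GaloisField 2 2)))
    have hc : Nat.card ↥(center (GL (Fin 3) (GaloisField 2 2))) = 3 := by
      rw [Matrix.GeneralLinearGroup.center_eq_range_scalar]
      have hinj : Function.Injective (Matrix.GeneralLinearGroup.scalar (Fin 3) :
          (GaloisField 2 2)ˣ →* GL (Fin 3) (GaloisField 2 2)) := fun u v e => by
        have := congrArg (fun g : GL (Fin 3) (GaloisField 2 2) => g.1 0 0) e
        exact Units.ext (by simpa [Matrix.scalar_apply] using this)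
      rw [← Nat.card_congr (MonoidHom.ofInjective hinj).toEquiv, Nat.card_units, Nat.card_eq_fintype_card, hK]
    rw [Matrix.card_GL_field, Fin.prod_univ_three, hK, hc] at h
    norm_num at h
    rw [Nat.card_eq_fintype_card]; omega
  rw [← Nat.card_congr (MulAut.congr e).toEquiv,
    Cfsg.Agent.S0813.result 2 2 (by norm_num) (by rw [hK]; norm_num) 3 (by norm_num) (by norm_num)]
  show _ * Nat.card (GL (Fin 3) (GaloisField 2 2) ⧸ center (GL (Fin 3) (GaloisField 2 2))) = 241920
  rw [hq]
  norm_num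

theorem table_inj {j k : ℕ} (hj : j < 12) (hk : k < 12)
    (e : outTable.getD j (0, 0) = outTable.getD k (0, 0)) : j = k := by
  have ht := out_table
  simp only [Bool.and_eq_true] at ht
  have hl : outTable.length = 12 := Nat.eq_of_beq_eq_true ht.1.1.1.1.1.2
  rw [List.getD_eq_getElem _ _ (hl.symm ▸ hj), List.getD_eq_getElem _ _ (hl.symm ▸ hk)] at e
  exact (of_decide_eq_true ht.1.2).getElem_inj_iff.mp e

/-- Every automorphism is an inner one times a representative. -/
theorem exists_rep (γ : MulAut SmallPlane) : ∃ (s : SmallPlane) (k : ℕ), k < 12 ∧ γ = MulAut.conj s * rep k ∧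
    ActIs γ (outTable.getD k (0, 0)) := by
  classical
  have hact : ∀ (s : SmallPlane) (k : ℕ), k < 12 → ActIs (MulAut.conj s * rep k) (outTable.getD k (0, 0)) := by
    intro s k hk
    have h := (act_inner s).mul (act_rep hk)
    have key : ∀ n < 16, comb 4 1 n = n := by decide
    have hb := (act_rep hk).1
    simp only [key _ hb.1, key _ hb.2] at h
    exact h
  let f : SmallPlane × Fin 12 → MulAut SmallPlane := fun p => MulAut.conj p.1 * rep p.2
  have hinj : Function.Injective f := by
    rintro ⟨s, k⟩ ⟨t, l⟩ e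
    have hkl := Fin.ext (table_inj k.2 l.2
      ((hact s k k.2).unique ((show MulAut.conj s * rep k = MulAut.conj t * rep l from e) ▸ hact t l l.2)))
    subst hkl
    have e' : MulAut.conj s = MulAut.conj t := mul_right_cancel e
    refine Prod.ext ?_ rfl
    have h : t⁻¹ * s ∈ center SmallPlane := mem_center_iff.mpr fun x => by
      have := DFunLike.congr_fun e' x
      simp only [MulAut.conj_apply] at this
      calc x * (t⁻¹ * s) = t⁻¹ * (t * x * t⁻¹) * s := by group
        _ = t⁻¹ * (s * x * s⁻¹) * s := by rw [this]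
        _ = t⁻¹ * s * x := by group
    rw [small_center, mem_bot, inv_mul_eq_one] at h
    exact h.symm
  haveI : Finite (MulAut SmallPlane) := Nat.finite_of_card_ne_zero (by rw [card_aut]; norm_num)
  obtain ⟨⟨s, k⟩, e⟩ := ((Nat.bijective_iff_injective_and_card f).mpr ⟨hinj, by
    rw [Nat.card_prod, Nat.card_fin, card_aut, plane_model.2.2.2.1]⟩).2 γ
  exact ⟨s, k, k.2, e.symm, e ▸ hact s k k.2⟩

end CfsgON
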