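/-
Coordinates on an involution centraliser of shape (4.L3(4)).2.
-/
import Cfsg.Agent.Lib.ONRecog.Out
import Cfsg.Agent.Lib.ONRecog.CaseData

set_option autoImplicit false
set_option maxRecDepth 30000
set_option maxHeartbeats 800000
set_option linter.unusedSectionVars false
set_option linter.style.haveILetI false

namespace CfsgON

open CfsgLib.StemSylow.PlaneFour Equiv Subgroup CfsgPC

universe u

attribute [local irreducible] pGens xGens pChain smallChain smallGens zWords cWords conjWords outPerm outGens outPairs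
  outActs outWords outTable

/-- Words naming the elements of an involution centraliser, for one of the cases. -/
structure Coord (G : Type u) [Group G] (t : G) (c : ℕ × ℕ × ℕ) where
  mem : c ∈ caseList
  v : List ℕ → G
  M : Subgroup G
  v_nil : v [] = 1
  v_append : ∀ {a b : List ℕ}, okW a = true → okW b = true → v (a ++ b) = v a * v b
  v_cent : ∀ {a : List ℕ}, okW a = true → v a ∈ centralizer ({t} : Set G)
  v_surj : ∀ {g : G}, g ∈ centralizer ({t} : Set G) → ∃ a, okW a = true ∧ v a = g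
  key_iff : ∀ {a b : List ℕ}, okW a = true → okW b = true →
    (key (gsX c.2.1) ((kWords c.1 c.2.2).map (img (gsX c.2.1))) a =
      key (gsX c.2.1) ((kWords c.1 c.2.2).map (img (gsX c.2.1))) b ↔ v a = v b)
  inner_iff : ∀ {a : List ℕ}, okW a = true → (v a ∈ M ↔ parW a = true)
  v_t : v (zWords.getD 8 []) = t
  card : Nat.card (centralizer ({t} : Set G)) = 161280

theorem parW_steps : ∀ {w : List ℕ}, okW w = true → (parW w = true ↔ steps w % 2 = 0)
  | [], _ => by simp [parW, steps]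
  | a :: w, hw => by
    rw [okW_iff] at hw
    have ih := parW_steps (w := w) (okW_iff.mpr fun b hb => hw b (List.mem_cons_of_mem _ hb))
    have ha := hw a (List.mem_cons_self ..)
    have e0 : parW (a :: w) = if Nat.beq (a % 3) 2 then !parW w else parW w := rfl
    have e1 : steps (a :: w) =
        if Nat.beq (a % 3) 2 then (if Nat.beq a 2 then steps w + 1 else steps w + 7) else steps w := rfl
    rw [e0, e1]
    interval_cases a <;> simp only [Nat.reduceMod, Nat.reduceBEq, Nat.beq_refl, if_true, if_false, reduceCtorEq] <;>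
      first
      | exact ih
      | (cases h : parW w <;> simp only [h, Bool.not_false, Bool.not_true, Bool.false_eq_true, false_iff, iff_false, true_iff, iff_true] at ih ⊢ <;> omega)

/-- An automorphism preserving the kernel of a surjection, on its image. -/
theorem exists_induced {A : Type u} [Group A] {σ : A →* SmallPlane} (hσ : Function.Surjective σ) (θ : MulAut A)
    (hk : σ.ker.map θ.toMonoidHom = σ.ker) : ∃ γ : MulAut SmallPlane, ∀ a, σ (θ a) = γ (σ a) := by
  let e : SmallPlane ≃* A ⧸ σ.ker := (QuotientGroup.quotientKerEquivOfSurjective σ hσ).symm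
  refine ⟨(e.trans (QuotientGroup.congr σ.ker σ.ker θ hk)).trans e.symm, fun a => ?_⟩
  have ea : e (σ a) = QuotientGroup.mk' σ.ker a := by
    simp only [e]
    rw [MulEquiv.symm_apply_eq]
    rfl
  simp only [MulEquiv.trans_apply, ea]
  simp only [e, MulEquiv.symm_symm]
  rfl

variable {G : Type u} [Group G] [Finite G]

theorem exists_pow_lt {H : Type u} [Group H] [Finite H] {z g : H} (hord : orderOf z = 4) (h : g ∈ zpowers z) :
    ∃ p < 4, z ^ p = g := by
  classical
  obtain ⟨p, hp, e⟩ := Finset.mem_image.mp (mem_zpowers_iff_mem_range_orderOf.mp h)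
  exact ⟨p, hord ▸ Finset.mem_range.mp hp, e⟩

/-- A surjection of the fibre product onto the large subgroup, with a character of the centre of one of two kinds. -/
theorem exists_phi (M : Subgroup G) (hperf : commutator M = ⊤) (hZc : IsCyclic (center M))
    (hZ4 : Nat.card (center M) = 4) {F : Type} [Field F] [Fintype F] (hF : Fintype.card F = 4)
    (e : M ⧸ center M ≃* Matrix.ProjectiveSpecialLinearGroup (Fin 3) F) :
    ∃ (σ : M →* SmallPlane) (φ : PC →* M) (ζ : M) (o : ℕ), Function.Surjective σ ∧ σ.ker = center M ∧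
      Function.Surjective φ ∧ σ.comp φ = proj ∧ o < 2 ∧ center M = zpowers ζ ∧ orderOf ζ = 4 ∧
      ∀ a < 16, φ ⟨zel a, ev_mem_PC 0 (z_okP a)⟩ = ζ ^ fval (kind o) a := by
  classical
  obtain ⟨e₂⟩ := equiv_small hF
  let σ : M →* SmallPlane := (e.trans e₂).toMonoidHom.comp (QuotientGroup.mk' (center M))
  have hσs : Function.Surjective σ := (e.trans e₂).surjective.comp (QuotientGroup.mk'_surjective _)
  have hσk : σ.ker = center M := by
    exact (MonoidHom.ker_mulEquiv_comp (QuotientGroup.mk' (center M)) (e.trans e₂)).trans (QuotientGroup.ker_mk' (center M))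
  obtain ⟨ζ, hζ⟩ := hZc.exists_generator
  have hZ : center M = zpowers (ζ : M) := le_antisymm (fun z hz => by
    obtain ⟨k, hk⟩ := mem_zpowers_iff.mp (hζ ⟨z, hz⟩)
    exact mem_zpowers_iff.mpr ⟨k, congrArg Subtype.val hk⟩) (zpowers_le.mpr ζ.2)
  have hord : orderOf (ζ : M) = 4 := by
    rw [← Nat.card_zpowers, ← hZ, hZ4]
  have hexp : ∀ z ∈ σ.ker, z ^ 4 = 1 := fun z hz => by
    rw [hσk, hZ] at hz
    obtain ⟨k, rfl⟩ := mem_zpowers_iff.mp hz
    rw [← zpow_natCast, ← zpow_mul, mul_comm, zpow_mul, zpow_natCast, ← hord, pow_orderOf_eq_one, one_zpow]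
  obtain ⟨φ, hφs, hφ⟩ := exists_lift (σ := σ) ⟨hσs, hσk.le, by rw [hperf]; exact le_top⟩ hexp
  have himg : ∀ a, ∃ p < 4, φ ⟨zel a, ev_mem_PC 0 (z_okP a)⟩ = (ζ : M) ^ p := by
    intro a
    have hm : φ ⟨zel a, ev_mem_PC 0 (z_okP a)⟩ ∈ zpowers (ζ : M) := by
      rw [← hZ, ← hσk, MonoidHom.mem_ker, ← MonoidHom.comp_apply, hφ]
      by_cases ha : a < 16
      · exact proj_zel ha
      · have hz : zel a = 1 := by
          rw [zel, List.getD_eq_default _ _ (by
            have h := z_shape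
            simp only [Bool.and_eq_true] at h
            rw [Nat.eq_of_beq_eq_true h.2]; omega), ev_nil]
        rw [show (⟨zel a, ev_mem_PC 0 (z_okP a)⟩ : PC) = 1 from Subtype.ext hz, map_one]
    obtain ⟨p, hp, e⟩ := exists_pow_lt hord hm
    exact ⟨p, hp, e.symm⟩
  obtain ⟨p, hp, e4⟩ := himg 4
  obtain ⟨q, hq, e1⟩ := himg 1
  have hval : ∀ a < 16, φ ⟨zel a, ev_mem_PC 0 (z_okP a)⟩ = (ζ : M) ^ fval (p, q) a := fun a ha => by
    rw [zel_image φ e4 e1 ha, ← pow_mul, ← pow_mul, ← pow_add, fval, ← pow_mod_orderOf, hord]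
  have hodd : ¬ (p % 2 = 0 ∧ q % 2 = 0) := by
    rintro ⟨h1, h2⟩
    obtain ⟨b, hb⟩ := hφs (ζ : M)
    have hbk : b ∈ proj.ker := by
      rw [MonoidHom.mem_ker, ← hφ, MonoidHom.comp_apply, hb, ← MonoidHom.mem_ker, hσk]; exact ζ.2
    obtain ⟨a, ha, ea⟩ := (ker_proj_iff b).mp hbk
    rw [show b = ⟨zel a, ev_mem_PC 0 (z_okP a)⟩ from Subtype.ext ea, hval a ha] at hb
    have hmod := (pow_inj_mod (x := (ζ : M))).mp (hb.trans (pow_one _).symm)
    rw [hord, fval] at hmod
    simp only at hmod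
    obtain ⟨p', rfl⟩ : 2 ∣ p := Nat.dvd_of_mod_eq_zero h1
    obtain ⟨q', rfl⟩ : 2 ∣ q := Nat.dvd_of_mod_eq_zero h2
    rw [Nat.mul_assoc, Nat.mul_assoc, ← Nat.mul_add] at hmod
    omega
  obtain ⟨k, hk, o, ho, u, hu, hall⟩ : ∃ k < 12, ∃ o < 2, ∃ u, (u = 1 ∨ u = 3) ∧ ∀ a < 16,
      fval (p, q) (comb (outTable.getD k (0, 0)).1 (outTable.getD k (0, 0)).2 a) = (u * fval (kind o) a) % 4 := by
    have h := List.all_eq_true.mp (List.all_eq_true.mp reduce_kind p (List.mem_range.mpr hp)) q (List.mem_range.mpr hq)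
    simp only [Bool.or_eq_true, Bool.and_eq_true, beq_iff_eq, List.any_eq_true, List.all_eq_true, List.mem_range,
      List.mem_cons, List.not_mem_nil, or_false] at h
    rcases h with h | ⟨k, hk, o, ho, u, hu, hall⟩
    exacts [absurd h hodd, ⟨k, hk, o, ho, u, hu, hall⟩]
  have hact := act_rep hk
  have hζu : zpowers ((ζ : M) ^ u) = zpowers (ζ : M) := by
    refine le_antisymm (zpowers_le.mpr (pow_mem (mem_zpowers _) u)) (zpowers_le.mpr ?_)
    refine mem_zpowers_iff.mpr ⟨(u : ℤ), ?_⟩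
    rw [zpow_natCast, ← pow_mul]
    conv_rhs => rw [← pow_one (ζ : M)]
    rw [pow_inj_mod, hord]
    rcases hu with rfl | rfl <;> rfl
  refine ⟨(rep k)⁻¹.toMonoidHom.comp σ, φ.comp (lift (rep k)), (ζ : M) ^ u, o,
    ((rep k)⁻¹).surjective.comp hσs, (MonoidHom.ker_mulEquiv_comp σ (rep k)⁻¹).trans hσk, ?_, ?_, ho, hZ.trans hζu.symm, ?_,
    fun a ha => ?_⟩
  · refine hφs.comp (Finite.surjective_of_injective ?_)
    have h : (lift (rep k)⁻¹).comp (lift (rep k)) = MonoidHom.id _ := hom_unique PC_perfect proj proj_stem.2.1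
      (MonoidHom.ext fun x => by
        simp only [MonoidHom.comp_apply, MonoidHom.id_apply]
        rw [show proj (lift (rep k)⁻¹ _) = (rep k)⁻¹ (proj _) from DFunLike.congr_fun (proj_lift _) _,
          show proj (lift (rep k) x) = rep k (proj x) from DFunLike.congr_fun (proj_lift _) _]
        exact (rep k).symm_apply_apply _)
    exact Function.LeftInverse.injective fun x => DFunLike.congr_fun h x
  · refine MonoidHom.ext fun x => ?_
    show (rep k)⁻¹ (σ (φ (lift (rep k) x))) = proj x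
    rw [show σ (φ (lift (rep k) x)) = proj (lift (rep k) x) from DFunLike.congr_fun hφ _,
      show proj (lift (rep k) x) = rep k (proj x) from DFunLike.congr_fun (proj_lift _) _]
    exact (rep k).symm_apply_apply _
  · rw [← Nat.card_zpowers, hζu, Nat.card_zpowers, hord]
  · rw [MonoidHom.comp_apply, show lift (rep k) ⟨zel a, ev_mem_PC 0 (z_okP a)⟩ =
        ⟨zel (comb (outTable.getD k (0, 0)).1 (outTable.getD k (0, 0)).2 a), ev_mem_PC 0 (z_okP (comb (outTable.getD k (0, 0)).1 (outTable.getD k (0, 0)).2 a))⟩ from Subtype.ext (hact.image ha),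
      hval _ (comb_lt _ _ _), hall a ha, ← pow_mul, ← pow_mod_orderOf (ζ : M) (u * fval (kind o) a), hord]

/-- The outer element: it acts as one of the outer permutations, and its square is normalised. -/
theorem exists_outer (C M : Subgroup G) (hMC : M ≤ C) (hidx : M.relIndex C = 2)
    (hnorm : ∀ x ∈ C, ∀ m ∈ M, x * m * x⁻¹ ∈ M) (hperf : commutator M = ⊤)
    (hout : ∀ x ∈ C, (∀ m ∈ M, x * m = m * x) → x ∈ M) {σ : M →* SmallPlane} {φ : PC →* M} {ζ : M} {o : ℕ}
    (hσs : Function.Surjective σ) (hσk : σ.ker = center M) (hφs : Function.Surjective φ) (hφ : σ.comp φ = proj)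
    (ho : o < 2) (hZ : center M = zpowers ζ) (hord : orderOf ζ = 4)
    (hval : ∀ a < 16, φ ⟨zel a, ev_mem_PC 0 (z_okP a)⟩ = ζ ^ fval (kind o) a) :
    ∃ (i j : ℕ) (hi : i < 3) (y : G), (o, i, j) ∈ caseList ∧ y ∈ C ∧ y ∉ M ∧
      (∀ p : PC, y * (φ p : G) * y⁻¹ = (φ (outerTheta hi p) : G)) ∧ y * y = (ζ : G) ^ j := by
  classical
  obtain ⟨x, hxC, hxM⟩ : ∃ x ∈ C, x ∉ M := by
    by_contra h
    push Not at h
    rw [relIndex, show M.subgroupOf C = ⊤ from subgroupOf_eq_top.mpr h, index_top] at hidx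
    omega
  have hsq : ∀ z ∈ C, z * z ∈ M := fun z hz => by
    have := Subgroup.mul_mem_iff_of_index_two (show (M.subgroupOf C).index = 2 from hidx) (a := ⟨z, hz⟩) (b := ⟨z, hz⟩)
    simpa [mem_subgroupOf] using this
  let conjM : ∀ z ∈ C, MulAut M := fun z hz =>
    { toFun := fun m => ⟨z * m * z⁻¹, hnorm z hz m m.2⟩
      invFun := fun m => ⟨z⁻¹ * m * z, by simpa using hnorm z⁻¹ (inv_mem hz) m m.2⟩
      left_inv := fun m => Subtype.ext (by group)
      right_inv := fun m => Subtype.ext (by group)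
      map_mul' := fun m n => Subtype.ext (by simp only [Subgroup.coe_mul]; group) }
  obtain ⟨γ, hγ⟩ := exists_induced hσs (conjM x hxC)
    (by rw [hσk]; exact Subgroup.characteristic_iff_map_eq.mp inferInstance _)
  have hσle : σ.ker ≤ center M := hσk.le
  have hlift : ∀ {z : G} (hz : z ∈ C) {δ : MulAut SmallPlane}, (∀ m, σ (conjM z hz m) = δ (σ m)) →
      ∀ p, conjM z hz (φ p) = φ (lift δ p) := fun {z} hz {δ} hδ p =>
    DFunLike.congr_fun (hom_unique PC_perfect σ hσle
      (f₁ := (conjM z hz).toMonoidHom.comp φ) (f₂ := φ.comp (lift δ)) (MonoidHom.ext fun q => by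
        simp only [MonoidHom.comp_apply, MulEquiv.coe_toMonoidHom]
        rw [hδ, show σ (φ q) = proj q from DFunLike.congr_fun hφ q,
          show σ (φ (lift δ q)) = proj (lift δ q) from DFunLike.congr_fun hφ _]
        exact (DFunLike.congr_fun (proj_lift δ) q).symm)) p
  obtain ⟨s₀, k, hk, eγ, hact⟩ := exists_rep γ
  set A := outTable.getD k (0, 0) with hA
  have hζc : ∀ m : M, Commute ζ m := fun m => (mem_center_iff.mp (hZ ▸ mem_zpowers ζ) m).symm
  -- the action on the centre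
  obtain ⟨s, hs, es⟩ : ∃ s, (s = 1 ∨ s = 3) ∧ conjM x hxC ζ = ζ ^ s := by
    have hm : conjM x hxC ζ ∈ zpowers ζ := by
      rw [← hZ, ← Subgroup.characteristic_iff_map_eq.mp (inferInstance : (center M).Characteristic) (conjM x hxC)]
      exact mem_map_of_mem _ (hZ ▸ mem_zpowers ζ)
    obtain ⟨p, hp, ep⟩ := exists_pow_lt hord hm
    refine ⟨p, ?_, ep.symm⟩
    have h2 : orderOf (ζ ^ p) = 4 := by rw [ep, MulEquiv.orderOf_eq, hord]
    rw [orderOf_pow, hord] at h2
    interval_cases p <;> simp at h2 ⊢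
  have hfix : ∀ a < 16, fval (kind o) (comb A.1 A.2 a) = (s * fval (kind o) a) % 4 := by
    intro a ha
    have h := hlift hxC hγ ⟨zel a, ev_mem_PC 0 (z_okP a)⟩
    rw [show lift γ ⟨zel a, ev_mem_PC 0 (z_okP a)⟩ =
        ⟨zel (comb A.1 A.2 a), ev_mem_PC 0 (z_okP (comb A.1 A.2 a))⟩ from Subtype.ext (hact.image ha),
      hval _ (comb_lt _ _ _), hval a ha, map_pow, es, ← pow_mul, pow_inj_mod, hord] at h
    rw [h]
    have : fval (kind o) (comb A.1 A.2 a) < 4 := Nat.mod_lt _ (by norm_num)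
    omega
  have hinv : comb A.1 A.2 A.1 = 4 ∧ comb A.1 A.2 A.2 = 1 := by
    obtain ⟨r, hr⟩ : ∃ r : SmallPlane, γ * γ = MulAut.conj r := by
      refine ⟨σ ⟨x * x, hsq x hxC⟩, MulEquiv.ext fun z => ?_⟩
      obtain ⟨m, rfl⟩ := hσs z
      rw [MulAut.mul_apply, ← hγ, ← hγ, MulAut.conj_apply, ← map_inv, ← map_mul, ← map_mul]
      refine congrArg σ (Subtype.ext ?_)
      show x * (x * m * x⁻¹) * x⁻¹ = x * x * m * (x * x)⁻¹
      group
    have := ((hact.mul hact).unique (hr ▸ act_inner r))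
    exact ⟨congrArg Prod.fst this, congrArg Prod.snd this⟩
  have hk0 : k ≠ 0 := by
    rintro rfl
    obtain ⟨m, hm⟩ := hσs s₀
    have hy : ((m⁻¹ : M) : G) * x ∈ C := mul_mem (hMC (m⁻¹ : M).2) hxC
    have hz : ∀ n, σ (conjM _ hy n) = (1 : MulAut SmallPlane) (σ n) := fun n => by
      have : conjM _ hy n = m⁻¹ * conjM x hxC n * m⁻¹⁻¹ := Subtype.ext (by
        show ((m⁻¹ : M) : G) * x * n * (((m⁻¹ : M) : G) * x)⁻¹ = ((m⁻¹ : M) : G) * (x * n * x⁻¹) * ((m⁻¹⁻¹ : M) : G)
        rw [InvMemClass.coe_inv, InvMemClass.coe_inv, InvMemClass.coe_inv]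
        group)
      have hr0 : rep 0 = 1 := by
        rw [rep, show outWords.getD 0 [] = [] from by
          have h := out_zero
          rw [beq_iff_eq] at h
          rw [List.getD_eq_getElem?_getD] at h ⊢
          cases hh : outWords[0]? <;> simp [hh] at h ⊢
          exact h]
        rfl
      rw [this, map_mul, map_mul, map_inv σ m⁻¹, map_inv σ m, hγ, eγ, hr0, mul_one, MulAut.conj_apply, hm]
      simp [mul_assoc]
    have hid : ∀ n, conjM _ hy n = n := fun n => DFunLike.congr_fun (hom_unique hperf σ hσle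
      (f₁ := (conjM _ hy).toMonoidHom) (f₂ := MonoidHom.id M) (MonoidHom.ext fun q => hz q)) n
    have := hout _ hy fun n hn => mul_inv_eq_iff_eq_mul.mp (congrArg Subtype.val (hid ⟨n, hn⟩))
    exact hxM (by simpa using mul_mem m.2 this)
  obtain ⟨i, hi, hAi, hj⟩ : ∃ i < 3, A = outActs.getD i (0, 0) ∧ ∀ j < 4, (s * j) % 4 = j →
      ∃ c ∈ caseList, c.1 = o ∧ c.2.1 = i ∧ ∃ a < 16, (j + (s + 1) * fval (kind o) a) % 4 = c.2.2 := by
    have h := List.all_eq_true.mp (List.all_eq_true.mp (List.all_eq_true.mp reduce_outer k (List.mem_range.mpr hk)) o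
      (List.mem_range.mpr ho)) s (by simp; exact hs)
    simp only [Bool.or_eq_true, Bool.not_eq_true', Bool.and_eq_true, beq_iff_eq, List.any_eq_true, List.all_eq_true,
      List.mem_range, List.all_eq_false, Bool.and_eq_false_iff, beq_eq_false_iff_ne, ne_eq, ← hA] at h
    rcases h with ((h | h) | h) | h
    · obtain ⟨a, ha, hne⟩ := h
      exact absurd (hfix a ha) hne
    · rcases h with h | h
      exacts [absurd hinv.1 h, absurd hinv.2 h]
    · exact absurd h hk0
    · obtain ⟨i, hi, hAi, hall⟩ := h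
      refine ⟨i, hi, hAi, fun j hj hjs => ?_⟩
      rcases hall j hj with h | ⟨c, hc, ⟨h1, h2⟩, a, ha, h3⟩
      · exact absurd hjs h
      · exact ⟨c, hc, h1, h2, a, ha, h3⟩
  -- move to the outer permutation
  obtain ⟨s₁, k₁, hk₁, eα, hact₁⟩ := exists_rep (outerAut hi)
  have hkk : k₁ = k := table_inj hk₁ hk (by rw [← hA, hAi]; exact hact₁.unique (act_outer hi))
  subst hkk
  obtain ⟨m, hm⟩ := hσs (s₀ * s₁⁻¹)
  have hy₀ : ((m⁻¹ : M) : G) * x ∈ C := mul_mem (hMC (m⁻¹ : M).2) hxC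
  have hy₀M : ((m⁻¹ : M) : G) * x ∉ M := fun h => hxM ((mul_mem_cancel_left (m⁻¹ : M).2).mp h)
  set y₀ := ((m⁻¹ : M) : G) * x with hy₀d
  have hθ : ∀ p, conjM y₀ hy₀ (φ p) = φ (outerTheta hi p) := by
    intro p
    rw [← lift_outerAut hi]
    refine hlift hy₀ (fun n => ?_) p
    have : conjM _ hy₀ n = m⁻¹ * conjM x hxC n * m⁻¹⁻¹ := Subtype.ext (by
      show y₀ * n * y₀⁻¹ = ((m⁻¹ : M) : G) * (x * n * x⁻¹) * ((m⁻¹⁻¹ : M) : G)
      rw [hy₀d, InvMemClass.coe_inv, InvMemClass.coe_inv, InvMemClass.coe_inv]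
      group)
    rw [this, map_mul, map_mul, map_inv σ m⁻¹, map_inv σ m, hγ, hm, eγ, eα]
    simp only [MulAut.mul_apply, MulAut.conj_apply]
    group
  have hμ : (⟨y₀ * y₀, hsq y₀ hy₀⟩ : M) ∈ center M := by
    refine mem_center_iff.mpr fun n => ?_
    obtain ⟨p, rfl⟩ := hφs n
    refine (mul_inv_eq_iff_eq_mul.mp (Subtype.ext ?_)).symm
    show y₀ * y₀ * (φ p : G) * (y₀ * y₀)⁻¹ = (φ p : G)
    have h1 := congrArg Subtype.val (hθ p)
    have h2 := congrArg Subtype.val (hθ (outerTheta hi p))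
    have hid : outerTheta hi (outerTheta hi p) = p := Subtype.ext (by
      show gen i 2 * (gen i 2 * (p : Perm (Fin 504)) * (gen i 2)⁻¹) * (gen i 2)⁻¹ = p
      rw [show gen i 2 * (gen i 2 * (p : Perm (Fin 504)) * (gen i 2)⁻¹) * (gen i 2)⁻¹ =
        gen i 2 * gen i 2 * (p : Perm (Fin 504)) * (gen i 2 * gen i 2)⁻¹ by group, (outer_sq_comm hi p.2).eq,
        mul_inv_cancel_right])
    rw [hid] at h2
    change y₀ * (φ p : G) * y₀⁻¹ = _ at h1
    change y₀ * (φ (outerTheta hi p) : G) * y₀⁻¹ = _ at h2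
    rw [show y₀ * y₀ * (φ p : G) * (y₀ * y₀)⁻¹ = y₀ * (y₀ * (φ p : G) * y₀⁻¹) * y₀⁻¹ by group, h1, h2]
  rw [hZ] at hμ
  obtain ⟨j, hj4, ej⟩ := exists_pow_lt hord hμ
  have ej' : (ζ : G) ^ j = y₀ * y₀ := congrArg Subtype.val ej
  -- the action of the new element on the generator
  have hζy : y₀ * (ζ : G) * y₀⁻¹ = (ζ : G) ^ s := by
    have h1 : x * (ζ : G) * x⁻¹ = (ζ : G) ^ s := congrArg Subtype.val es
    rw [hy₀d, show ((m⁻¹ : M) : G) * x * (ζ : G) * (((m⁻¹ : M) : G) * x)⁻¹ =
      ((m⁻¹ : M) : G) * (x * (ζ : G) * x⁻¹) * (((m⁻¹ : M) : G))⁻¹ by group, h1, ← SubgroupClass.coe_pow]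
    have := congrArg Subtype.val (((hζc m⁻¹).pow_left s).symm.eq)
    simp only [Subgroup.coe_mul] at this
    rw [this, mul_inv_cancel_right]
  have hjs : (s * j) % 4 = j := by
    have h1 : y₀ * (ζ : G) ^ j * y₀⁻¹ = (ζ : G) ^ (s * j) := by rw [← conj_pow, hζy, pow_mul]
    have h2 : y₀ * (ζ : G) ^ j * y₀⁻¹ = (ζ : G) ^ j := by rw [ej']; group
    have h3 := (pow_inj_mod (x := (ζ : G))).mp (h1.symm.trans h2)
    rw [orderOf_coe, hord] at h3
    omega
  obtain ⟨c, hc, rfl, rfl, a, ha, hca⟩ := hj j hj4 hjs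
  refine ⟨c.2.1, c.2.2, hi, y₀ * (ζ : G) ^ fval (kind c.1) a, hc, mul_mem hy₀ (pow_mem (hMC ζ.2) _), fun h => hy₀M ?_,
    fun p => ?_, ?_⟩
  · exact (mul_mem_cancel_right (pow_mem ζ.2 _)).mp h
  · have h1 := congrArg Subtype.val (hθ p)
    change y₀ * (φ p : G) * y₀⁻¹ = _ at h1
    have h2 := congrArg Subtype.val ((hζc (φ p)).pow_left (fval (kind c.1) a)).eq
    simp only [Subgroup.coe_mul, SubgroupClass.coe_pow] at h2
    rw [show y₀ * (ζ : G) ^ fval (kind c.1) a * (φ p : G) * (y₀ * (ζ : G) ^ fval (kind c.1) a)⁻¹ =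
      y₀ * ((ζ : G) ^ fval (kind c.1) a * (φ p : G) * ((ζ : G) ^ fval (kind c.1) a)⁻¹) * y₀⁻¹ by group, h2,
      mul_inv_cancel_right, h1]
  · have h1 : y₀ * (ζ : G) ^ fval (kind c.1) a * y₀⁻¹ = (ζ : G) ^ (s * fval (kind c.1) a) := by
      rw [← conj_pow, hζy, pow_mul]
    rw [show y₀ * (ζ : G) ^ fval (kind c.1) a * (y₀ * (ζ : G) ^ fval (kind c.1) a) =
      (y₀ * (ζ : G) ^ fval (kind c.1) a * y₀⁻¹) * (y₀ * y₀) * (ζ : G) ^ fval (kind c.1) a by group, h1, ← ej',
      ← pow_add, ← pow_add, ← hca, ← pow_mod_orderOf, orderOf_coe, hord, Nat.add_mul, Nat.one_mul]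
    congr 1
    omega

/-- Coordinates from a surjection onto the large subgroup and an outer element in normal form. -/
theorem coord_of_outer (t : G) (ht : orderOf t = 2) (C Mg : Subgroup G) (hC : C = centralizer ({t} : Set G))
    (hMC : Mg ≤ C) (hidx : Mg.relIndex C = 2) (hout' : ∀ x ∈ C, (∀ m ∈ Mg, x * m = m * x) → x ∈ Mg)
    {σ : Mg →* SmallPlane} {φ : PC →* Mg} {ζ : Mg} {o i j : ℕ} (hσs : Function.Surjective σ)
    (hσk : σ.ker = center Mg) (hφs : Function.Surjective φ) (hφ : σ.comp φ = proj) (ho : o < 2)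
    (hZ : center Mg = zpowers ζ) (hord : orderOf ζ = 4)
    (hval : ∀ a < 16, φ ⟨zel a, ev_mem_PC 0 (z_okP a)⟩ = ζ ^ fval (kind o) a) (hi : i < 3) {y : G}
    (hmem : (o, i, j) ∈ caseList) (hyC : y ∈ C) (hyM : y ∉ Mg)
    (hconj : ∀ p : PC, y * (φ p : G) * y⁻¹ = (φ (outerTheta hi p) : G)) (hyy : y * y = (ζ : G) ^ j) :
    ∃ cd : Coord G t (o, i, j), cd.M = Mg ∧
      (∀ {w : List ℕ} (hw : okP w = true), cd.v w = (φ ⟨ev (gen 0) w, ev_mem_PC 0 hw⟩ : G)) ∧ cd.v [2] = y := by
  classical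
  have hZ4' : Nat.card (center Mg) = 4 := by rw [hZ, Nat.card_zpowers, hord]
  have hcardM : Nat.card Mg = 80640 := by
    rw [← σ.ker.card_mul_index, hσk, hZ4', ← hσk, index_ker, MonoidHom.range_eq_top.mpr hσs, card_top,
      plane_model.2.2.2.1]
  have hcardC : Nat.card C = 161280 := by
    rw [← (Mg.subgroupOf C).card_mul_index, show (Mg.subgroupOf C).index = 2 from hidx,
      Nat.card_congr (Subgroup.subgroupOfEquivOfLe hMC).toEquiv, hcardM]
  -- the letters
  let L : ℕ → G := fun a =>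
    if h : a ∈ [0, 1, 3, 4] then ((φ ⟨gen 0 a, gen_mem_PC 0 h⟩ : Mg) : G) else if a = 2 then y else y⁻¹
  let v : List ℕ → G := fun w => (w.map L).prod
  have hy8 : y ^ 8 = 1 := by
    rw [show 8 = 2 * 4 from rfl, pow_mul, pow_two, hyy, ← pow_mul, mul_comm, pow_mul,
      show (ζ : G) ^ 4 = 1 by rw [← hord, ← SubgroupClass.coe_pow, pow_orderOf_eq_one]; rfl, one_pow]
  have hpow : ∀ (n : ℕ) (p : PC), y ^ n * (φ p : G) * (y ^ n)⁻¹ =
      (φ ⟨gen i 2 ^ n * (p : Perm (Fin 504)) * (gen i 2 ^ n)⁻¹, outer_conj_mem hi p.2 n⟩ : G) := by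
    intro n
    induction n with
    | zero => intro p; simp
    | succ n ih =>
      intro p
      rw [show y ^ (n + 1) * (φ p : G) * (y ^ (n + 1))⁻¹ = y ^ n * (y * (φ p : G) * y⁻¹) * (y ^ n)⁻¹ by
        rw [pow_succ]; group, hconj, ih]
      refine congrArg (fun q => ((φ q : Mg) : G)) (Subtype.ext ?_)
      show gen i 2 ^ n * (gen i 2 * (p : Perm (Fin 504)) * (gen i 2)⁻¹) * (gen i 2 ^ n)⁻¹ =
        gen i 2 ^ (n + 1) * (p : Perm (Fin 504)) * (gen i 2 ^ (n + 1))⁻¹
      simp only [pow_succ]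
      group
  have hdec : ∀ {w : List ℕ}, okW w = true →
      ∃ p : PC, ev (gen i) w = (p : Perm (Fin 504)) * gen i 2 ^ steps w ∧ v w = (φ p : G) * y ^ steps w := by
    intro w
    induction w with
    | nil => exact fun _ => ⟨1, by simp [ev, steps], by simp [v, steps]⟩
    | cons a w ih =>
      intro hw
      rw [okW_iff] at hw
      have ha := hw a (List.mem_cons_self ..)
      obtain ⟨p, e1, e2⟩ := ih (okW_iff.mpr fun b hb => hw b (List.mem_cons_of_mem _ hb))
      have ev' : v (a :: w) = L a * v w := by simp [v]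
      rw [ev_cons, e1, ev', e2]
      have hinner : ∀ (h : a ∈ [0, 1, 3, 4]), steps (a :: w) = steps w → ∃ q : PC,
          gen i a * ((p : Perm (Fin 504)) * gen i 2 ^ steps w) = (q : Perm (Fin 504)) * gen i 2 ^ steps (a :: w) ∧
          L a * ((φ p : G) * y ^ steps w) = (φ q : G) * y ^ steps (a :: w) := fun h hs =>
        ⟨⟨gen 0 a, gen_mem_PC 0 h⟩ * p, by rw [hs, gen_inner i h, Subgroup.coe_mul, mul_assoc],
          by simp only [L, dif_pos h]; rw [hs, map_mul, Subgroup.coe_mul, mul_assoc]⟩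
      interval_cases a
      · exact hinner (by simp) rfl
      · exact hinner (by simp) rfl
      · refine ⟨⟨_, outer_conj_mem hi p.2 1⟩, ?_, ?_⟩
        · rw [show steps (2 :: w) = steps w + 1 from rfl, pow_succ' (gen i 2) (steps w)]
          simp only [pow_one]
          group
        · have h := hpow 1 p
          rw [show steps (2 :: w) = steps w + 1 from rfl, pow_succ' y (steps w)]
          rw [show L 2 = y from by simp [L], ← h]
          simp only [pow_one]
          group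
      · exact hinner (by simp) rfl
      · exact hinner (by simp) rfl
      · refine ⟨⟨_, outer_conj_mem hi p.2 7⟩, ?_, ?_⟩
        · have h7 : gen i 5 = gen i 2 ^ 7 := by
            rw [show (5 : ℕ) = invL 2 from rfl, (gens_ok hi).inv 2 (by norm_num), inv_eq_iff_mul_eq_one, ← pow_succ']
            exact outer_pow_eight hi
          show gen i 5 * _ = _
          rw [show steps (5 :: w) = steps w + 7 from rfl, h7, pow_add]
          have hc : Commute (gen i 2 ^ steps w) (gen i 2 ^ 7) := (Commute.refl _).pow_pow _ _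
          rw [hc.eq]
          group
        · have h7 : y⁻¹ = y ^ 7 := by rw [inv_eq_iff_mul_eq_one, ← pow_succ', hy8]
          have h := hpow 7 p
          rw [show steps (5 :: w) = steps w + 7 from rfl, show L 5 = y⁻¹ from by simp [L], h7, ← h, pow_add]
          have hc : Commute (y ^ steps w) (y ^ 7) := (Commute.refl _).pow_pow _ _
          rw [hc.eq]
          group
  have v_app : ∀ a b : List ℕ, v (a ++ b) = v a * v b := fun a b => by simp [v, List.prod_append]
  have hparity : ∀ n : ℕ, y ^ n ∈ Mg ↔ n % 2 = 0 := fun n => by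
    conv_lhs => rw [← Nat.mod_add_div n 2, pow_add, pow_mul, pow_two, hyy]
    rw [mul_mem_cancel_right (pow_mem (pow_mem ζ.2 _) _)]
    rcases Nat.mod_two_eq_zero_or_one n with h | h <;> rw [h]
    · simp [one_mem]
    · simp [hyM]
  have hstep0 : ∀ {w : List ℕ}, okP w = true → steps w = 0 := by
    intro w
    induction w with
    | nil => exact fun _ => rfl
    | cons a w ih =>
      intro hw
      rw [okP_iff] at hw
      have hs := ih (okP_iff.mpr fun b hb => hw b (List.mem_cons_of_mem _ hb))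
      have ha := hw a (List.mem_cons_self ..)
      simp only [List.mem_cons, List.not_mem_nil, or_false] at ha
      rcases ha with rfl | rfl | rfl | rfl <;> exact hs
  have hrepl : ∀ r : ℕ, okW (List.replicate r 2) = true ∧ steps (List.replicate r 2) = r ∧
      ev (gen i) (List.replicate r 2) = gen i 2 ^ r ∧ v (List.replicate r 2) = y ^ r := fun r => by
    refine ⟨okW_iff.mpr fun b hb => by rw [List.eq_of_mem_replicate hb]; norm_num, ?_, by simp [ev], ?_⟩
    · induction r with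
      | zero => rfl
      | succ r ih => rw [List.replicate_succ]; exact congrArg (· + 1) ih
    · simp [v, L]
  have hvP : ∀ {w : List ℕ} (hw : okP w = true), v w = (φ ⟨ev (gen 0) w, ev_mem_PC 0 hw⟩ : G) := by
    intro w hw
    obtain ⟨p, e1, e2⟩ := hdec (okW_of_okP hw)
    rw [hstep0 hw, pow_zero, mul_one] at e1 e2
    rw [e2, show p = ⟨_, ev_mem_PC 0 hw⟩ from Subtype.ext (e1.symm.trans (ev_inner i hw))]
  have hkw : ∀ k ∈ kWords o j, okW k = true ∧ v k = 1 := by
    intro k hk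
    obtain ⟨⟨a, r⟩, hp, rfl⟩ := List.mem_map.mp hk
    obtain ⟨hp, he⟩ := List.mem_filter.mp hp
    obtain ⟨a', ha', hr'⟩ := List.mem_flatMap.mp hp
    obtain ⟨r', -, hr''⟩ := List.mem_map.mp hr'
    obtain ⟨rfl, rfl⟩ := Prod.mk.inj hr''
    refine ⟨okW_append.mpr ⟨okW_of_okP (z_okP a'), (hrepl _).1⟩, ?_⟩
    rw [v_app, hvP (z_okP a'), (hrepl _).2.2.2, pow_mul, pow_two, hyy, ← pow_mul,
      show (⟨ev (gen 0) (zWords.getD a' []), _⟩ : PC) = ⟨zel a', ev_mem_PC 0 (z_okP a')⟩ from rfl,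
      hval a' (List.mem_range.mp ha'), SubgroupClass.coe_pow, ← pow_add, ← pow_mod_orderOf, orderOf_coe, hord]
    simp only [beq_iff_eq] at he
    rw [Nat.mul_comm j, he, pow_zero]
  have hv1 : ∀ {w : List ℕ}, okW w = true → (v w = 1 ↔ ∃ k ∈ kWords o j, ev (gen i) w = ev (gen i) k) := by
    intro w hw
    obtain ⟨p, e1, e2⟩ := hdec hw
    constructor
    · intro h1
      have heven : steps w % 2 = 0 := (hparity _).mp (by
        have : y ^ steps w = ((φ p : G))⁻¹ := eq_inv_of_mul_eq_one_right (e2 ▸ h1)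
        rw [this]; exact inv_mem (φ p).2)
      obtain ⟨r, hr⟩ : ∃ r, steps w = 2 * r := ⟨steps w / 2, by omega⟩
      rw [e2, hr, pow_mul, pow_two, hyy, ← pow_mul, ← SubgroupClass.coe_pow, ← Subgroup.coe_mul, OneMemClass.coe_eq_one] at h1
      have hpk : p ∈ proj.ker := by
        rw [MonoidHom.mem_ker, ← hφ, MonoidHom.comp_apply, eq_inv_of_mul_eq_one_left h1, map_inv, inv_eq_one,
          ← MonoidHom.mem_ker, hσk, hZ]
        exact pow_mem (mem_zpowers ζ) _
      obtain ⟨a, ha, ea⟩ := (ker_proj_iff p).mp hpk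
      rw [show p = ⟨zel a, ev_mem_PC 0 (z_okP a)⟩ from Subtype.ext ea, hval a ha, ← pow_add] at h1
      have hd := orderOf_dvd_of_pow_eq_one h1
      rw [hord] at hd
      refine ⟨zWords.getD a [] ++ List.replicate (2 * (r % 4)) 2,
        List.mem_map.mpr ⟨(a, r % 4), List.mem_filter.mpr
          ⟨List.mem_flatMap.mpr ⟨a, List.mem_range.mpr ha,
            List.mem_map.mpr ⟨r % 4, List.mem_range.mpr (Nat.mod_lt _ (by norm_num)), rfl⟩⟩, ?_⟩, rfl⟩, ?_⟩
      · simp only [beq_iff_eq]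
        rw [Nat.add_mod, Nat.mul_mod, Nat.mod_mod, ← Nat.mul_mod, ← Nat.add_mod, Nat.mul_comm]
        exact Nat.mod_eq_zero_of_dvd hd
      · rw [ev_append, ev_inner i (z_okP a), (hrepl _).2.2.1, e1, ea, hr, outer_pow_mod hi (2 * r),
          outer_pow_mod hi (2 * (r % 4))]
        congr 2
        omega
    · rintro ⟨k, hk, ek⟩
      obtain ⟨q, f1, f2⟩ := hdec (hkw k hk).1
      rw [e1, f1] at ek
      have ek' : (q : Perm (Fin 504))⁻¹ * (p : Perm (Fin 504)) * gen i 2 ^ (steps w + 7 * steps k) = 1 := by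
        rw [pow_add, ← mul_assoc, mul_assoc _ (p : Perm (Fin 504)), ek, inv_mul_cancel_left, ← pow_add,
          show steps k + 7 * steps k = 8 * steps k by omega, pow_mul, outer_pow_eight hi, one_pow]
      obtain ⟨hqp, hst⟩ := eq_one_of_split hi (mul_mem (inv_mem q.2) p.2) ek'
      rw [inv_mul_eq_one] at hqp
      have hq : q = p := Subtype.ext hqp
      rw [e2, ← hq, ← (hkw k hk).2, f2]
      congr 1
      rw [← Nat.mod_add_div (steps w) 8, ← Nat.mod_add_div (steps k) 8, pow_add, pow_add, pow_mul, pow_mul, hy8,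
        one_pow, one_pow, show steps w % 8 = steps k % 8 by omega]
  refine ⟨⟨hmem, v, Mg, rfl, fun {a b} _ _ => v_app a b, fun {a} ha => hC ▸ ?_, fun {g} hg' => ?_,
    fun {a b} ha hb => ?_, fun {a} ha => ?_, ?_, hC ▸ hcardC⟩, rfl, fun {w} hw => hvP hw, by simp [v, L]⟩
  · obtain ⟨p, -, e2⟩ := hdec ha
    rw [e2]
    exact mul_mem (hMC (φ p).2) (pow_mem hyC _)
  · have hg : g ∈ C := hC ▸ hg'
    have hsplit : g ∈ Mg ∨ g * y⁻¹ ∈ Mg := by
      by_cases h : g ∈ Mg
      · exact .inl h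
      · have h2 := Subgroup.mul_mem_iff_of_index_two (show (Mg.subgroupOf C).index = 2 from hidx) (a := ⟨g, hg⟩)
          (b := (⟨y, hyC⟩ : C)⁻¹)
        simp only [mem_subgroupOf, Subgroup.coe_mul, InvMemClass.coe_inv, inv_mem_iff, h, hyM] at h2
        exact .inr (h2.mpr trivial)
    rcases hsplit with h | h
    · obtain ⟨p, hp⟩ := hφs ⟨g, h⟩
      obtain ⟨w, hw, ew⟩ := exists_word p.2
      refine ⟨w, okW_of_okP hw, ?_⟩
      rw [hvP hw, show (⟨ev (gen 0) w, _⟩ : PC) = p from Subtype.ext ew, hp]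
    · obtain ⟨p, hp⟩ := hφs ⟨_, h⟩
      obtain ⟨w, hw, ew⟩ := exists_word p.2
      refine ⟨w ++ [2], okW_append.mpr ⟨okW_of_okP hw, rfl⟩, ?_⟩
      rw [v_app, hvP hw, show (⟨ev (gen 0) w, _⟩ : PC) = p from Subtype.ext ew, hp,
        show v [2] = y by simp [v, L]]
      simp
  · refine (gens_ok hi).key_iff (fun _ => faith hi) (fun k hk => (hkw k hk).1) ?_ (fun p q hp hq => ?_) ha hb
    · refine List.ne_nil_of_mem (a := zWords.getD 0 [] ++ List.replicate (2 * 0) 2) (List.mem_map.mpr ⟨(0, 0), ?_, rfl⟩)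
      simp only [kPairs, List.mem_filter, List.mem_flatMap, List.mem_map, List.mem_range]
      exact ⟨⟨0, by norm_num, 0, by norm_num, rfl⟩, by simp [fval]⟩
    · have hiw : okW (invW q ++ p) = true := okW_append.mpr ⟨okW_invW q, hp⟩
      have hinvv : v (invW q) = (v q)⁻¹ := by
        refine eq_inv_of_mul_eq_one_left ?_
        rw [← v_app]
        refine (hv1 (okW_append.mpr ⟨okW_invW q, hq⟩)).mpr ⟨zWords.getD 0 [] ++ List.replicate (2 * 0) 2, ?_, ?_⟩
        · refine List.mem_map.mpr ⟨(0, 0), ?_, rfl⟩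
          simp only [kPairs, List.mem_filter, List.mem_flatMap, List.mem_map, List.mem_range]
          exact ⟨⟨0, by norm_num, 0, by norm_num, rfl⟩, by simp [fval]⟩
        · rw [ev_append, (gens_ok hi).ev_invW hq, inv_mul_cancel, ev_append, ev_inner i (z_okP 0)]
          show (1 : Perm (Fin 504)) = zel 0 * _
          rw [zel_zero, one_mul]
          rfl
      rw [show v p = v q ↔ v (invW q ++ p) = 1 from by rw [v_app, hinvv, inv_mul_eq_one]; exact eq_comm, hv1 hiw]
      refine exists_congr fun k => and_congr_right fun _ => ?_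
      rw [ev_append, (gens_ok hi).ev_invW hq, inv_mul_eq_iff_eq_mul]
  · obtain ⟨p, -, e2⟩ := hdec ha
    rw [e2, mul_mem_cancel_left (φ p).2, hparity, parW_steps ha]
  · -- the involution
    show v (zWords.getD 8 []) = t
    have hf : fval (kind o) 8 = 2 := by interval_cases o <;> rfl
    have htC : t ∈ C := hC ▸ mem_centralizer_singleton_iff.mpr rfl
    have htM : t ∈ Mg := hout' t htC fun m hm => (mem_centralizer_singleton_iff.mp (hC ▸ hMC hm)).symm
    have htZ : (⟨t, htM⟩ : Mg) ∈ center Mg :=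
      mem_center_iff.mpr fun m => Subtype.ext (mem_centralizer_singleton_iff.mp (hC ▸ hMC m.2))
    rw [hZ] at htZ
    obtain ⟨k, hk, ek⟩ := exists_pow_lt hord htZ
    have ek' : (ζ : G) ^ k = t := congrArg Subtype.val ek
    have h2 : orderOf ((ζ : G) ^ k) = 2 := by rw [ek', ht]
    rw [orderOf_pow, orderOf_coe, hord] at h2
    rw [hvP (z_okP 8), show (⟨ev (gen 0) (zWords.getD 8 []), _⟩ : PC) = ⟨zel 8, ev_mem_PC 0 (z_okP 8)⟩ from rfl,
      hval 8 (by norm_num), hf, SubgroupClass.coe_pow, ← ek']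
    interval_cases k <;> simp at h2 ⊢

/-- Coordinates exist, with the centraliser named. -/
theorem exists_coord' (t : G) (ht : orderOf t = 2) (C : Subgroup G) (hC : C = centralizer ({t} : Set G))
    (M : Subgroup C) [M.Normal] (hM : M.index = 2) (hout : centralizer (M : Set C) ≤ M)
    (hZc : IsCyclic (center M)) (hZ4 : Nat.card (center M) = 4) (hperf : commutator M = ⊤)
    (F : Type) [Field F] [Fintype F] (hF : Fintype.card F = 4)
    (e : M ⧸ center M ≃* Matrix.ProjectiveSpecialLinearGroup (Fin 3) F) :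
    ∃ c, Nonempty (Coord G t c) := by
  classical
  let Mg : Subgroup G := M.map C.subtype
  let em : M ≃* Mg := M.equivMapOfInjective C.subtype C.subtype_injective
  have hMC : Mg ≤ C := Subgroup.map_subtype_le _
  have hidx : Mg.relIndex C = 2 := by
    rw [relIndex, show Mg.subgroupOf C = M from Subgroup.comap_map_eq_self_of_injective C.subtype_injective _, hM]
  have hnorm : ∀ x ∈ C, ∀ m ∈ Mg, x * m * x⁻¹ ∈ Mg := by
    rintro x hx _ ⟨m, hm, rfl⟩
    exact ⟨⟨x, hx⟩ * m * ⟨x, hx⟩⁻¹, Subgroup.Normal.conj_mem inferInstance m hm _, rfl⟩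
  have hperf' : commutator Mg = ⊤ := by
    have h := congrArg (Subgroup.map em.toMonoidHom) hperf
    rwa [_root_.commutator_def, map_commutator, map_top_of_surjective _ em.surjective, ← _root_.commutator_def] at h
  have hout' : ∀ x ∈ C, (∀ m ∈ Mg, x * m = m * x) → x ∈ Mg := fun x hx h => by
    refine ⟨⟨x, hx⟩, hout (mem_centralizer_iff.mpr fun m hm => Subtype.ext ?_), rfl⟩
    exact (h m ⟨m, hm, rfl⟩).symm
  have hcen : (center M).map em.toMonoidHom = center Mg := by
    refine le_antisymm ?_ fun z hz => ⟨em.symm z, mem_center_iff.mpr fun m => em.injective ?_, by simp⟩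
    · rintro _ ⟨z, hz, rfl⟩
      refine mem_center_iff.mpr fun m => ?_
      obtain ⟨m, rfl⟩ := em.surjective m
      exact (map_mul em m z).symm.trans ((congrArg em (mem_center_iff.mp hz m)).trans (map_mul em z m))
    · rw [map_mul, map_mul, em.apply_symm_apply]
      exact mem_center_iff.mp hz _
  let ez : center M ≃* center Mg :=
    ((center M).equivMapOfInjective em.toMonoidHom em.injective).trans (MulEquiv.subgroupCongr hcen)
  have hZc' : IsCyclic (center Mg) := isCyclic_of_surjective ez ez.surjective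
  have hZ4' : Nat.card (center Mg) = 4 := (Nat.card_congr ez.toEquiv).symm.trans hZ4
  let e' : Mg ⧸ center Mg ≃* Matrix.ProjectiveSpecialLinearGroup (Fin 3) F :=
    (QuotientGroup.congr (center M) (center Mg) em hcen).symm.trans e
  obtain ⟨σ, φ, ζ, o, hσs, hσk, hφs, hφ, ho, hZ, hord, hval⟩ := exists_phi Mg hperf' hZc' hZ4' hF e'
  obtain ⟨i, j, hi, y, hmem, hyC, hyM, hconj, hyy⟩ :=
    exists_outer C Mg hMC hidx hnorm hperf' hout' hσs hσk hφs hφ ho hZ hord hval
  obtain ⟨cd, -⟩ := coord_of_outer t ht C Mg hC hMC hidx hout' hσs hσk hφs hφ ho hZ hord hval hi hmem hyC hyM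
    hconj hyy
  exact ⟨(o, i, j), ⟨cd⟩⟩

/-- Coordinates exist. -/
theorem exists_coord (t : G) (ht : orderOf t = 2) (M : Subgroup (centralizer ({t} : Set G))) [M.Normal]
    (hM : M.index = 2) (hout : centralizer (M : Set (centralizer ({t} : Set G))) ≤ M)
    (hZc : IsCyclic (center M)) (hZ4 : Nat.card (center M) = 4) (hperf : commutator M = ⊤)
    (F : Type) [Field F] [Fintype F] (hF : Fintype.card F = 4)
    (e : M ⧸ center M ≃* Matrix.ProjectiveSpecialLinearGroup (Fin 3) F) :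
    ∃ c, Nonempty (Coord G t c) :=
  exists_coord' t ht _ rfl M hM hout hZc hZ4 hperf F hF e

end CfsgON
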