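/-
Elementary facts on coordinates of an involution centraliser.
-/
import Cfsg.Agent.Lib.ONRecog.Setting
import Cfsg.Agent.Lib.ONRecog.Fast

set_option autoImplicit false
set_option maxHeartbeats 400000

namespace CfsgON

open CfsgPC Subgroup

universe u

theorem okW_cjW {w x : List ℕ} (hw : okW w = true) (hx : okW x = true) : okW (w ++ x ++ invW w) = true :=
  okW_append.mpr ⟨okW_append.mpr ⟨hw, hx⟩, okW_invW w⟩

theorem okW_single {a : ℕ} (h : a < 6) : okW [a] = true := okW_iff.mpr fun b hb => by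
  rw [List.mem_singleton.mp hb]; exact h

theorem okW_z (a : ℕ) : okW (zWords.getD a []) = true := okW_of_okP (z_okP a)

/-- Two words with the same action on every point have the same key. -/
theorem key_congr {gs : List ℕ} (Kp : List (List ℕ)) {u w : List ℕ}
    (h : ∀ ps ∈ Kp, ∀ p ∈ ps, apW gs u p = apW gs w p) : key gs Kp u = key gs Kp w := by
  refine congrArg (List.foldl Nat.min (2 ^ 64)) (List.map_congr_left fun ps hps => ?_)
  exact congrArg pack (List.map_congr_left fun p hp => h ps hps p hp)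

theorem Gens.img_lt504 {gs : List ℕ} {g : ℕ → Equiv.Perm (Fin 504)} (h : Gens gs g) {k : List ℕ} (hk : okW k = true) :
    ∀ p ∈ img gs k, p < 504 := by
  intro p hp
  obtain ⟨b, hb, rfl⟩ := List.mem_map.mp hp
  rw [h.ev_apW hk ⟨b, Gens.bases_lt b hb⟩]
  exact Fin.is_lt _

theorem okW_kWords (o j : ℕ) : ∀ k ∈ kWords o j, okW k = true := by
  intro k hk
  obtain ⟨p, -, rfl⟩ := List.mem_map.mp hk
  refine okW_append.mpr ⟨okW_z _, okW_iff.mpr fun b hb => ?_⟩
  rw [List.eq_of_mem_replicate hb]; norm_num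

namespace Coord

variable {G : Type u} [Group G] {t : G} {c : ℕ × ℕ × ℕ} (cd : Coord G t c)
include cd

theorem i_lt : c.2.1 < 3 :=
  (show ∀ c ∈ caseList, c.2.1 < 3 by decide) c cd.mem

theorem v_invW {a : List ℕ} (ha : okW a = true) : cd.v (invW a) = (cd.v a)⁻¹ := by
  refine eq_inv_of_mul_eq_one_left ?_
  rw [← cd.v_append (okW_invW a) ha, ← cd.v_nil]
  refine (cd.key_iff (okW_append.mpr ⟨okW_invW a, ha⟩) rfl).mp (key_congr _ fun ps hps p hp => ?_)
  obtain ⟨k, hk, rfl⟩ := List.mem_map.mp hps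
  have hg := gens_ok cd.i_lt
  have hp' := hg.img_lt504 (okW_kWords _ _ k hk) p hp
  rw [show p = ((⟨p, hp'⟩ : Fin 504) : ℕ) from rfl, hg.ev_apW (okW_append.mpr ⟨okW_invW a, ha⟩), ev_append,
    hg.ev_invW ha, inv_mul_cancel]
  rfl

theorem v_cjW {w x : List ℕ} (hw : okW w = true) (hx : okW x = true) :
    cd.v (w ++ x ++ invW w) = cd.v w * cd.v x * (cd.v w)⁻¹ := by
  rw [cd.v_append (okW_append.mpr ⟨hw, hx⟩) (okW_invW w), cd.v_append hw hx, cd.v_invW hw]

theorem v_comm {w x : List ℕ} (hw : okW w = true) (hx : okW x = true)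
    (h : key (gsX c.2.1) ((kWords c.1 c.2.2).map (img (gsX c.2.1))) (w ++ x) =
      key (gsX c.2.1) ((kWords c.1 c.2.2).map (img (gsX c.2.1))) (x ++ w)) : Commute (cd.v w) (cd.v x) := by
  show cd.v w * cd.v x = cd.v x * cd.v w
  rw [← cd.v_append hw hx, ← cd.v_append hx hw]
  exact (cd.key_iff (okW_append.mpr ⟨hw, hx⟩) (okW_append.mpr ⟨hx, hw⟩)).mp h

/-- Commuting with the three letters is commuting with the centraliser. -/
theorem central_of_letters {z : G} (h : ∀ a ∈ [0, 1, 2], Commute (cd.v [a]) z) {g : G}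
    (hg : g ∈ centralizer ({t} : Set G)) : Commute g z := by
  obtain ⟨w, hw, rfl⟩ := cd.v_surj hg
  clear hg
  have h6 : ∀ a < 6, Commute (cd.v [a]) z := fun a ha => by
    have hi : ∀ b ∈ [0, 1, 2], Commute (cd.v [invL b]) z := fun b hb => by
      have hb' : b < 6 := by simp only [List.mem_cons, List.not_mem_nil, or_false] at hb; omega
      rw [show [invL b] = invW [b] from rfl, cd.v_invW (okW_single hb')]
      exact (h b hb).inv_left
    interval_cases a
    exacts [h 0 (by simp), h 1 (by simp), h 2 (by simp), hi 0 (by simp), hi 1 (by simp), hi 2 (by simp)]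
  induction w with
  | nil => rw [cd.v_nil]; exact Commute.one_left z
  | cons a w ih =>
    rw [okW_iff] at hw
    have hw' : okW w = true := okW_iff.mpr fun b hb => hw b (List.mem_cons_of_mem _ hb)
    rw [show a :: w = [a] ++ w from rfl, cd.v_append (okW_single (hw a (List.mem_cons_self ..))) hw']
    exact (h6 a (hw a (List.mem_cons_self ..))).mul_left (ih hw')

end Coord

end CfsgON
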