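/-
Classes of involutions of one possible involution centraliser, from checked data.
-/
import Cfsg.Agent.Lib.ONRecog.CoordBasic
import Cfsg.Agent.Lib.ONRecog.Checker

set_option autoImplicit false
set_option maxHeartbeats 800000
set_option linter.unusedSectionVars false

namespace CfsgON

open CfsgPC Subgroup
open scoped Pointwise

universe u

theorem incF_lt {f : ℕ → ℕ} {n : ℕ} (h : incF f n = true) {i j : ℕ} (hij : i < j) (hj : j < n) : f i < f j := by
  simp only [incF, List.all_eq_true, List.mem_range, Nat.blt_eq] at h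
  induction j with
  | zero => omega
  | succ j ih =>
    rcases Nat.lt_succ_iff_lt_or_eq.mp hij with h' | rfl
    · exact (ih h' (by omega)).trans (h j (by omega))
    · exact h i (by omega)

theorem increasing_nodup : ∀ {l : List ℕ}, increasing l = true → l.Pairwise (· < ·)
  | [], _ => List.Pairwise.nil
  | [a], _ => List.pairwise_singleton _ a
  | a :: b :: l, h => by
    simp only [increasing, Bool.and_eq_true, Nat.blt_eq] at h
    have ih := increasing_nodup h.2
    refine List.pairwise_cons.mpr ⟨fun x hx => ?_, ih⟩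
    rcases List.mem_cons.mp hx with rfl | hx
    · exact h.1
    · exact h.1.trans ((List.pairwise_cons.mp ih).1 x hx)

namespace FData

/-- All checks of a case. -/
structure Good (D : FData) : Prop where
  shape : D.shapeChk = true
  syl : D.sylChk = true
  clos : D.closChk = true
  cls : D.clsChk = true
  cent : D.centChk = true
  out : D.outChk = true
  elim : D.elimChk = true

variable {D : FData} (hD : D.Good) {G : Type u} [Group G] [Finite G] {t : G} (cd : Coord G t D.c)

include hD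

theorem sel_ok : selOK D.pts D.sel ((kWords D.c.1 D.c.2.2).map (img (gsX D.c.2.1))) = true := by
  have h := hD.shape
  simp only [shapeChk, Bool.and_eq_true] at h
  exact h.1.1.1.1.1.1.1.2

theorem ok_sgens {w : List ℕ} (hw : w ∈ D.sgens) : okW w = true := by
  have h := hD.shape
  simp only [shapeChk, Bool.and_eq_true, List.all_eq_true] at h
  exact h.1.1.1.1.1.1.2 w hw

theorem ok_s {i : ℕ} (hi : i < 512) : okW (D.s i) = true ∧ okW (D.cls i).1 = true := by
  have h := hD.shape
  simp only [shapeChk, Bool.and_eq_true, List.all_eq_true, List.mem_range] at h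
  exact h.1.1.1.1.1.2 i hi

theorem ok_u : okW D.u = true := by
  have h := hD.shape
  simp only [shapeChk, Bool.and_eq_true] at h
  exact h.1.1.1.1.2

theorem par_u : parW D.u = true := by
  have h := hD.shape
  simp only [shapeChk, Bool.and_eq_true] at h
  exact h.1.1.1.2

theorem ok_r {i : ℕ} (hi : i < 256) : okW (D.r i) = true := by
  have h := hD.shape
  simp only [shapeChk, Bool.and_eq_true, List.all_eq_true, List.mem_range] at h
  exact h.1.1.2 i hi

theorem ok_rList {w : List ℕ} (hw : w ∈ D.rList) : okW w = true := by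
  obtain ⟨i, hi, rfl⟩ := List.mem_map.mp hw
  exact ok_r hD (List.mem_range.mp hi)

theorem ok_cw {i : ℕ} (hi : i < 630) : okW (D.cw i) = true := by
  have h := hD.shape
  simp only [shapeChk, Bool.and_eq_true, List.all_eq_true, List.mem_range] at h
  exact h.1.2 i hi

theorem ok_out {o : OutRep} (ho : o ∈ D.outs) :
    okW o.rep = true ∧ parW o.rep = false ∧ okW o.three = true ∧ okW o.left = true ∧ okW o.right = true := by
  have h := hD.shape
  simp only [shapeChk, Bool.and_eq_true, List.all_eq_true, Bool.not_eq_true'] at h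
  obtain ⟨⟨⟨⟨h1, h2⟩, h3⟩, h4⟩, h5⟩ := h.2 o ho
  exact ⟨h1, h2, h3, h4, h5⟩

theorem ok_rep {r : ℕ} : okW (D.reps.getD r []) = true := by
  by_cases hr : r < D.reps.length
  · rw [List.getD_eq_getElem _ _ hr]
    have hm := List.getElem_mem hr
    rcases List.mem_cons.mp hm with h | h
    · rw [h]; exact ok_u hD
    · obtain ⟨o, ho, e⟩ := List.mem_map.mp h
      rw [← e]; exact (ok_out hD ho).1
  · rw [List.getD_eq_default _ _ (Nat.le_of_not_lt hr)]
    rfl

include cd

theorem K_iff {a b : List ℕ} (ha : okW a = true) (hb : okW b = true) : D.K a = D.K b ↔ cd.v a = cd.v b := by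
  rw [K, K, fkey_eq _ (sel_ok hD), fkey_eq _ (sel_ok hD)]
  exact cd.key_iff ha hb

theorem K_one {a : List ℕ} (ha : okW a = true) : D.K a = D.K [] ↔ cd.v a = 1 := by
  rw [K_iff hD cd ha rfl, cd.v_nil]

theorem K_t {a : List ℕ} (ha : okW a = true) : D.K a = D.K (zWords.getD 8 []) ↔ cd.v a = t := by
  rw [K_iff hD cd ha (okW_z 8), cd.v_t]

theorem K_sq {a : List ℕ} (ha : okW a = true) : D.K (a ++ a) = D.K [] ↔ cd.v a * cd.v a = 1 := by
  rw [K_one hD cd (okW_append.mpr ⟨ha, ha⟩), cd.v_append ha ha]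

theorem K_comm {a b : List ℕ} (ha : okW a = true) (hb : okW b = true) :
    D.K (a ++ b) = D.K (b ++ a) ↔ Commute (cd.v a) (cd.v b) := by
  rw [K_iff hD cd (okW_append.mpr ⟨ha, hb⟩) (okW_append.mpr ⟨hb, ha⟩), cd.v_append ha hb, cd.v_append hb ha]
  exact Iff.rfl

theorem sKey_eq {i : ℕ} (hi : i < 512) : D.sKey i = D.K (D.s i) := by
  have h := hD.syl
  simp only [sylChk, Bool.and_eq_true, List.all_eq_true, List.mem_range] at h
  exact (Nat.eq_of_beq_eq_true (h.1.1.1.1 i hi)).symm

/-- The generated Sylow subgroup. -/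
def sylSub : Subgroup G := closure {g | ∃ w ∈ D.sgens, cd.v w = g}

theorem sylSub_le : sylSub cd ≤ centralizer ({t} : Set G) := by
  refine (closure_le _).mpr ?_
  rintro _ ⟨w, hw, rfl⟩
  exact cd.v_cent (ok_sgens hD hw)

theorem sylSub_spec : Nat.card (sylSub cd) = 512 ∧
    ∀ g, g ∈ sylSub cd ↔ ∃ i < 512, cd.v (D.s i) = g := by
  classical
  have hs := hD.syl
  simp only [sylChk, Bool.and_eq_true, List.all_eq_true, List.mem_range, Nat.blt_eq, Nat.ble_eq] at hs
  obtain ⟨⟨⟨⟨-, hk0⟩, hinc⟩, hlt⟩, hpar⟩ := hs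
  have hc := hD.clos
  simp only [closChk, Bool.and_eq_true, List.all_eq_true, List.mem_range, Nat.blt_eq] at hc
  let e : ℕ → G := fun i => cd.v (D.s i)
  let A : Finset G := (Finset.range 512).image e
  have hmem : ∀ g, g ∈ A ↔ ∃ i < 512, e i = g := by
    intro g; simp [A]
  have hstep : ∀ {g : ℕ}, g < D.sgens.length → ∀ {i : ℕ}, i < 512 →
      ∃ j < 512, D.mv g i = j ∧ cd.v (D.sgens.getD g []) * e i = e j := by
    intro g hg i hi
    obtain ⟨hj, hK⟩ := hc g hg i hi
    have hgok : okW (D.sgens.getD g []) = true := by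
      rw [List.getD_eq_getElem _ _ hg]; exact ok_sgens hD (List.getElem_mem hg)
    refine ⟨_, hj, rfl, ?_⟩
    have h := Nat.eq_of_beq_eq_true hK
    rw [sKey_eq hD cd hj, K_iff hD cd (okW_append.mpr ⟨hgok, (ok_s hD hi).1⟩) (ok_s hD hj).1,
      cd.v_append hgok (ok_s hD hi).1] at h
    exact h
  have e0 : e 0 = 1 := by
    have h := Nat.eq_of_beq_eq_true hk0
    rw [sKey_eq hD cd (by norm_num)] at h
    exact (K_one hD cd (ok_s hD (by norm_num)).1).mp h.symm
  let H := sylSub cd
  have hsub : ∀ i < 512, e i ∈ H := by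
    intro i
    induction i using Nat.strong_induction_on with
    | _ i ih =>
      intro hi
      rcases Nat.eq_zero_or_pos i with rfl | hpos
      · rw [e0]; exact one_mem _
      · obtain ⟨⟨hp1, hp2⟩, hp3⟩ := hpar (i - 1) (by omega)
        obtain ⟨j, -, hje, hj⟩ := hstep hp1 (i := (D.par (i - 1)).2) (by omega)
        rw [Nat.eq_of_beq_eq_true hp3, show i - 1 + 1 = i by omega] at hje
        rw [← hje] at hj
        rw [← hj]
        refine mul_mem (subset_closure ⟨_, ?_, rfl⟩) (ih _ (by omega) (by omega))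
        rw [List.getD_eq_getElem _ _ hp1]; exact List.getElem_mem hp1
  let Sm : Subgroup G := MulAction.stabilizer G ((A : Set G))
  have hA : ∀ g ∈ H, g ∈ A := by
    have hle : H ≤ Sm := by
      refine (closure_le _).mpr ?_
      rintro _ ⟨w, hw, rfl⟩
      obtain ⟨g, hg, rfl⟩ := List.getElem_of_mem hw
      rw [SetLike.mem_coe, MulAction.mem_stabilizer_iff]
      have hsubset : cd.v D.sgens[g] • (A : Set G) ⊆ A := by
        rintro _ ⟨x, hx, rfl⟩
        obtain ⟨i, hi, rfl⟩ := (hmem x).mp hx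
        obtain ⟨j, hj, -, hje⟩ := hstep hg hi
        rw [List.getD_eq_getElem _ _ hg] at hje
        show _ * e i ∈ _
        rw [hje]
        exact Finset.mem_coe.mpr ((hmem _).mpr ⟨j, hj, rfl⟩)
      exact Set.eq_of_subset_of_ncard_le hsubset (by rw [Set.ncard_smul_set]) (Finset.finite_toSet A)
    intro g hg
    have h := MulAction.mem_stabilizer_iff.mp (hle hg)
    have h1 : g • (1 : G) ∈ (A : Set G) := by
      rw [← h]
      exact Set.smul_mem_smul_set (Finset.mem_coe.mpr ((hmem _).mpr ⟨0, by norm_num, e0⟩))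
    simpa using h1
  have hcard : A.card = 512 := by
    rw [Finset.card_image_of_injOn, Finset.card_range]
    have hinj : ∀ i j, i < j → j < 512 → D.sKey (D.srt i) < D.sKey (D.srt j) := fun i j hij hj =>
      incF_lt hinc hij hj
    have hsi : Set.InjOn D.srt (Finset.range 512 : Finset ℕ) := fun a ha b hb hab => by
      have ha' := Finset.mem_range.mp (Finset.mem_coe.mp ha)
      have hb' := Finset.mem_range.mp (Finset.mem_coe.mp hb)
      rcases lt_trichotomy a b with h | h | h
      · exact absurd (congrArg D.sKey hab) (hinj a b h hb').ne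
      · exact h
      · exact absurd (congrArg D.sKey hab) (hinj b a h ha').ne'
    have hfs : (Finset.range 512).image D.srt = Finset.range 512 := by
      refine Finset.eq_of_subset_of_card_le (fun x hx => ?_) (by rw [Finset.card_image_of_injOn hsi])
      obtain ⟨a, ha, rfl⟩ := Finset.mem_image.mp hx
      exact Finset.mem_range.mpr (hlt a (Finset.mem_range.mp ha))
    intro i hi j hj hij
    have hi' := Finset.mem_range.mp (Finset.mem_coe.mp hi)
    have hj' := Finset.mem_range.mp (Finset.mem_coe.mp hj)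
    have hK : D.sKey i = D.sKey j := by
      rw [sKey_eq hD cd hi', sKey_eq hD cd hj', K_iff hD cd (ok_s hD hi').1 (ok_s hD hj').1]
      exact hij
    rw [← hfs] at hi hj
    obtain ⟨a, ha, rfl⟩ := Finset.mem_image.mp (Finset.mem_coe.mp hi)
    obtain ⟨b, hb, rfl⟩ := Finset.mem_image.mp (Finset.mem_coe.mp hj)
    rcases lt_trichotomy a b with h | h | h
    · exact absurd hK (hinj a b h (Finset.mem_range.mp hb)).ne
    · rw [h]
    · exact absurd hK (hinj b a h (Finset.mem_range.mp ha)).ne'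
  have hset : (H : Set G) = (A : Set G) := Set.Subset.antisymm (fun g hg => Finset.mem_coe.mpr (hA g hg)) (by
    intro g hg
    obtain ⟨i, hi, rfl⟩ := (hmem g).mp (Finset.mem_coe.mp hg)
    exact hsub i hi)
  refine ⟨?_, fun g => ?_⟩
  · show Nat.card H = 512
    rw [← hcard, ← Set.ncard_coe_finset, ← hset, ← Nat.card_coe_set_eq]
    rfl
  · show g ∈ H ↔ _
    rw [← SetLike.mem_coe, hset]
    exact hmem g

/-- The classes of involutions. -/
theorem classes {s : G} (hs : s ∈ centralizer ({t} : Set G)) (hs2 : s * s = 1) (hs1 : s ≠ 1) (hst : s ≠ t) :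
    ∃ w, okW w = true ∧ ∃ r ∈ D.reps, cd.v w * s * (cd.v w)⁻¹ = cd.v r := by
  classical
  haveI : Fact (Nat.Prime 2) := ⟨Nat.prime_two⟩
  let C : Subgroup G := centralizer ({t} : Set G)
  obtain ⟨hcard, hmem⟩ := sylSub_spec hD cd
  have hle := sylSub_le hD cd
  let S' : Subgroup C := (sylSub cd).subgroupOf C
  have hS' : Nat.card S' = 2 ^ 9 := by
    rw [Nat.card_congr (subgroupOfEquivOfLe hle).toEquiv, hcard]; norm_num
  have hidx : ¬ 2 ∣ S'.index := by
    have h := S'.card_mul_index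
    rw [hS', show Nat.card C = 161280 from cd.card] at h
    omega
  let P : Sylow 2 C := (IsPGroup.of_card hS').toSylow hidx
  have hord : IsPGroup 2 (zpowers (⟨s, hs⟩ : C)) := by
    refine IsPGroup.of_card (n := 1) ?_
    rw [Nat.card_zpowers, pow_one, orderOf_eq_prime_iff]
    exact ⟨Subtype.ext (by rw [pow_two]; exact hs2), fun h => hs1 (congrArg Subtype.val h)⟩
  obtain ⟨Q, hQ⟩ := hord.exists_le_sylow
  obtain ⟨g, hg⟩ := MulAction.exists_smul_eq C Q P
  have hmemS : (g : G) * s * (g : G)⁻¹ ∈ sylSub cd := by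
    have h1 : g * ⟨s, hs⟩ * g⁻¹ ∈ (P : Subgroup C) := by
      rw [← hg, Sylow.coe_subgroup_smul]
      exact Subgroup.smul_mem_pointwise_smul (⟨s, hs⟩ : C) (MulAut.conj g) _ (hQ (mem_zpowers _))
    exact mem_subgroupOf.mp h1
  obtain ⟨i, hi, ei⟩ := (hmem _).mp hmemS
  have h := hD.cls
  simp only [clsChk, List.all_eq_true, List.mem_range, Bool.or_eq_true, Bool.not_eq_true', Bool.and_eq_true,
    Nat.blt_eq] at h
  have hi1 := h i hi
  rcases hi1 with ((h0 | h0) | h0) | ⟨hr, h0⟩
  · refine absurd ((K_sq hD cd (ok_s hD hi).1).mpr ?_) (Nat.ne_of_beq_eq_false h0)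
    rw [ei, show (g : G) * s * (g : G)⁻¹ * ((g : G) * s * (g : G)⁻¹) = g * (s * s) * (g : G)⁻¹ by group, hs2, mul_one,
      mul_inv_cancel]
  · have h1 := Nat.eq_of_beq_eq_true h0
    rw [sKey_eq hD cd hi, K_one hD cd (ok_s hD hi).1, ei] at h1
    exact absurd (conj_eq_one_iff.mp h1) hs1
  · have h1 := Nat.eq_of_beq_eq_true h0
    rw [sKey_eq hD cd hi, K_t hD cd (ok_s hD hi).1, ei] at h1
    refine absurd ?_ hst
    have hgt : (g : G) * t = t * (g : G) := mem_centralizer_singleton_iff.mp g.2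
    have h2 : (g : G) * s * (g : G)⁻¹ = (g : G) * t * (g : G)⁻¹ := by rw [h1, hgt, mul_inv_cancel_right]
    exact mul_left_cancel (mul_right_cancel h2)
  · obtain ⟨w, hw, ew⟩ := cd.v_surj g.2
    have hp := (ok_s hD hi).2
    refine ⟨(D.cls i).1 ++ w, okW_append.mpr ⟨hp, hw⟩, D.reps.getD (D.cls i).2 [],
      by rw [List.getD_eq_getElem _ _ hr]; exact List.getElem_mem hr, ?_⟩
    have h1 := Nat.eq_of_beq_eq_true h0
    rw [cjW, K_iff hD cd (okW_cjW hp (ok_s hD hi).1) (ok_rep hD), cd.v_cjW hp (ok_s hD hi).1, ei] at h1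
    rw [← h1, cd.v_append hp hw, ew]
    group

/-- The centraliser of the inner representative. -/
theorem cent_u : (cd.v D.u * cd.v D.u = 1 ∧ cd.v D.u ≠ 1 ∧ cd.v D.u ≠ t ∧ cd.v D.u ∈ cd.M) ∧
    Nat.card ↥(centralizer ({t} : Set G) ⊓ centralizer ({cd.v D.u} : Set G)) = 256 ∧
    (D.rList.map cd.v).Nodup ∧
    ∀ g, g ∈ centralizer ({t} : Set G) ⊓ centralizer ({cd.v D.u} : Set G) ↔ g ∈ D.rList.map cd.v := by
  classical
  have hu := ok_u hD
  have hlr : D.rList.length = 256 := by simp [FData.rList]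
  have h := hD.cent
  simp only [centChk, Bool.and_eq_true, Bool.not_eq_true', List.all_eq_true, List.mem_range] at h
  obtain ⟨⟨⟨⟨⟨⟨h1, h2⟩, h3⟩, h4⟩, h5⟩, h7⟩, h8⟩ := h
  refine ⟨⟨(K_sq hD cd hu).mp (Nat.eq_of_beq_eq_true h1),
    fun e => Nat.ne_of_beq_eq_false h2 ((K_one hD cd hu).mpr e),
    fun e => Nat.ne_of_beq_eq_false h3 ((K_t hD cd hu).mpr e), (cd.inner_iff hu).mpr (par_u hD)⟩, ?_⟩
  set R : Subgroup G := centralizer ({t} : Set G) ⊓ centralizer ({cd.v D.u} : Set G) with hR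
  have hnd : (D.rList.map cd.v).Nodup := by
    rw [FData.rList, List.map_map]
    refine List.Nodup.map_on (fun a ha b hb hab => ?_) List.nodup_range
    have ha' := List.mem_range.mp ha
    have hb' := List.mem_range.mp hb
    have hK := (K_iff hD cd (ok_r hD ha') (ok_r hD hb')).mpr hab
    rw [Nat.eq_of_beq_eq_true (h4 a ha').1, Nat.eq_of_beq_eq_true (h4 b hb').1] at hK
    rcases lt_trichotomy a b with h | h | h
    · exact absurd hK (incF_lt h5 h hb').ne
    · exact h
    · exact absurd hK (incF_lt h5 h ha').ne'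
  have hsub : ∀ g ∈ D.rList.map cd.v, g ∈ R := by
    intro g hg
    obtain ⟨r, hr, rfl⟩ := List.mem_map.mp hg
    refine ⟨cd.v_cent (ok_rList hD hr), mem_centralizer_singleton_iff.mpr ?_⟩
    obtain ⟨i, hi, rfl⟩ := List.mem_map.mp hr
    exact (K_comm hD cd (ok_r hD (List.mem_range.mp hi)) hu).mp (Nat.eq_of_beq_eq_true (h4 i (List.mem_range.mp hi)).2)
  let A : Finset G := (D.rList.map cd.v).toFinset
  have hA : A.card = 256 := by rw [List.toFinset_card_of_nodup hnd, List.length_map, hlr]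
  have hinj : Function.Injective fun p : Fin 630 × R =>
      (⟨cd.v (D.cw p.1) * p.2, mul_mem (cd.v_cent (ok_cw hD p.1.2)) p.2.2.1⟩ : centralizer ({t} : Set G)) := by
    rintro ⟨a, r⟩ ⟨b, s⟩ hab
    simp only [Subtype.mk.injEq] at hab
    have hab' : a = b := by
      have hcj : ∀ (k : Fin 630) (x : R), cd.v (cjW (D.cw k) D.u) = cd.v (D.cw k) * x * cd.v D.u * (cd.v (D.cw k) * x)⁻¹ := by
        intro k x
        have hx : (x : G) * cd.v D.u = cd.v D.u * x := mem_centralizer_singleton_iff.mp x.2.2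
        rw [cjW, cd.v_cjW (ok_cw hD k.2) hu,
          show cd.v (D.cw k) * ↑x * cd.v D.u * (cd.v (D.cw k) * ↑x)⁻¹ =
            cd.v (D.cw k) * (↑x * cd.v D.u) * (↑x)⁻¹ * (cd.v (D.cw k))⁻¹ by group, hx]
        group
      have e : cd.v (cjW (D.cw a) D.u) = cd.v (cjW (D.cw b) D.u) := by rw [hcj a r, hcj b s, hab]
      have hK := (K_iff hD cd (okW_cjW (ok_cw hD a.2) hu) (okW_cjW (ok_cw hD b.2) hu)).mpr e
      simp only [cjW] at h7
      rw [Nat.eq_of_beq_eq_true (h7 a a.2), Nat.eq_of_beq_eq_true (h7 b b.2)] at hK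
      rcases lt_trichotomy (a : ℕ) b with h | h | h
      · exact absurd hK (incF_lt h8 h b.2).ne
      · exact Fin.ext h
      · exact absurd hK (incF_lt h8 h a.2).ne'
    subst hab'
    exact Prod.ext rfl (Subtype.ext (mul_left_cancel hab))
  have hle := Nat.card_le_card_of_injective _ hinj
  rw [Nat.card_prod, Nat.card_fin, cd.card] at hle
  have hset : (A : Set G) = (R : Set G) := by
    refine Set.eq_of_subset_of_ncard_le (fun g hg => hsub g (List.mem_toFinset.mp hg)) ?_ (Set.toFinite _)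
    rw [Set.ncard_coe_finset, hA, ← Nat.card_coe_set_eq]
    show Nat.card R ≤ 256
    omega
  refine ⟨?_, hnd, fun g => ?_⟩
  · rw [← hA, ← Set.ncard_coe_finset, hset, ← Nat.card_coe_set_eq]
    rfl
  · rw [← SetLike.mem_coe, ← hset, Finset.mem_coe, List.mem_toFinset]

/-- The outer representatives. -/
theorem out_spec {o : OutRep} (ho : o ∈ D.outs) :
    cd.v o.rep ∉ cd.M ∧
    3 ∣ Nat.card ↥(centralizer ({t} : Set G) ⊓ centralizer ({cd.v o.rep} : Set G)) ∧
    ((∃ z ∈ centralizer ({t} : Set G), z * z = t ∧ ∀ g ∈ centralizer ({t} : Set G), Commute g z) ∨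
      ∃ l ∈ centralizer ({t} : Set G), ∃ r ∈ centralizer ({t} : Set G),
        Commute (l * cd.v o.rep * l⁻¹) (cd.v o.rep) ∧ Commute (r * cd.v o.rep * r⁻¹) (cd.v o.rep) ∧
        l * cd.v o.rep * l⁻¹ ≠ cd.v o.rep ∧ r * cd.v o.rep * r⁻¹ ≠ cd.v o.rep ∧
        l * cd.v o.rep * l⁻¹ * (r * cd.v o.rep * r⁻¹) = t) := by
  classical
  obtain ⟨hx, hp, hw, hl, hr⟩ := ok_out hD ho
  have h := hD.out
  simp only [outChk, List.all_eq_true, Bool.and_eq_true, Bool.or_eq_true, Bool.not_eq_true'] at h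
  obtain ⟨⟨⟨⟨-, h2⟩, h3⟩, h4⟩, h5⟩ := h o ho
  refine ⟨fun hm => by simpa [hp] using (cd.inner_iff hx).mp hm, ?_, ?_⟩
  · have hw3 : cd.v o.three ^ 3 = 1 := by
      have e := (K_one hD cd (okW_append.mpr ⟨okW_append.mpr ⟨hw, hw⟩, hw⟩)).mp (Nat.eq_of_beq_eq_true h2)
      rw [cd.v_append (okW_append.mpr ⟨hw, hw⟩) hw, cd.v_append hw hw] at e
      rw [pow_succ, pow_two]; exact e
    have hne : cd.v o.three ≠ 1 := fun e => Nat.ne_of_beq_eq_false h3 ((K_one hD cd hw).mpr e)
    have hord : orderOf (cd.v o.three) = 3 := orderOf_eq_prime (hp := ⟨by norm_num⟩) hw3 hne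
    rw [← hord]
    have hmem : cd.v o.three ∈ centralizer ({t} : Set G) ⊓ centralizer ({cd.v o.rep} : Set G) :=
      ⟨cd.v_cent hw, mem_centralizer_singleton_iff.mpr ((K_comm hD cd hw hx).mp (Nat.eq_of_beq_eq_true h4))⟩
    exact (orderOf_mk _ hmem) ▸ orderOf_dvd_natCard _
  · rcases h5 with h5 | ⟨⟨⟨⟨e1, e2⟩, e3⟩, e4⟩, e5⟩
    · simp only [rootChk, Bool.and_eq_true, List.all_eq_true, Nat.blt_eq] at h5
      obtain ⟨⟨-, hz⟩, hcom⟩ := h5
      refine .inl ⟨cd.v (zWords.getD D.zroot []), cd.v_cent (okW_z _), ?_, fun g hg => cd.central_of_letters ?_ hg⟩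
      · rw [← cd.v_append (okW_z _) (okW_z _)]
        exact (K_t hD cd (okW_append.mpr ⟨okW_z _, okW_z _⟩)).mp (Nat.eq_of_beq_eq_true hz)
      · intro a ha
        have ha' : a < 6 := by simp only [List.mem_cons, List.not_mem_nil, or_false] at ha; omega
        exact (K_comm hD cd (okW_single ha') (okW_z _)).mp (Nat.eq_of_beq_eq_true (hcom a ha))
    · have hy1 := okW_cjW hl hx
      have hy2 := okW_cjW hr hx
      refine .inr ⟨_, cd.v_cent hl, _, cd.v_cent hr, ?_, ?_, ?_, ?_, ?_⟩
      · rw [← cd.v_cjW hl hx]; exact (K_comm hD cd hy1 hx).mp (Nat.eq_of_beq_eq_true e1)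
      · rw [← cd.v_cjW hr hx]; exact (K_comm hD cd hy2 hx).mp (Nat.eq_of_beq_eq_true e2)
      · rw [← cd.v_cjW hl hx]; exact fun e => Nat.ne_of_beq_eq_false e3 ((K_iff hD cd hy1 hx).mpr e)
      · rw [← cd.v_cjW hr hx]; exact fun e => Nat.ne_of_beq_eq_false e4 ((K_iff hD cd hy2 hx).mpr e)
      · rw [← cd.v_cjW hl hx, ← cd.v_cjW hr hx, ← cd.v_append hy1 hy2]
        exact (K_t hD cd (okW_append.mpr ⟨hy1, hy2⟩)).mp (Nat.eq_of_beq_eq_true e5)

end FData

end CfsgON
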