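/-
Fusion in a simple group with one of the possible involution centralisers.
-/
import Cfsg.Agent.Lib.ONRecog.Classes
import Cfsg.Agent.Lib.ZStar.Main

set_option autoImplicit false
set_option maxHeartbeats 800000
set_option linter.unusedSectionVars false

namespace CfsgON

open CfsgPC Subgroup

universe u

theorem parW_append : ∀ (a b : List ℕ), parW (a ++ b) = (parW a == parW b)
  | [], b => by
    show parW b = (true == parW b)
    cases parW b <;> rfl
  | x :: a, b => by
    have e0 : ∀ l : List ℕ, parW (x :: l) = if Nat.beq (x % 3) 2 then !parW l else parW l := fun l => rfl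
    rw [List.cons_append, e0, e0, parW_append a b]
    cases Nat.beq (x % 3) 2 <;> cases parW a <;> cases parW b <;> rfl

/-- Counting related pairs from two lists without repetition. -/
theorem sum_countP_eq {α : Type u} [DecidableEq α] (p : α → α → Prop) [∀ a b, Decidable (p a b)] {A B : List α}
    (hA : A.Nodup) (hB : B.Nodup) :
    (A.map fun a => B.countP fun b => decide (p a b)).sum =
      ((A.toFinset ×ˢ B.toFinset).filter fun q => p q.1 q.2).card := by
  classical
  rw [← List.sum_toFinset _ hA, Finset.card_filter, Finset.sum_product]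
  refine Finset.sum_congr rfl fun a _ => ?_
  rw [← Finset.card_filter, List.countP_eq_length_filter, ← List.toFinset_card_of_nodup (hB.filter _)]
  congr 1
  ext b
  simp

namespace Coord

variable {G : Type u} [Group G] {t : G} {c : ℕ × ℕ × ℕ} (cd : Coord G t c)
include cd

theorem inner_mul {a b : G} (ha : a ∈ centralizer ({t} : Set G)) (hb : b ∈ centralizer ({t} : Set G)) :
    a * b ∈ cd.M ↔ (a ∈ cd.M ↔ b ∈ cd.M) := by
  obtain ⟨x, hx, rfl⟩ := cd.v_surj ha
  obtain ⟨y, hy, rfl⟩ := cd.v_surj hb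
  rw [← cd.v_append hx hy, cd.inner_iff (okW_append.mpr ⟨hx, hy⟩), cd.inner_iff hx, cd.inner_iff hy, parW_append]
  cases parW x <;> cases parW y <;> simp

theorem inner_conj_iff {a b : G} (ha : a ∈ centralizer ({t} : Set G)) (hb : b ∈ centralizer ({t} : Set G)) :
    a * b * a⁻¹ ∈ cd.M ↔ b ∈ cd.M := by
  rw [cd.inner_mul (mul_mem ha hb) (inv_mem ha), cd.inner_mul ha hb, inv_mem_iff]
  tauto

end Coord

namespace FData

variable {D : FData} (hD : D.Good) {G : Type u} [Group G] [Finite G] {t : G} (cd : Coord G t D.c)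
include hD cd

/-- A conjugate of the central involution meeting it is conjugate to a representative. -/
theorem conj_rep (ht : orderOf t = 2) {g : G} (hc : g * t * g⁻¹ ∈ centralizer ({t} : Set G))
    (hne : g * t * g⁻¹ ≠ t) :
    ∃ k : G, (k * t * k⁻¹ = cd.v D.u ∨ ∃ o ∈ D.outs, k * t * k⁻¹ = cd.v o.rep) ∧
      (g * t * g⁻¹ ∈ cd.M ↔ k * t * k⁻¹ ∈ cd.M) := by
  have ht2 : t * t = 1 := by rw [← pow_two, ← ht, pow_orderOf_eq_one]
  have h1 : t ≠ 1 := fun e => by rw [e, orderOf_one] at ht; omega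
  obtain ⟨w, hw, r, hr, e⟩ := classes hD cd hc
    (by rw [show g * t * g⁻¹ * (g * t * g⁻¹) = g * (t * t) * g⁻¹ by group, ht2, mul_one, mul_inv_cancel])
    (fun e => h1 (conj_eq_one_iff.mp e)) hne
  have e' : cd.v w * g * t * (cd.v w * g)⁻¹ = cd.v r := by rw [← e]; group
  refine ⟨cd.v w * g, ?_, by rw [e', ← e, cd.inner_conj_iff (cd.v_cent hw) hc]⟩
  rcases List.mem_cons.mp hr with rfl | hr
  · exact .inl e'
  · obtain ⟨o, ho, rfl⟩ := List.mem_map.mp hr
    exact .inr ⟨o, ho, e'⟩

/-- A conjugate of the central involution at the inner representative leaves one case. -/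
theorem case_eq_of (ht : orderOf t = 2) (hg0 : ∃ g : G, g * t * g⁻¹ = cd.v D.u) : D.c = (0, 1, 0) := by
  classical
  obtain ⟨⟨-, -, hut, -⟩, hR256, hnd, hRmem⟩ := cent_u hD cd
  have hu := ok_u hD
  obtain ⟨g, hg⟩ := hg0
  set R : Subgroup G := centralizer ({t} : Set G) ⊓ centralizer ({cd.v D.u} : Set G) with hR
  have huC : cd.v D.u * t = t * cd.v D.u := mem_centralizer_singleton_iff.mp (cd.v_cent hu)
  have hs : g⁻¹ * t * (g⁻¹)⁻¹ ∈ centralizer ({t} : Set G) := by
    rw [inv_inv]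
    refine mem_centralizer_singleton_iff.mpr ?_
    calc g⁻¹ * t * g * t = g⁻¹ * (t * (g * t * g⁻¹)) * g := by group
      _ = g⁻¹ * (g * t * g⁻¹ * t) * g := by rw [hg, huC]
      _ = t * (g⁻¹ * t * g) := by group
  have hsne : g⁻¹ * t * (g⁻¹)⁻¹ ≠ t := fun h => by
    rw [inv_inv] at h
    apply hut
    calc cd.v D.u = g * t * g⁻¹ := hg.symm
      _ = g * (g⁻¹ * t * g) * g⁻¹ := by rw [h]
      _ = t := by group
  have ht2 : t * t = 1 := by rw [← pow_two, ← ht, pow_orderOf_eq_one]
  have h1 : t ≠ 1 := fun e => by rw [e, orderOf_one] at ht; omega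
  obtain ⟨w, hw, r, hr, hwr⟩ := classes hD cd hs
    (by rw [show g⁻¹ * t * g⁻¹⁻¹ * (g⁻¹ * t * g⁻¹⁻¹) = g⁻¹ * (t * t) * g by group, ht2, mul_one, inv_mul_cancel])
    (fun e => h1 (conj_eq_one_iff.mp e)) hsne
  have hcw := cd.v_cent hw
  have hmap : ∀ x, x ∈ R → cd.v w * (g⁻¹ * x * g) * (cd.v w)⁻¹ ∈ centralizer ({t} : Set G) ⊓ centralizer ({cd.v r} : Set G) := by
    rintro x ⟨hxt, hxu⟩
    have e1 : x * cd.v D.u = cd.v D.u * x := mem_centralizer_singleton_iff.mp hxu
    have e2 : x * t = t * x := mem_centralizer_singleton_iff.mp hxt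
    refine ⟨Subgroup.mul_mem _ (Subgroup.mul_mem _ hcw (mem_centralizer_singleton_iff.mpr ?_)) (Subgroup.inv_mem _ hcw), mem_centralizer_singleton_iff.mpr ?_⟩
    · calc g⁻¹ * x * g * t = g⁻¹ * (x * (g * t * g⁻¹)) * g := by group
        _ = g⁻¹ * ((g * t * g⁻¹) * x) * g := by rw [hg, e1]
        _ = t * (g⁻¹ * x * g) := by group
    · rw [← hwr]
      calc _ = cd.v w * g⁻¹ * (x * t) * g * (cd.v w)⁻¹ := by group
        _ = cd.v w * g⁻¹ * (t * x) * g * (cd.v w)⁻¹ := by rw [e2]
        _ = _ := by group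
  obtain rfl : r = D.u := by
    rcases List.mem_cons.mp hr with h | hr
    · exact h
    exfalso
    obtain ⟨o, ho, rfl⟩ := List.mem_map.mp hr
    obtain ⟨-, h3, -⟩ := out_spec hD cd ho
    have hle : Nat.card ↥(centralizer ({t} : Set G) ⊓ centralizer ({cd.v o.rep} : Set G)) ≤ 256 := by
      rw [← hR256]
      refine Nat.card_le_card_of_injective (fun y => ⟨g * ((cd.v w)⁻¹ * y * cd.v w) * g⁻¹, ?_, ?_⟩) ?_
      · refine mem_centralizer_singleton_iff.mpr ?_
        have key : ∀ a : G, a * cd.v o.rep = cd.v o.rep * a →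
            a * (cd.v w * (g⁻¹ * t * g⁻¹⁻¹) * (cd.v w)⁻¹) = cd.v w * (g⁻¹ * t * g⁻¹⁻¹) * (cd.v w)⁻¹ * a :=
          fun a ha => by rw [hwr]; exact ha
        have e := key y (mem_centralizer_singleton_iff.mp y.2.2)
        calc _ = g * (cd.v w)⁻¹ * ((y : G) * (cd.v w * (g⁻¹ * t * g⁻¹⁻¹) * (cd.v w)⁻¹)) * cd.v w * g⁻¹ := by group
          _ = g * (cd.v w)⁻¹ * ((cd.v w * (g⁻¹ * t * g⁻¹⁻¹) * (cd.v w)⁻¹) * (y : G)) * cd.v w * g⁻¹ := by rw [e]
          _ = _ := by group
      · refine mem_centralizer_singleton_iff.mpr ?_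
        have e : (cd.v w)⁻¹ * (y : G) * cd.v w * t = t * ((cd.v w)⁻¹ * y * cd.v w) :=
          mem_centralizer_singleton_iff.mp (mul_mem (mul_mem (inv_mem hcw) y.2.1) hcw)
        rw [← hg]
        calc _ = g * ((cd.v w)⁻¹ * ↑y * cd.v w * t) * g⁻¹ := by group
          _ = g * (t * ((cd.v w)⁻¹ * y * cd.v w)) * g⁻¹ := by rw [e]
          _ = _ := by group
      · intro a b hab
        simpa [mul_assoc] using congrArg Subtype.val hab
    have hge : 256 ≤ Nat.card ↥(centralizer ({t} : Set G) ⊓ centralizer ({cd.v o.rep} : Set G)) := by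
      rw [← hR256]
      refine Nat.card_le_card_of_injective (fun x => ⟨_, hmap x x.2⟩) fun a b hab => ?_
      simpa [mul_assoc] using congrArg Subtype.val hab
    omega
  -- the swap
  set h := cd.v w * g⁻¹ with hh
  have hconj : ∀ x : G, h * x * h⁻¹ = cd.v w * (g⁻¹ * x * g) * (cd.v w)⁻¹ := fun x => by rw [hh]; group
  have hht : h * t * h⁻¹ = cd.v D.u := by rw [hconj]; simpa using hwr
  have hhu : h * cd.v D.u * h⁻¹ = t := by
    rw [hconj, ← hg, show g⁻¹ * (g * t * g⁻¹) * g = t by group, mem_centralizer_singleton_iff.mp hcw,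
      mul_inv_cancel_right]
  have hin : ∀ x ∈ R, h * x * h⁻¹ ∈ R := fun x hx => hconj x ▸ hmap x hx
  let e : G ↪ G := ⟨fun x => h * x * h⁻¹, fun a b hab => mul_left_cancel (mul_right_cancel hab)⟩
  have hsurj : ∀ y ∈ R, ∃ x ∈ R, h * x * h⁻¹ = y := by
    intro y hy
    have hset : e '' (R : Set G) = R := Set.eq_of_subset_of_ncard_le (by rintro _ ⟨x, hx, rfl⟩; exact hin x hx)
      (by rw [Set.ncard_image_of_injective _ e.injective]) (Set.toFinite _)
    obtain ⟨x, hx, hxy⟩ := (Set.ext_iff.mp hset y).mpr hy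
    exact ⟨x, hx, hxy⟩
  -- the roots
  let F : List ℕ → Finset G := fun z => ((D.roots z).map cd.v).toFinset
  have hFn : ∀ z, ((D.roots z).map cd.v).Nodup := fun z => hnd.sublist (List.filter_sublist.map _)
  have hF : ∀ z, okW z = true → ∀ x, x ∈ F z ↔ x ∈ R ∧ x * x = cd.v z := by
    intro z hz x
    simp only [F, List.mem_toFinset, List.mem_map, roots, List.mem_filter]
    constructor
    · rintro ⟨r, ⟨hr, hK⟩, rfl⟩
      refine ⟨(hRmem _).mpr (List.mem_map_of_mem hr), ?_⟩
      rw [← cd.v_append (ok_rList hD hr) (ok_rList hD hr)]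
      exact (K_iff hD cd (okW_append.mpr ⟨ok_rList hD hr, ok_rList hD hr⟩) hz).mp (Nat.eq_of_beq_eq_true hK)
    · rintro ⟨hx, hxx⟩
      obtain ⟨r, hr, rfl⟩ := List.mem_map.mp ((hRmem x).mp hx)
      refine ⟨r, ⟨hr, ?_⟩, rfl⟩
      rw [← cd.v_append (ok_rList hD hr) (ok_rList hD hr), ← K_iff hD cd (okW_append.mpr ⟨ok_rList hD hr, ok_rList hD hr⟩) hz] at hxx
      rw [hxx]; exact Nat.beq_refl _
  have hFmap : (F (zWords.getD 8 [])).map e = F D.u := by
    ext y
    rw [Finset.mem_map, hF _ hu]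
    simp only [hF _ (okW_z 8), cd.v_t]
    constructor
    · rintro ⟨x, ⟨hx, hxx⟩, rfl⟩
      refine ⟨hin x hx, ?_⟩
      show h * x * h⁻¹ * (h * x * h⁻¹) = _
      rw [← hht, ← hxx]; group
    · rintro ⟨hy, hyy⟩
      obtain ⟨x, hx, rfl⟩ := hsurj y hy
      refine ⟨x, ⟨hx, e.injective ?_⟩, rfl⟩
      show h * (x * x) * h⁻¹ = h * t * h⁻¹
      rw [hht, ← hyy]; group
  have hlen : (D.roots (zWords.getD 8 [])).length = (D.roots D.u).length := by
    have hc := congrArg Finset.card hFmap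
    rw [Finset.card_map, List.toFinset_card_of_nodup (hFn _), List.toFinset_card_of_nodup (hFn _), List.length_map,
      List.length_map] at hc
    exact hc
  have hel := hD.elim
  simp only [elimChk, Bool.or_eq_true, Bool.and_eq_true, Bool.not_eq_true', beq_iff_eq] at hel
  rcases hel with (hel | hel) | ⟨hsq, hel⟩
  · exact hel
  · rw [hlen, Nat.beq_refl] at hel
    exact absurd hel (by decide)
  -- the squares
  exfalso
  simp only [sqChk, Bool.and_eq_true, List.all_eq_true, Nat.blt_eq, beq_iff_eq, List.contains_iff_mem] at hsq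
  obtain ⟨⟨⟨hsinc, hskeys⟩, hslt⟩, hsall⟩ := hsq
  let Sl : List G := D.sqList.map fun i => cd.v (D.r i ++ D.r i)
  have hSn : Sl.Nodup := by
    have hk : D.sqKeys.Nodup := (increasing_nodup hsinc).imp fun h => Nat.ne_of_lt h
    rw [← hskeys] at hk
    refine List.Nodup.map_on (fun a ha b hb hab => List.inj_on_of_nodup_map hk ha hb ?_) (List.Nodup.of_map _ hk)
    exact (K_iff hD cd (okW_append.mpr ⟨ok_r hD (hslt a ha), ok_r hD (hslt a ha)⟩)
      (okW_append.mpr ⟨ok_r hD (hslt b hb), ok_r hD (hslt b hb)⟩)).mpr hab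
  have hSmem : ∀ y, y ∈ Sl.toFinset ↔ ∃ x ∈ R, x * x = y := by
    intro y
    simp only [Sl, List.mem_toFinset, List.mem_map]
    constructor
    · rintro ⟨i, hi, rfl⟩
      exact ⟨cd.v (D.r i), (hRmem _).mpr (List.mem_map_of_mem (List.mem_map_of_mem (List.mem_range.mpr (hslt i hi)))),
        (cd.v_append (ok_r hD (hslt i hi)) (ok_r hD (hslt i hi))).symm⟩
    · rintro ⟨x, hx, rfl⟩
      obtain ⟨r, hr, rfl⟩ := List.mem_map.mp ((hRmem x).mp hx)
      have hm := hsall r hr
      rw [← hskeys, List.mem_map] at hm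
      obtain ⟨i, hi, he⟩ := hm
      refine ⟨i, hi, ?_⟩
      rw [← cd.v_append (ok_rList hD hr) (ok_rList hD hr)]
      exact (K_iff hD cd (okW_append.mpr ⟨ok_r hD (hslt i hi), ok_r hD (hslt i hi)⟩)
        (okW_append.mpr ⟨ok_rList hD hr, ok_rList hD hr⟩)).mp he
  have hSmap : Sl.toFinset.map e = Sl.toFinset := by
    refine Finset.eq_of_subset_of_card_le (fun y hy => ?_) (by rw [Finset.card_map])
    obtain ⟨s, hs, rfl⟩ := Finset.mem_map.mp hy
    obtain ⟨x, hx, rfl⟩ := (hSmem s).mp hs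
    refine (hSmem _).mpr ⟨h * x * h⁻¹, hin x hx, ?_⟩
    show _ = h * (x * x) * h⁻¹
    group
  have hpairs : ∀ z, okW z = true →
      D.pairs z = ((F z ×ˢ Sl.toFinset).filter fun q => Commute q.1 q.2).card := by
    intro z hz
    rw [← sum_countP_eq Commute (hFn z) hSn, pairs, List.map_map]
    refine congrArg List.sum (List.map_congr_left fun r hr => ?_)
    have hr' : okW r = true := ok_rList hD (List.mem_filter.mp hr).1
    simp only [Function.comp_apply, Sl, List.countP_map]
    refine List.countP_congr fun i hi => ?_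
    have hi' : okW (D.r i ++ D.r i) = true := okW_append.mpr ⟨ok_r hD (hslt i hi), ok_r hD (hslt i hi)⟩
    simp only [Function.comp_apply, decide_eq_true_eq]
    rw [← K_comm hD cd hr' hi']
    exact ⟨fun e => Nat.eq_of_beq_eq_true e, fun e => by rw [e]; exact Nat.beq_refl _⟩
  have hcard : D.pairs (zWords.getD 8 []) = D.pairs D.u := by
    rw [hpairs _ (okW_z 8), hpairs _ hu, ← hFmap]
    conv_rhs => rw [← hSmap]
    refine Finset.card_bij (fun q _ => (e q.1, e q.2)) (fun q hq => ?_) (fun a _ b _ hab => ?_) (fun q hq => ?_)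
    · simp only [Finset.mem_filter, Finset.mem_product] at hq ⊢
      exact ⟨⟨Finset.mem_map_of_mem _ hq.1.1, Finset.mem_map_of_mem _ hq.1.2⟩, hq.2.conj h⟩
    · exact Prod.ext (e.injective (Prod.ext_iff.mp hab).1) (e.injective (Prod.ext_iff.mp hab).2)
    · simp only [Finset.mem_filter, Finset.mem_product, Finset.mem_map] at hq
      obtain ⟨⟨⟨a, ha, hae⟩, ⟨b, hb, hbe⟩⟩, hc⟩ := hq
      refine ⟨(a, b), ?_, Prod.ext hae hbe⟩
      simp only [Finset.mem_filter, Finset.mem_product]
      refine ⟨⟨ha, hb⟩, ?_⟩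
      rw [← hae, ← hbe] at hc
      have := hc.conj h⁻¹
      simpa [e, mul_assoc] using this
  rw [hcard, Nat.beq_refl] at hel
  exact absurd hel (by decide)

variable [IsSimpleGroup G]

theorem not_central : ¬ t ∈ center G ∨ t = 1 := by
  by_contra h
  push Not at h
  obtain ⟨hc, h1⟩ := h
  have hbot : center G ≠ ⊥ := fun e => h1 (by rw [e] at hc; exact hc)
  have htop : center G = ⊤ := (IsSimpleGroup.eq_bot_or_eq_top_of_normal _ inferInstance).resolve_left hbot
  have hC : centralizer ({t} : Set G) = ⊤ := eq_top_iff.mpr fun g _ =>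
    mem_centralizer_singleton_iff.mpr (mem_center_iff.mp hc g)
  have hcard := cd.card
  rw [hC, card_top] at hcard
  letI : CommGroup G :=
    { mul_comm := fun a b => mem_center_iff.mp (htop.symm ▸ Subgroup.mem_top b : b ∈ center G) a }
  have hp := IsSimpleGroup.prime_card (α := G)
  rw [hcard] at hp
  norm_num at hp

/-- The central involution is conjugate to the inner representative. -/
theorem inner_conj (ht : orderOf t = 2) : ∃ g : G, g * t * g⁻¹ = cd.v D.u := by
  have ht2 : t * t = 1 := by rw [← pow_two, ← ht, pow_orderOf_eq_one]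
  have h1 : t ≠ 1 := fun e => by rw [e, orderOf_one] at ht; omega
  have hmemC : ∀ {x : G}, Commute t x → x ∈ centralizer ({t} : Set G) := fun h =>
    mem_centralizer_singleton_iff.mpr h.eq.symm
  obtain ⟨g, hgc, hgne⟩ : ∃ g : G, Commute t (g * t * g⁻¹) ∧ g * t * g⁻¹ ≠ t := by
    by_contra h
    push Not at h
    have hmem := CfsgLib.ZStar.commutator_mem ht (u := t) h
    have hbot : Cfsg.pPrimeCore 2 G = ⊥ := by
      rcases IsSimpleGroup.eq_bot_or_eq_top_of_normal (Cfsg.pPrimeCore 2 G) inferInstance with e | e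
      · exact e
      · exfalso
        have hco := CfsgLib.card_pPrimeCore_coprime (G := G) 2
        rw [e, card_top, Nat.coprime_two_right] at hco
        have hd : 2 ∣ Nat.card G := ht ▸ orderOf_dvd_natCard t
        exact Nat.not_even_iff_odd.mpr hco (even_iff_two_dvd.mpr hd)
    refine (not_central hD cd).elim (fun hn => hn (mem_center_iff.mpr fun g => ?_)) h1
    have e := hmem g
    rw [hbot, mem_bot, mul_inv_eq_one, mul_inv_eq_iff_eq_mul] at e
    exact e.symm
  obtain ⟨k, hk | ⟨o, ho, hk⟩, -⟩ := conj_rep hD cd ht (hmemC hgc) hgne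
  · exact ⟨k, hk⟩
  obtain ⟨hoM, -, hcase⟩ := out_spec hD cd ho
  have hx : cd.v o.rep ∈ centralizer ({t} : Set G) := cd.v_cent (ok_out hD ho).1
  have hxt : Commute t (cd.v o.rep) := (mem_centralizer_singleton_iff.mp hx).symm
  -- elements commuting with the outer conjugate come back into the centraliser
  have hback : ∀ {y : G}, Commute (cd.v o.rep) y → k⁻¹ * y * k ∈ centralizer ({t} : Set G) := by
    intro y hy
    refine mem_centralizer_singleton_iff.mpr ?_
    have e : k * t * k⁻¹ * y = y * (k * t * k⁻¹) := by rw [hk]; exact hy.eq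
    calc k⁻¹ * y * k * t = k⁻¹ * (y * (k * t * k⁻¹)) * k := by group
      _ = k⁻¹ * (k * t * k⁻¹ * y) * k := by rw [e]
      _ = t * (k⁻¹ * y * k) := by group
  rcases hcase with ⟨z, hz, hzz, hzc⟩ | ⟨l, hl, r, hr, hc1, hc2, hn1, hn2, hprod⟩
  · exfalso
    have hkt := hback hxt.symm
    have hz' : k * z * k⁻¹ ∈ centralizer ({t} : Set G) := by
      refine mem_centralizer_singleton_iff.mpr ?_
      have e : k⁻¹ * t * k * z = z * (k⁻¹ * t * k) := (hzc _ hkt).eq
      calc k * z * k⁻¹ * t = k * (z * (k⁻¹ * t * k)) * k⁻¹ := by group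
        _ = k * (k⁻¹ * t * k * z) * k⁻¹ := by rw [e]
        _ = t * (k * z * k⁻¹) := by group
    apply hoM
    have e : k * t * k⁻¹ = k * z * k⁻¹ * (k * z * k⁻¹) := by rw [← hzz]; group
    rw [← hk, e, cd.inner_mul hz' hz']
  · set x := cd.v o.rep with hxd
    have key : ∀ {a : G}, a ∈ centralizer ({t} : Set G) → Commute (a * x * a⁻¹) x → a * x * a⁻¹ ≠ x →
        (∃ g : G, g * t * g⁻¹ = cd.v D.u) ∨ k⁻¹ * (a * x * a⁻¹) * k ∉ cd.M := by
      intro a ha hcom hne
      have e : k⁻¹ * (a * x * a⁻¹) * k = (k⁻¹ * a * k) * t * (k⁻¹ * a * k)⁻¹ := by rw [← hk]; group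
      have hne' : (k⁻¹ * a * k) * t * (k⁻¹ * a * k)⁻¹ ≠ t := fun h => hne (by
        rw [← e] at h
        calc a * x * a⁻¹ = k * (k⁻¹ * (a * x * a⁻¹) * k) * k⁻¹ := by group
          _ = x := by rw [h, hk])
      obtain ⟨m, hm | ⟨o', ho', hm⟩, hiff⟩ := conj_rep hD cd ht (e ▸ hback hcom.symm) hne'
      · exact .inl ⟨m, hm⟩
      · refine .inr fun hin => ?_
        rw [e, hiff, hm] at hin
        exact (out_spec hD cd ho').1 hin
    rcases key hl hc1 hn1 with h | hy1
    · exact h
    rcases key hr hc2 hn2 with h | hy2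
    · exact h
    have hkt : k⁻¹ * t * k ∈ cd.M := by
      have e : k⁻¹ * t * k = k⁻¹ * (l * x * l⁻¹) * k * (k⁻¹ * (r * x * r⁻¹) * k) := by rw [← hprod]; group
      rw [e, cd.inner_mul (hback hc1.symm) (hback hc2.symm)]
      exact iff_of_false hy1 hy2
    have hkne : k⁻¹ * t * (k⁻¹)⁻¹ ≠ t := fun h => by
      rw [inv_inv] at h
      have hxt' : x = t := by
        calc x = k * t * k⁻¹ := hk.symm
          _ = k * (k⁻¹ * t * k) * k⁻¹ := by rw [h]
          _ = t := by group
      apply hoM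
      have ev : x = cd.v (zWords.getD 8 []) := hxt'.trans cd.v_t.symm
      rw [ev, cd.inner_iff (okW_z 8)]
      decide
    obtain ⟨m, hm | ⟨o', ho', hm⟩, hiff⟩ :=
      conj_rep hD cd ht (g := k⁻¹) (by rw [inv_inv]; exact hback hxt.symm) hkne
    · exact ⟨m, hm⟩
    · rw [inv_inv, hm] at hiff
      exact absurd (hiff.mp hkt) (out_spec hD cd ho').1

/-- Only one case survives. -/
theorem case_eq (ht : orderOf t = 2) : D.c = (0, 1, 0) := case_eq_of hD cd ht (inner_conj hD cd ht)

end FData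

end CfsgON
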