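/-
One class of involutions and one possible involution centraliser.
-/
import Cfsg.Agent.Lib.ONRecog.Fusion
import Cfsg.Agent.Lib.TransferExtremal
import Cfsg.Agent.Lib.ONRecog.Fus.C000
import Cfsg.Agent.Lib.ONRecog.Fus.C001
import Cfsg.Agent.Lib.ONRecog.Fus.C010
import Cfsg.Agent.Lib.ONRecog.Fus.C012
import Cfsg.Agent.Lib.ONRecog.Fus.C020
import Cfsg.Agent.Lib.ONRecog.Fus.C022
import Cfsg.Agent.Lib.ONRecog.Fus.C100
import Cfsg.Agent.Lib.ONRecog.Fus.C102
import Cfsg.Agent.Lib.ONRecog.Fus.C110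
import Cfsg.Agent.Lib.ONRecog.Fus.C112
import Cfsg.Agent.Lib.ONRecog.Fus.C120
import Cfsg.Agent.Lib.ONRecog.Fus.C121

set_option autoImplicit false
set_option maxHeartbeats 800000
set_option linter.unusedSectionVars false
set_option linter.style.haveILetI false

namespace CfsgON

open CfsgPC Subgroup

universe u

theorem fd010_good : fd010.Good := ⟨fd010_shapeChk, fd010_sylChk, fd010_closChk, fd010_clsChk, fd010_centChk, fd010_outChk, fd010_elimChk⟩

variable {G : Type u} [Group G] [Finite G] [IsSimpleGroup G] {t : G}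

/-- The case is determined. -/
theorem coord_case (ht : orderOf t = 2) {c : ℕ × ℕ × ℕ} (cd : Coord G t c) : c = (0, 1, 0) := by
  have hc : c ∈ caseList := cd.mem
  simp only [caseList, List.mem_cons, List.not_mem_nil, or_false] at hc
  rcases hc with rfl | rfl | rfl | rfl | rfl | rfl | rfl | rfl | rfl | rfl | rfl | rfl
  exacts [FData.case_eq (D := fd000) ⟨fd000_shapeChk, fd000_sylChk, fd000_closChk, fd000_clsChk, fd000_centChk, fd000_outChk, fd000_elimChk⟩ cd ht,
    FData.case_eq (D := fd001) ⟨fd001_shapeChk, fd001_sylChk, fd001_closChk, fd001_clsChk, fd001_centChk, fd001_outChk, fd001_elimChk⟩ cd ht,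
    rfl,
    FData.case_eq (D := fd012) ⟨fd012_shapeChk, fd012_sylChk, fd012_closChk, fd012_clsChk, fd012_centChk, fd012_outChk, fd012_elimChk⟩ cd ht,
    FData.case_eq (D := fd020) ⟨fd020_shapeChk, fd020_sylChk, fd020_closChk, fd020_clsChk, fd020_centChk, fd020_outChk, fd020_elimChk⟩ cd ht,
    FData.case_eq (D := fd022) ⟨fd022_shapeChk, fd022_sylChk, fd022_closChk, fd022_clsChk, fd022_centChk, fd022_outChk, fd022_elimChk⟩ cd ht,
    FData.case_eq (D := fd100) ⟨fd100_shapeChk, fd100_sylChk, fd100_closChk, fd100_clsChk, fd100_centChk, fd100_outChk, fd100_elimChk⟩ cd ht,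
    FData.case_eq (D := fd102) ⟨fd102_shapeChk, fd102_sylChk, fd102_closChk, fd102_clsChk, fd102_centChk, fd102_outChk, fd102_elimChk⟩ cd ht,
    FData.case_eq (D := fd110) ⟨fd110_shapeChk, fd110_sylChk, fd110_closChk, fd110_clsChk, fd110_centChk, fd110_outChk, fd110_elimChk⟩ cd ht,
    FData.case_eq (D := fd112) ⟨fd112_shapeChk, fd112_sylChk, fd112_closChk, fd112_clsChk, fd112_centChk, fd112_outChk, fd112_elimChk⟩ cd ht,
    FData.case_eq (D := fd120) ⟨fd120_shapeChk, fd120_sylChk, fd120_closChk, fd120_clsChk, fd120_centChk, fd120_outChk, fd120_elimChk⟩ cd ht,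
    FData.case_eq (D := fd121) ⟨fd121_shapeChk, fd121_sylChk, fd121_closChk, fd121_clsChk, fd121_centChk, fd121_outChk, fd121_elimChk⟩ cd ht]

/-- The order of a Sylow 2-subgroup and the class of involutions. -/
theorem sylow_and_class (ht : orderOf t = 2) (cd : Coord G t (0, 1, 0)) :
    (∃ S : Sylow 2 G, (S : Subgroup G) ≤ centralizer ({t} : Set G)) ∧
      ∀ s : G, orderOf s = 2 → ∃ g : G, g * t * g⁻¹ = s := by
  classical
  haveI : Fact (Nat.Prime 2) := ⟨Nat.prime_two⟩
  have hD := fd010_good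
  let cd' : Coord G t fd010.c := cd
  have ht2 : t * t = 1 := by rw [← pow_two, ← ht, pow_orderOf_eq_one]
  have h1t : t ≠ 1 := fun e => by rw [e, orderOf_one] at ht; omega
  set C : Subgroup G := centralizer ({t} : Set G) with hC
  set S : Subgroup G := FData.sylSub cd' with hS
  obtain ⟨hcard, hmem⟩ := FData.sylSub_spec hD cd'
  have hSC : S ≤ C := FData.sylSub_le hD cd'
  have hcC : Nat.card C = 161280 := cd'.card
  have hS2 : IsPGroup 2 S := IsPGroup.of_card (n := 9) (hcard.trans (by norm_num))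
  have hmax : ∀ K : Subgroup G, IsPGroup 2 K → K ≤ C → S ≤ K → S = K := by
    intro K hK hKC hSK
    refine eq_of_le_of_card_ge hSK ?_
    obtain ⟨n, hn⟩ := IsPGroup.iff_card.mp hK
    have hd := hcC ▸ card_dvd_of_le hKC
    rw [hn] at hd ⊢
    rw [hcard]
    by_contra hlt
    have hn9 : 10 ≤ n := by
      by_contra h9
      have := Nat.pow_le_pow_right (show 1 ≤ 2 by norm_num) (show n ≤ 9 by omega)
      omega
    have := (Nat.pow_dvd_pow 2 hn9).trans hd
    norm_num at this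
  have htC : t ∈ C := mem_centralizer_singleton_iff.mpr rfl
  have htS : t ∈ S := by
    let S' : Subgroup C := S.subgroupOf C
    let T' : Subgroup C := zpowers ⟨t, htC⟩
    haveI : T'.Normal := ⟨fun n hn g => by
      obtain ⟨k, rfl⟩ := mem_zpowers_iff.mp hn
      have hg : Commute g (⟨t, htC⟩ : C) := Subtype.ext (mem_centralizer_singleton_iff.mp g.2)
      rw [(hg.zpow_right k).eq, mul_inv_cancel_right]
      exact zpow_mem (mem_zpowers _) k⟩
    have hT2 : IsPGroup 2 T' := by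
      refine IsPGroup.of_card (n := 1) ?_
      rw [Nat.card_zpowers, pow_one, orderOf_eq_prime_iff]
      exact ⟨Subtype.ext (by rw [pow_two]; exact ht2), fun h => h1t (congrArg Subtype.val h)⟩
    have hK : IsPGroup 2 ↥((S' ⊔ T').map C.subtype) :=
      ((hS2.comap_subtype).to_sup_of_normal_right hT2).map _
    have heq := hmax _ hK (map_subtype_le _) (fun x hx => ⟨⟨x, hSC hx⟩, mem_sup_left hx, rfl⟩)
    rw [heq]
    exact ⟨⟨t, htC⟩, mem_sup_right (mem_zpowers _), rfl⟩
  obtain ⟨P, hSP⟩ := hS2.exists_le_sylow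
  have hPC : (P : Subgroup G) ≤ C := by
    have hPC0 : S = (P : Subgroup G) ⊓ C := hmax _ (P.2.to_le inf_le_left) inf_le_right (le_inf hSP hSC)
    haveI : Nontrivial (P : Subgroup G) := ⟨⟨1, one_mem _⟩, ⟨t, hSP htS⟩, fun e => h1t (congrArg Subtype.val e).symm⟩
    haveI := P.2.center_nontrivial
    obtain ⟨z, hz⟩ := exists_prime_orderOf_dvd_card' 2 (G := center (P : Subgroup G)) (by
      obtain ⟨n, hn⟩ := IsPGroup.iff_card.mp (P.2.to_subgroup (center (P : Subgroup G)))
      rw [hn]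
      refine dvd_pow_self 2 fun h0 => ?_
      rw [h0, pow_zero] at hn
      exact (Finite.one_lt_card).ne' hn)
    set zz : G := ((z : (P : Subgroup G)) : G) with hzz
    have hzP : ∀ p ∈ (P : Subgroup G), p * zz = zz * p := fun p hp =>
      congrArg Subtype.val (mem_center_iff.mp z.2 ⟨p, hp⟩)
    have hzS : zz ∈ S := by
      rw [hPC0]
      exact ⟨(z : (P : Subgroup G)).2, mem_centralizer_singleton_iff.mpr (hzP t (hSP htS)).symm⟩
    have hz2 : orderOf zz = 2 := by rw [hzz, orderOf_coe, orderOf_coe, hz]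
    obtain ⟨i, hi, ei⟩ := (hmem zz).mp hzS
    have hzt : zz = t := by
      have h := fd010_zsChk
      simp only [FData.zsChk, List.all_eq_true, List.mem_range, Bool.or_eq_true, Bool.not_eq_true', List.any_eq_true] at h
      rcases h i hi with ((h0 | h0) | h0) | ⟨g, hg, h0⟩
      · refine absurd ((FData.K_sq hD cd' (FData.ok_s hD hi).1).mpr ?_) (Nat.ne_of_beq_eq_false h0)
        rw [ei, ← pow_two, ← hz2, pow_orderOf_eq_one]
      · have h1 := Nat.eq_of_beq_eq_true h0
        rw [FData.sKey_eq hD cd' hi, FData.K_one hD cd' (FData.ok_s hD hi).1, ei] at h1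
        rw [h1, orderOf_one] at hz2; omega
      · have h1 := Nat.eq_of_beq_eq_true h0
        rwa [FData.sKey_eq hD cd' hi, FData.K_t hD cd' (FData.ok_s hD hi).1, ei] at h1
      · refine absurd ((FData.K_comm hD cd' (FData.ok_sgens hD hg) (FData.ok_s hD hi).1).mpr ?_) (Nat.ne_of_beq_eq_false h0)
        rw [ei]
        exact hzP _ (hSP (subset_closure ⟨g, hg, rfl⟩))
    exact fun p hp => mem_centralizer_singleton_iff.mpr (hzt ▸ hzP p hp)
  have hPS : (P : Subgroup G) = S := (hmax _ P.2 hPC hSP).symm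
  refine ⟨⟨P, hPC⟩, ?_⟩
  have hG2 : ∀ M : Subgroup G, M.Normal → M.index ≠ 2 := by
    intro M hM hi
    rcases IsSimpleGroup.eq_bot_or_eq_top_of_normal M hM with e | e
    · rw [e, index_bot] at hi
      have := Nat.le_of_dvd (by omega) (hi ▸ card_subgroup_dvd_card C)
      omega
    · rw [e, index_top] at hi; omega
  obtain ⟨g₀, hg₀⟩ := FData.inner_conj hD cd' ht
  have hinner : ∀ s ∈ C, s ∈ cd'.M → s * s = 1 → s ≠ 1 → ∃ g : G, g * t * g⁻¹ = s := by
    intro s hs hsM h2 h1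
    by_cases hst : s = t
    · exact ⟨1, by simp [hst]⟩
    obtain ⟨w, hw, r, hr, e⟩ := FData.classes hD cd' hs h2 h1 hst
    rcases List.mem_cons.mp hr with rfl | hr
    · refine ⟨(cd'.v w)⁻¹ * g₀, ?_⟩
      rw [show (cd'.v w)⁻¹ * g₀ * t * ((cd'.v w)⁻¹ * g₀)⁻¹ = (cd'.v w)⁻¹ * (g₀ * t * g₀⁻¹) * cd'.v w by group, hg₀,
        ← e]
      group
    · obtain ⟨o, ho, rfl⟩ := List.mem_map.mp hr
      refine absurd ?_ (FData.out_spec hD cd' ho).1
      rw [← e, cd'.inner_conj_iff (cd'.v_cent hw) hs]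
      exact hsM
  -- an outer element of the Sylow subgroup gives the index
  intro s hs
  have hs2 : s * s = 1 := by rw [← pow_two, ← hs, pow_orderOf_eq_one]
  have hs1 : s ≠ 1 := fun e => by rw [e, orderOf_one] at hs; omega
  obtain ⟨Q', hQ'⟩ := (IsPGroup.of_card (p := 2) (n := 1) (by rw [Nat.card_zpowers, hs, pow_one]) :
    IsPGroup 2 (zpowers s)).exists_le_sylow
  obtain ⟨g, hg⟩ := MulAction.exists_smul_eq G Q' P
  have hm : g * s * g⁻¹ ∈ (P : Subgroup G) := by
    rw [← hg, Sylow.coe_subgroup_smul]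
    exact Subgroup.smul_mem_pointwise_smul s (MulAut.conj g) _ (hQ' (mem_zpowers _))
  have hsg2 : g * s * g⁻¹ * (g * s * g⁻¹) = 1 := by
    rw [show g * s * g⁻¹ * (g * s * g⁻¹) = g * (s * s) * g⁻¹ by group, hs2, mul_one, mul_inv_cancel]
  have hsg1 : g * s * g⁻¹ ≠ 1 := fun e => hs1 (conj_eq_one_iff.mp e)
  suffices h : ∃ k : G, k * t * k⁻¹ = g * s * g⁻¹ by
    obtain ⟨k, hk⟩ := h
    refine ⟨g⁻¹ * k, ?_⟩
    rw [show g⁻¹ * k * t * (g⁻¹ * k)⁻¹ = g⁻¹ * (k * t * k⁻¹) * g by group, hk]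
    group
  by_cases hin : g * s * g⁻¹ ∈ cd'.M
  · exact hinner _ (hPC hm) hin hsg2 hsg1
  have hQi : ((P : Subgroup G) ⊓ cd'.M).relIndex (P : Subgroup G) = 2 := by
    rw [relIndex, index_eq_two_iff]
    refine ⟨⟨_, hm⟩, fun b => ?_⟩
    simp only [mem_subgroupOf, Subgroup.coe_mul, mem_inf, mul_mem b.2 hm, b.2, true_and, xor_iff_not_iff]
    rw [cd'.inner_mul (hPC b.2) (hPC hm)]
    tauto
  obtain ⟨k, hk, -⟩ := CfsgLib.TransferExtremal.exists_conj hG2 P _ inf_le_left hQi (g * s * g⁻¹)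
    (by rw [pow_two]; exact hsg2)
  obtain ⟨l, hl⟩ := hinner _ (hPC hk.1) hk.2
    (by rw [show k * (g * s * g⁻¹) * k⁻¹ * (k * (g * s * g⁻¹) * k⁻¹) = k * (g * s * g⁻¹ * (g * s * g⁻¹)) * k⁻¹ by group,
      hsg2, mul_one, mul_inv_cancel])
    (fun e => hsg1 (conj_eq_one_iff.mp e))
  refine ⟨k⁻¹ * l, ?_⟩
  rw [show k⁻¹ * l * t * (k⁻¹ * l)⁻¹ = k⁻¹ * (l * t * l⁻¹) * k by group, hl]
  group

/-- The fusion theorem, from the hypotheses on the centraliser. -/
theorem fusion (t : G) (ht : orderOf t = 2) (M : Subgroup (centralizer ({t} : Set G))) [M.Normal]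
    (hM : M.index = 2) (hout : centralizer (M : Set (centralizer ({t} : Set G))) ≤ M)
    (hZc : IsCyclic (center M)) (hZ4 : Nat.card (center M) = 4) (hperf : commutator M = ⊤)
    (F : Type) [Field F] [Fintype F] (hF : Fintype.card F = 4)
    (e : M ⧸ center M ≃* Matrix.ProjectiveSpecialLinearGroup (Fin 3) F) :
    Nonempty (Coord G t (0, 1, 0)) ∧ ∀ s : G, orderOf s = 2 → ∃ g : G, g * t * g⁻¹ = s := by
  obtain ⟨c, ⟨cd⟩⟩ := exists_coord t ht M hM hout hZc hZ4 hperf F hF e
  obtain rfl := coord_case ht cd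
  exact ⟨⟨cd⟩, (sylow_and_class ht cd).2⟩

end CfsgON
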