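/-
Checks of the data for gluing.
-/
import Cfsg.Agent.Lib.ONRecog.GlueData

set_option autoImplicit false
set_option maxRecDepth 100000
set_option maxHeartbeats 4000000

namespace CfsgON

theorem glue_tabChk : glue.tabChk = true := by decide +kernel

theorem glue_witChk : glue.witChk = true := by decide +kernel

theorem glue_triChk : glue.triChk = true := by decide +kernel

theorem glue_autoChk : glue.autoChk = true := by decide +kernel

theorem glue_tfChk : glue.tfChk = true := by decide +kernel

theorem glue_tChk : glue.tChk = true := by decide +kernel

theorem glue_tkChk : glue.tkChk = true := by decide +kernel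

theorem glue_relChk0 : glue.relChk glueCase0 = true := by decide +kernel

theorem glue_pairChk0 : glue.pairChk glueCase0 = true := by decide +kernel

theorem glue_side₁0 : glue.sideChk glueCase0 glueCase0.side₁ = true := by decide +kernel

theorem glue_side₂0 : glue.sideChk glueCase0 glueCase0.side₂ = true := by decide +kernel

theorem glue_relChk1 : glue.relChk glueCase1 = true := by decide +kernel

theorem glue_pairChk1 : glue.pairChk glueCase1 = true := by decide +kernel

theorem glue_side₁1 : glue.sideChk glueCase1 glueCase1.side₁ = true := by decide +kernel

theorem glue_side₂1 : glue.sideChk glueCase1 glueCase1.side₂ = true := by decide +kernel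

theorem glue_relChk2 : glue.relChk glueCase2 = true := by decide +kernel

theorem glue_pairChk2 : glue.pairChk glueCase2 = true := by decide +kernel

theorem glue_side₁2 : glue.sideChk glueCase2 glueCase2.side₁ = true := by decide +kernel

theorem glue_side₂2 : glue.sideChk glueCase2 glueCase2.side₂ = true := by decide +kernel

theorem glue_relChk3 : glue.relChk glueCase3 = true := by decide +kernel

theorem glue_pairChk3 : glue.pairChk glueCase3 = true := by decide +kernel

theorem glue_side₁3 : glue.sideChk glueCase3 glueCase3.side₁ = true := by decide +kernel

theorem glue_side₂3 : glue.sideChk glueCase3 glueCase3.side₂ = true := by decide +kernel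

end CfsgON
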