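/-
The common part of two involution centralisers, numbered by the checked tables.
-/
import Cfsg.Agent.Lib.ONRecog.FusionAll
import Cfsg.Agent.Lib.ONRecog.GlueChecks

set_option autoImplicit false
set_option maxHeartbeats 800000
set_option linter.unusedSectionVars false

namespace CfsgON

open CfsgPC Subgroup

universe u

variable {G : Type u} [Group G]

/-- Moving two centralisers by conjugation. -/
theorem cent_conj_card (g x y : G) :
    Nat.card ↥(centralizer ({g * x * g⁻¹} : Set G) ⊓ centralizer ({g * y * g⁻¹} : Set G)) =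
      Nat.card ↥(centralizer ({x} : Set G) ⊓ centralizer ({y} : Set G)) := by
  have key : ∀ (h a b z : G), Commute a b → z = h * a * h⁻¹ → Commute z (h * b * h⁻¹) := fun h a b z hab hz =>
    hz ▸ hab.conj h
  refine Nat.card_congr ⟨fun z => ⟨g⁻¹ * z * g, ?_, ?_⟩, fun z => ⟨g * z * g⁻¹, ?_, ?_⟩, fun z => ?_, fun z => ?_⟩
  · refine mem_centralizer_singleton_iff.mpr ?_
    have := key g⁻¹ _ _ (g⁻¹ * z * g) (mem_centralizer_singleton_iff.mp z.2.1) (by group)
    simpa [mul_assoc] using this.eq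
  · refine mem_centralizer_singleton_iff.mpr ?_
    have := key g⁻¹ _ _ (g⁻¹ * z * g) (mem_centralizer_singleton_iff.mp z.2.2) (by group)
    simpa [mul_assoc] using this.eq
  · exact mem_centralizer_singleton_iff.mpr (key g _ _ _ (mem_centralizer_singleton_iff.mp z.2.1) rfl).eq
  · exact mem_centralizer_singleton_iff.mpr (key g _ _ _ (mem_centralizer_singleton_iff.mp z.2.2) rfl).eq
  · exact Subtype.ext (show g * (g⁻¹ * (z : G) * g) * g⁻¹ = z by group)
  · exact Subtype.ext (show g⁻¹ * (g * (z : G) * g⁻¹) * g = z by group)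

theorem okW_catW {ws : List (List ℕ)} (h : ∀ s, okW (ws.getD s []) = true) : ∀ r : List ℕ, okW (catW ws r) = true
  | [] => rfl
  | s :: r => by
    rw [show catW ws (s :: r) = ws.getD s [] ++ catW ws r from rfl]
    exact okW_append.mpr ⟨h s, okW_catW h r⟩

variable {f : G} (cd : Coord G f (0, 1, 0))

theorem Coord.v_catW {ws : List (List ℕ)} (h : ∀ s, okW (ws.getD s []) = true) :
    ∀ r : List ℕ, cd.v (catW ws r) = (r.map fun s => cd.v (ws.getD s [])).prod
  | [] => cd.v_nil
  | s :: r => by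
    rw [show catW ws (s :: r) = ws.getD s [] ++ catW ws r from rfl, cd.v_append (h s) (okW_catW h r), Coord.v_catW h r,
      List.map_cons, List.prod_cons]

theorem okW_getD {ws : List (List ℕ)} (h : ∀ w ∈ ws, okW w = true) (s : ℕ) : okW (ws.getD s []) = true := by
  by_cases hs : s < ws.length
  · rw [List.getD_eq_getElem _ _ hs]; exact h _ (List.getElem_mem hs)
  · rw [List.getD_eq_default _ _ (Nat.le_of_not_lt hs)]; rfl

namespace Share

variable [Finite G]

/-- The numbered element of the common part. -/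
noncomputable def el (i : ℕ) : G := cd.v (fd010.r i)

theorem ok_r {i : ℕ} (hi : i < 256) : okW (fd010.r i) = true := FData.ok_r fd010_good hi

/-- Equal keys are equal elements. -/
theorem key_iff {a b : List ℕ} (ha : okW a = true) (hb : okW b = true) :
    fd010.K a = fd010.K b ↔ cd.v a = cd.v b := FData.K_iff (D := fd010) fd010_good cd ha hb

theorem of_beq {a b : List ℕ} (ha : okW a = true) (hb : okW b = true) (h : Nat.beq (fd010.K a) (fd010.K b) = true) :
    cd.v a = cd.v b := (key_iff cd ha hb).mp (Nat.eq_of_beq_eq_true h)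

theorem of_nbeq {a b : List ℕ} (ha : okW a = true) (hb : okW b = true) (h : Nat.beq (fd010.K a) (fd010.K b) = false) :
    cd.v a ≠ cd.v b := fun e => Nat.ne_of_beq_eq_false h ((key_iff cd ha hb).mpr e)

theorem commute_of_beq {a b : List ℕ} (ha : okW a = true) (hb : okW b = true)
    (h : Nat.beq (fd010.K (a ++ b)) (fd010.K (b ++ a)) = true) : Commute (cd.v a) (cd.v b) :=
  (FData.K_comm (D := fd010) fd010_good cd ha hb).mp (Nat.eq_of_beq_eq_true h)

theorem beq_of_commute {a b : List ℕ} (ha : okW a = true) (hb : okW b = true) (h : Commute (cd.v a) (cd.v b)) :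
    Nat.beq (fd010.K (a ++ b)) (fd010.K (b ++ a)) = true := by
  rw [(FData.K_comm (D := fd010) fd010_good cd ha hb).mpr h]; exact Nat.beq_refl _

theorem rKey_eq {i : ℕ} (hi : i < 256) : fd010.rKey i = fd010.K (fd010.r i) := by
  have h := fd010_good.cent
  simp only [FData.centChk, Bool.and_eq_true, List.all_eq_true, List.mem_range] at h
  exact (Nat.eq_of_beq_eq_true (h.1.1.1.2 i hi).1).symm

theorem el_inj {i j : ℕ} (hi : i < 256) (hj : j < 256) (h : el cd i = el cd j) : i = j := by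
  have hinc := fd010_good.cent
  simp only [FData.centChk, Bool.and_eq_true] at hinc
  have hK := (key_iff cd (ok_r hi) (ok_r hj)).mpr h
  rw [← rKey_eq hi, ← rKey_eq hj] at hK
  rcases lt_trichotomy i j with hlt | he | hlt
  · exact absurd hK (incF_lt hinc.1.1.2 hlt hj).ne
  · exact he
  · exact absurd hK (incF_lt hinc.1.1.2 hlt hi).ne'

/-- The inner involution fixed for the second centraliser. -/
noncomputable def ia : G := cd.v fd010.u

theorem cent_facts : (ia cd * ia cd = 1 ∧ ia cd ≠ 1 ∧ ia cd ≠ f ∧ ia cd ∈ cd.M) ∧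
    Nat.card ↥(centralizer ({f} : Set G) ⊓ centralizer ({ia cd} : Set G)) = 256 ∧
    ∀ g, g ∈ centralizer ({f} : Set G) ⊓ centralizer ({ia cd} : Set G) ↔ ∃ i < 256, el cd i = g := by
  obtain ⟨h1, h2, -, h3⟩ := FData.cent_u (D := fd010) fd010_good cd
  refine ⟨h1, h2, fun g => ?_⟩
  refine (h3 g).trans ?_
  rw [FData.rList, List.map_map]
  simp only [List.mem_map, List.mem_range, Function.comp_apply, el]

theorem el_mem {i : ℕ} (hi : i < 256) : el cd i ∈ centralizer ({f} : Set G) ⊓ centralizer ({ia cd} : Set G) :=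
  ((cent_facts cd).2.2 _).mpr ⟨i, hi, rfl⟩

theorem tab {i k : ℕ} (hi : i < 256) (hk : k < 5) :
    glue.st i k < 256 ∧ el cd (glue.st i k) = el cd i * el cd (glue.gi.getD k 0) := by
  have h := glue_tabChk
  simp only [GData.tabChk, Bool.and_eq_true, List.all_eq_true, List.mem_range, Nat.blt_eq] at h
  obtain ⟨⟨⟨⟨⟨h1, -⟩, -⟩, hg⟩, -⟩, -⟩ := h
  obtain ⟨hlt, hK⟩ := (h1 i hi).1.1 k hk
  refine ⟨hlt, ?_⟩
  have hok : okW (fd010.r (glue.gi.getD k 0)) = true := ok_r (hg k hk)
  rw [rKey_eq hlt] at hK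
  rw [el, el, el, ← cd.v_append (ok_r hi) hok]
  exact (of_beq cd (okW_append.mpr ⟨ok_r hi, hok⟩) (ok_r hlt) hK).symm

theorem base_facts : glue.one < 256 ∧ el cd glue.one = 1 ∧ (∀ k < 5, glue.gi.getD k 0 < 256) ∧
    el cd (glue.gi.getD 0 0) = ia cd ∧ el cd (glue.gi.getD 3 0) = f ∧
    (∀ i < 256, (∀ k ∈ glue.wd i, k < 5) ∧ (glue.wd i).foldl glue.st glue.one = i) := by
  have h := glue_tabChk
  simp only [GData.tabChk, Bool.and_eq_true, List.all_eq_true, List.mem_range, Nat.blt_eq] at h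
  obtain ⟨⟨⟨⟨⟨h1, h2⟩, h3⟩, hg⟩, h4⟩, h5⟩ := h
  rw [rKey_eq h2] at h3
  rw [rKey_eq (hg 0 (by norm_num))] at h4
  rw [rKey_eq (hg 3 (by norm_num))] at h5
  refine ⟨h2, ?_, hg, ?_, ?_, fun i hi => ⟨(h1 i hi).1.2, Nat.eq_of_beq_eq_true (h1 i hi).2⟩⟩
  · rw [el, ← cd.v_nil]; exact of_beq cd (ok_r h2) rfl h3
  · exact of_beq cd (ok_r (hg 0 (by norm_num))) (FData.ok_u fd010_good) h4
  · exact (of_beq cd (ok_r (hg 3 (by norm_num))) (okW_z 8) h5).trans cd.v_t

theorem el_foldl : ∀ (w : List ℕ) {i : ℕ}, i < 256 → (∀ k ∈ w, k < 5) →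
    w.foldl glue.st i < 256 ∧ el cd (w.foldl glue.st i) = el cd i * (w.map fun k => el cd (glue.gi.getD k 0)).prod
  | [], i, hi, _ => ⟨hi, by simp⟩
  | k :: w, i, hi, hw => by
    obtain ⟨hlt, e⟩ := tab cd hi (hw k (List.mem_cons_self ..))
    obtain ⟨h1, h2⟩ := el_foldl w hlt fun j hj => hw j (List.mem_cons_of_mem _ hj)
    exact ⟨h1, by rw [List.foldl_cons, h2, e, List.map_cons, List.prod_cons, mul_assoc]⟩

theorem el_wd {i : ℕ} (hi : i < 256) :
    el cd i = ((glue.wd i).map fun k => el cd (glue.gi.getD k 0)).prod := by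
  obtain ⟨h1, h2, -, -, -, h3⟩ := base_facts cd
  have := (el_foldl cd (glue.wd i) h1 (h3 i hi).1).2
  rwa [(h3 i hi).2, h2, one_mul] at this

theorem el_mul {i j : ℕ} (hi : i < 256) (hj : j < 256) :
    glue.mul i j < 256 ∧ el cd (glue.mul i j) = el cd i * el cd j := by
  obtain ⟨-, -, -, -, -, h3⟩ := base_facts cd
  obtain ⟨h1, h2⟩ := el_foldl cd (glue.wd j) hi (h3 j hj).1
  exact ⟨h1, by rw [GData.mul, h2, ← el_wd cd hj]⟩

/-- Equal products of numbers are equal products of elements, both ways. -/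
theorem mul_eq_iff {i j k l : ℕ} (hi : i < 256) (hj : j < 256) (hk : k < 256) (hl : l < 256) :
    glue.mul i j = glue.mul k l ↔ el cd i * el cd j = el cd k * el cd l := by
  obtain ⟨h1, e1⟩ := el_mul cd hi hj
  obtain ⟨h2, e2⟩ := el_mul cd hk hl
  rw [← e1, ← e2]
  exact ⟨fun h => by rw [h], el_inj cd h1 h2⟩

theorem el_evI {im : List ℕ} : ∀ (w : List ℕ), (∀ k ∈ w, im.getD k 0 < 256) →
    glue.evI im w < 256 ∧ el cd (glue.evI im w) = (w.map fun k => el cd (im.getD k 0)).prod := by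
  have key : ∀ (w : List ℕ) (p : ℕ), p < 256 → (∀ k ∈ w, im.getD k 0 < 256) →
      w.foldl (fun p k => glue.mul p (im.getD k 0)) p < 256 ∧
      el cd (w.foldl (fun p k => glue.mul p (im.getD k 0)) p) = el cd p * (w.map fun k => el cd (im.getD k 0)).prod := by
    intro w
    induction w with
    | nil => exact fun p hp _ => ⟨hp, by simp⟩
    | cons k w ih =>
      intro p hp hw
      obtain ⟨hlt, e⟩ := el_mul cd hp (hw k (List.mem_cons_self ..))
      obtain ⟨h1, h2⟩ := ih _ hlt fun j hj => hw j (List.mem_cons_of_mem _ hj)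
      exact ⟨h1, by rw [List.foldl_cons, h2, e, List.map_cons, List.prod_cons, mul_assoc]⟩
  intro w hw
  obtain ⟨h1, h2, -⟩ := base_facts cd
  obtain ⟨a, b⟩ := key w glue.one h1 hw
  exact ⟨a, by rw [GData.evI, b, h2, one_mul]⟩

/-- A conjugation with the given images of the generators. -/
theorem conj_el {x : G} {im : List ℕ} (hlt : ∀ k < 5, im.getD k 0 < 256)
    (hx : ∀ k < 5, x * el cd (glue.gi.getD k 0) * x⁻¹ = el cd (im.getD k 0)) {i : ℕ} (hi : i < 256) :
    glue.mapI im i < 256 ∧ x * el cd i * x⁻¹ = el cd (glue.mapI im i) := by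
  obtain ⟨-, -, -, -, -, h3⟩ := base_facts cd
  obtain ⟨a, b⟩ := el_evI cd (glue.wd i) fun k hk => hlt k ((h3 i hi).1 k hk)
  refine ⟨a, ?_⟩
  rw [GData.mapI, b, el_wd cd hi, ← MulAut.conj_apply, map_list_prod, List.map_map]
  refine congrArg List.prod (List.map_congr_left fun k hk => ?_)
  exact hx k ((h3 i hi).1 k hk)

/-- Commuting with the first five generators is commuting with the whole part. -/
theorem commute_el {x : G} (hx : ∀ k < 5, Commute x (el cd (glue.gi.getD k 0))) {i : ℕ} (hi : i < 256) :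
    Commute x (el cd i) := by
  obtain ⟨-, -, -, -, -, h3⟩ := base_facts cd
  rw [el_wd cd hi]
  refine Commute.list_prod_right _ _ fun y hy => ?_
  obtain ⟨k, hk, rfl⟩ := List.mem_map.mp hy
  exact hx k ((h3 i hi).1 k hk)

/-- Every conjugate of the inner involution is in the list. -/
theorem orbit_ia {g : G} (hg : g ∈ centralizer ({f} : Set G)) :
    ∃ p < 630, cd.v (cjW (fd010.cw p) fd010.u) = g * ia cd * g⁻¹ := by
  classical
  have hok : ∀ {p : ℕ}, p < 630 → okW (fd010.cw p) = true := fun hp => FData.ok_cw fd010_good hp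
  have hu : okW fd010.u = true := FData.ok_u fd010_good
  set R : Subgroup G := centralizer ({f} : Set G) ⊓ centralizer ({ia cd} : Set G) with hR
  let φ : Fin 630 × R → centralizer ({f} : Set G) := fun p =>
    ⟨cd.v (fd010.cw p.1) * p.2, mul_mem (cd.v_cent (hok p.1.2)) p.2.2.1⟩
  have hcj : ∀ p : Fin 630 × R, cd.v (cjW (fd010.cw p.1) fd010.u) = (φ p : G) * ia cd * (φ p : G)⁻¹ := by
    intro p
    have hx : (p.2 : G) * ia cd = ia cd * p.2 := mem_centralizer_singleton_iff.mp p.2.2.2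
    rw [cjW, cd.v_cjW (hok p.1.2) hu]
    show _ = cd.v (fd010.cw p.1) * (p.2 : G) * ia cd * (cd.v (fd010.cw p.1) * (p.2 : G))⁻¹
    rw [mul_assoc (cd.v (fd010.cw p.1)) (p.2 : G), hx, ia]
    group
  have hinj : Function.Injective φ := by
    rintro ⟨a, r⟩ ⟨b, s⟩ hab
    have hv : cd.v (cjW (fd010.cw a) fd010.u) = cd.v (cjW (fd010.cw b) fd010.u) := by
      rw [hcj ⟨a, r⟩, hcj ⟨b, s⟩, hab]
    have hK := (key_iff cd (okW_cjW (hok a.2) hu) (okW_cjW (hok b.2) hu)).mpr hv
    have h := fd010_good.cent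
    simp only [FData.centChk, Bool.and_eq_true, List.all_eq_true, List.mem_range, cjW] at h hK
    rw [Nat.eq_of_beq_eq_true (h.1.2 a a.2), Nat.eq_of_beq_eq_true (h.1.2 b b.2)] at hK
    have hab' : a = b := by
      rcases lt_trichotomy (a : ℕ) b with h' | h' | h'
      · exact absurd hK (incF_lt h.2 h' b.2).ne
      · exact Fin.ext h'
      · exact absurd hK (incF_lt h.2 h' a.2).ne'
    subst hab'
    exact Prod.ext rfl (Subtype.ext (mul_left_cancel (congrArg Subtype.val hab)))
  have hbij : Function.Bijective φ := (Nat.bijective_iff_injective_and_card φ).mpr ⟨hinj, by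
    rw [Nat.card_prod, Nat.card_fin, (cent_facts cd).2.1, cd.card]⟩
  obtain ⟨p, hp⟩ := hbij.2 ⟨g, hg⟩
  exact ⟨p.1, p.1.2, by rw [hcj p, hp]⟩

/-- An involution with a centraliser of order 256 is conjugate to the inner one. -/
theorem conj_ia {s : G} (hs : s ∈ centralizer ({f} : Set G)) (hs2 : s * s = 1) (hs1 : s ≠ 1) (hsf : s ≠ f)
    (hc : s ∈ cd.M ∨ Nat.card ↥(centralizer ({f} : Set G) ⊓ centralizer ({s} : Set G)) = 256) :
    ∃ p ∈ centralizer ({f} : Set G), p * ia cd * p⁻¹ = s := by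
  have hD := fd010_good
  obtain ⟨w, hw, r, hr, e⟩ := FData.classes (D := fd010) hD cd hs hs2 hs1 hsf
  rcases List.mem_cons.mp hr with rfl | hr
  · refine ⟨(cd.v w)⁻¹, inv_mem (cd.v_cent hw), ?_⟩
    rw [ia, ← e]; group
  · exfalso
    obtain ⟨o, ho, rfl⟩ := List.mem_map.mp hr
    obtain ⟨hoM, h3, -⟩ := FData.out_spec (D := fd010) hD cd ho
    rcases hc with hc | hc
    · exact hoM (e ▸ (cd.inner_conj_iff (cd.v_cent hw) hs).mpr hc)
    · have hwf : cd.v w * f * (cd.v w)⁻¹ = f := by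
        rw [mem_centralizer_singleton_iff.mp (cd.v_cent hw), mul_inv_cancel_right]
      have hcard := cent_conj_card (cd.v w) f s
      rw [hwf, e, hc] at hcard
      rw [hcard] at h3
      norm_num at h3

theorem card_of_inner {s : G} (hs : s ∈ centralizer ({f} : Set G)) (hs2 : s * s = 1) (hs1 : s ≠ 1) (hsf : s ≠ f)
    (hM : s ∈ cd.M) : Nat.card ↥(centralizer ({f} : Set G) ⊓ centralizer ({s} : Set G)) = 256 := by
  obtain ⟨p, hp, e⟩ := conj_ia cd hs hs2 hs1 hsf (.inl hM)
  have hpf : p * f * p⁻¹ = f := by rw [mem_centralizer_singleton_iff.mp hp, mul_inv_cancel_right]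
  have hcard := cent_conj_card p f (ia cd)
  rwa [hpf, e, (cent_facts cd).2.1] at hcard

end Share

end CfsgON
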