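/-
Involutions centralising two inner involutions with product of order three.
-/
import Cfsg.Agent.Lib.ONRecog.Common

set_option autoImplicit false
set_option maxHeartbeats 800000
set_option linter.unusedSectionVars false

namespace CfsgON

open CfsgPC Subgroup

universe u

variable {G : Type u} [Group G] [Finite G] {f : G} (cd : Coord G f (0, 1, 0))

namespace Share

/-- An involution centralising the pair is moved to its product with the central involution. -/
theorem pair_move {s q z : G} (hs : ∃ p ∈ centralizer ({f} : Set G), p * ia cd * p⁻¹ = s)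
    (hq : q ∈ centralizer ({f} : Set G)) (hsq : (s * q) ^ 3 = 1) (hq2 : q * q = 1) (hne : q ≠ s)
    (hz : z ∈ centralizer ({f} : Set G)) (hz2 : z * z = 1) (hz1 : z ≠ 1) (hzf : z ≠ f)
    (hzs : Commute z s) (hzq : Commute z q) :
    ∃ k ∈ centralizer ({f} : Set G), Commute k s ∧ Commute k q ∧ k * z * k⁻¹ = z * f := by
  classical
  obtain ⟨p, hp, rfl⟩ := hs
  have hu : okW fd010.u = true := FData.ok_u fd010_good
  obtain ⟨⟨hu2, -, -, -⟩, -, hmem⟩ := cent_facts cd
  -- the second involution is conjugate to the inner one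
  set q' := p⁻¹ * q * p with hq'
  set a := ia cd with ha
  have hq'2 : q' * q' = 1 := by
    rw [hq', show p⁻¹ * q * p * (p⁻¹ * q * p) = p⁻¹ * (q * q) * p by group, hq2, mul_one, inv_mul_cancel]
  have hcube : (a * q') ^ 3 = 1 := by
    have e : p * (a * q') * p⁻¹ = p * a * p⁻¹ * q := by rw [hq']; group
    rw [← e, conj_pow] at hsq
    exact conj_eq_one_iff.mp hsq
  have hq'C : q' ∈ centralizer ({f} : Set G) := mul_mem (mul_mem (inv_mem hp) hq) hp
  have hconj : a * q' * a * (a * q')⁻¹ = q' := by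
    have h6 : a * q' * a * q' * a * q' = 1 := by rw [← hcube]; simp [pow_succ, mul_assoc]
    rw [mul_inv_rev, inv_eq_of_mul_eq_one_right hq'2, inv_eq_of_mul_eq_one_right hu2, ← mul_assoc,
      eq_inv_of_mul_eq_one_left h6, inv_eq_of_mul_eq_one_right hq'2]
  obtain ⟨i, hi, ei⟩ := orbit_ia cd (mul_mem (cd.v_cent hu) hq'C)
  have ei' : cd.v (cjW (fd010.cw i) fd010.u) = q' := ei.trans hconj
  have hqok : okW (cjW (fd010.cw i) fd010.u) = true := okW_cjW (FData.ok_cw fd010_good hi) hu
  have ht := glue_tChk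
  simp only [GData.tChk, Bool.and_eq_true, List.all_eq_true, List.mem_range, Bool.or_eq_true, Bool.not_eq_true',
    Nat.blt_eq] at ht
  obtain ⟨htok, ht⟩ := ht
  have hxok : okW (fd010.u ++ cjW (fd010.cw i) fd010.u) = true := okW_append.mpr ⟨hu, hqok⟩
  rcases ht i hi with (h | h) | ⟨⟨hr, hj⟩, h⟩
  · refine absurd ?_ (of_nbeq cd (okW_append.mpr ⟨okW_append.mpr ⟨hxok, hxok⟩, hxok⟩) rfl h)
    rw [cd.v_append (okW_append.mpr ⟨hxok, hxok⟩) hxok, cd.v_append hxok hxok, cd.v_append hu hqok, ei', cd.v_nil,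
      ← hcube]
    simp only [pow_succ, pow_zero, one_mul, a, ia]
  · exfalso
    have hkey := fd010_good.cent
    simp only [FData.centChk, Bool.and_eq_true, List.all_eq_true, List.mem_range] at hkey
    rw [← Nat.eq_of_beq_eq_true (hkey.1.2 i hi)] at h
    have e := of_beq cd hqok hu h
    rw [ei'] at e
    apply hne
    calc q = p * q' * p⁻¹ := by rw [hq']; group
      _ = p * a * p⁻¹ := by rw [e, ha, ia]
  -- normalise the pair
  set r := el cd (glue.twit i).1 with hr'
  set j := (glue.twit i).2 with hj'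
  have hjok : okW (glue.treps.getD j []) = true := okW_getD htok j
  have erep : cd.v (glue.treps.getD j []) = r * q' * r⁻¹ := by
    have := of_beq cd (okW_cjW (ok_r hr) hqok) hjok h
    rw [cd.v_cjW (ok_r hr) hqok] at this
    rw [hr', el, ← ei']
    exact this.symm
  have hrR := el_mem cd hr
  rw [← hr'] at hrR
  set z' := r * (p⁻¹ * z * p) * r⁻¹ with hz'
  have hzs' : Commute (p⁻¹ * z * p) a := by
    have := hzs.conj p⁻¹
    simpa [mul_assoc] using this
  have hz'a : Commute z' a := by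
    have hra : r * a * r⁻¹ = a := by rw [mem_centralizer_singleton_iff.mp hrR.2, mul_inv_cancel_right]
    have := hzs'.conj r
    rwa [hra] at this
  have hz'C : z' ∈ centralizer ({f} : Set G) :=
    mul_mem (mul_mem hrR.1 (mul_mem (mul_mem (inv_mem hp) hz) hp)) (inv_mem hrR.1)
  obtain ⟨m, hm, em⟩ := (hmem z').mp ⟨hz'C, mem_centralizer_singleton_iff.mpr hz'a.eq⟩
  have hz'q : Commute z' (cd.v (glue.treps.getD j [])) := by
    have h0 : Commute (p⁻¹ * z * p) q' := by simpa [hq', mul_assoc] using hzq.conj p⁻¹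
    rw [erep]
    exact h0.conj r
  obtain ⟨h1, he1, hg, -, hef, -⟩ := base_facts cd
  have hz'2 : z' * z' = 1 := by
    rw [hz', show r * (p⁻¹ * z * p) * r⁻¹ * (r * (p⁻¹ * z * p) * r⁻¹) = r * (p⁻¹ * (z * z) * p) * r⁻¹ by group, hz2]
    group
  have hrp : r * p⁻¹ * f * (r * p⁻¹)⁻¹ = f := by
    rw [mem_centralizer_singleton_iff.mp (mul_mem hrR.1 (inv_mem hp)), mul_inv_cancel_right]
  have hk := glue_tkChk
  simp only [GData.tkChk, List.all_eq_true, List.mem_range, Bool.or_eq_true, Bool.not_eq_true', List.any_eq_true,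
    Bool.and_eq_true, Nat.blt_eq] at hk
  rcases hk j hj m hm with (((h | h) | h) | h) | ⟨⟨i', k⟩, -, ⟨⟨hi', hk1⟩, hk2⟩, hk3⟩
  · refine absurd ?_ (Nat.ne_of_beq_eq_false h)
    obtain ⟨hlt, e⟩ := el_mul cd hm hm
    exact el_inj cd hlt h1 (by rw [e, em, hz'2, he1])
  · refine absurd ?_ hz1
    rw [Nat.eq_of_beq_eq_true h, he1, hz'] at em
    exact conj_eq_one_iff.mp (show r * p⁻¹ * z * (r * p⁻¹)⁻¹ = 1 by rw [em]; group)
  · refine absurd ?_ hzf
    rw [Nat.eq_of_beq_eq_true h, hef] at em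
    have e : r * p⁻¹ * z * (r * p⁻¹)⁻¹ = r * p⁻¹ * f * (r * p⁻¹)⁻¹ := by rw [hrp, em, hz']; group
    exact mul_left_cancel (mul_right_cancel e)
  · refine absurd ?_ (Nat.ne_of_beq_eq_false h)
    exact (FData.K_comm (D := fd010) fd010_good cd (ok_r hm) hjok).mpr (by rw [show cd.v (fd010.r m) = z' from em]; exact hz'q)
  · simp only at hi' hk1 hk2 hk3
    have hk' := el_mem cd hk1
    have hkq : Commute (el cd k) (r * q' * r⁻¹) := erep ▸ commute_of_beq cd (ok_r hk1) hjok hk2
    obtain rfl := Nat.eq_of_beq_eq_true hi'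
    obtain ⟨hl1, el1⟩ := el_mul cd hm (hg 3 (by norm_num))
    rw [hef, em] at el1
    have hmove : el cd k * z' * (el cd k)⁻¹ = z' * f := by
      have := (mul_eq_iff cd hk1 hm hl1 hk1).mp (Nat.eq_of_beq_eq_true hk3)
      rw [em, el1] at this
      rw [this, mul_inv_cancel_right]
    set c := p * r⁻¹ with hc
    have hcC : c ∈ centralizer ({f} : Set G) := mul_mem hp (inv_mem hrR.1)
    have hcf : c * f * c⁻¹ = f := by rw [mem_centralizer_singleton_iff.mp hcC, mul_inv_cancel_right]
    have hca : c * a * c⁻¹ = p * a * p⁻¹ := by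
      have hra : r⁻¹ * a * r = a := by
        rw [mul_assoc, ← mem_centralizer_singleton_iff.mp hrR.2, ← mul_assoc, inv_mul_cancel, one_mul]
      rw [hc, show p * r⁻¹ * a * (p * r⁻¹)⁻¹ = p * (r⁻¹ * a * r) * p⁻¹ by group, hra]
    refine ⟨c * el cd k * c⁻¹, mul_mem (mul_mem hcC hk'.1) (inv_mem hcC), ?_, ?_, ?_⟩
    · rw [← hca]; exact Commute.conj (mem_centralizer_singleton_iff.mp hk'.2) c
    · have := hkq.conj c
      rwa [show c * (r * q' * r⁻¹) * c⁻¹ = q by rw [hc, hq']; group] at this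
    · have ez : c * z' * c⁻¹ = z := by rw [hc, hz']; group
      calc c * el cd k * c⁻¹ * z * (c * el cd k * c⁻¹)⁻¹ =
            c * el cd k * c⁻¹ * (c * z' * c⁻¹) * (c * el cd k * c⁻¹)⁻¹ := by rw [ez]
        _ = c * (el cd k * z' * (el cd k)⁻¹) * c⁻¹ := by group
        _ = (c * z' * c⁻¹) * (c * f * c⁻¹) := by rw [hmove]; group
        _ = z * f := by rw [ez, hcf]

end Share

end CfsgON
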