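/-
An element swapping two commuting involutions and normalising the common part of their centralisers.
-/
import Cfsg.Agent.Lib.ONRecog.Common

set_option autoImplicit false
set_option maxHeartbeats 800000
set_option linter.unusedSectionVars false

namespace CfsgON

open CfsgPC Subgroup

universe u

variable {G : Type u} [Group G] [Finite G] {f : G} (cd : Coord G f (0, 1, 0))

theorem gens_invol : ((List.range 5).all fun k => Nat.beq (glue.mul (glue.gi.getD k 0) (glue.gi.getD k 0)) glue.one &&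
    !Nat.beq (glue.gi.getD k 0) glue.one) = true := by decide +kernel

theorem cases_len : (Nat.beq glue.cases.length 4 && glue.cases.all fun C => Nat.beq C.im.length 5) = true := by
  decide +kernel

attribute [local irreducible] glue fd010 GData.mapI GData.evI GData.mul

namespace Share

theorem gen_sq {k : ℕ} (hk : k < 5) : el cd (glue.gi.getD k 0) * el cd (glue.gi.getD k 0) = 1 ∧
    el cd (glue.gi.getD k 0) ≠ 1 := by
  obtain ⟨h1, he, hg, -⟩ := base_facts cd
  have h := gens_invol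
  simp only [List.all_eq_true, List.mem_range, Bool.and_eq_true, Bool.not_eq_true'] at h
  obtain ⟨ha, hb⟩ := h k hk
  refine ⟨?_, fun e => Nat.ne_of_beq_eq_false hb (el_inj cd (hg k hk) h1 (e.trans he.symm))⟩
  rw [← (el_mul cd (hg k hk) (hg k hk)).2, Nat.eq_of_beq_eq_true ha, he]

theorem inv_listed {s : G} (hs : s ∈ centralizer ({f} : Set G) ⊓ centralizer ({ia cd} : Set G)) (hs2 : s * s = 1)
    (hs1 : s ≠ 1) : ∃ p < glue.invs.length, glue.invs.getD p 0 < 256 ∧ el cd (glue.invs.getD p 0) = s := by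
  obtain ⟨i, hi, rfl⟩ := ((cent_facts cd).2.2 s).mp hs
  obtain ⟨h1, he, -⟩ := base_facts cd
  have h := glue_witChk
  simp only [GData.witChk, Bool.and_eq_true, List.all_eq_true, List.mem_range, Bool.or_eq_true, Bool.not_eq_true',
    List.contains_iff_mem] at h
  rcases h.1.1.2 i hi with (h0 | h0) | h0
  · obtain ⟨hlt, e⟩ := el_mul cd hi hi
    exact absurd (el_inj cd hlt h1 (e.trans (hs2.trans he.symm))) (Nat.ne_of_beq_eq_false h0)
  · exact absurd ((congrArg (el cd) (Nat.eq_of_beq_eq_true h0)).trans he) hs1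
  · obtain ⟨p, hp, rfl⟩ := List.getElem_of_mem h0
    exact ⟨p, hp, by rw [List.getD_eq_getElem _ _ hp]; exact ⟨hi, rfl⟩⟩

/-- An element of the second centraliser moving the central involution to the product. -/
def Moves (x : G) : Prop := x * ia cd * x⁻¹ = ia cd ∧ x * f * x⁻¹ = ia cd * f

theorem moves_part {x : G} (hx : Moves cd x) {s : G}
    (hs : s ∈ centralizer ({f} : Set G) ⊓ centralizer ({ia cd} : Set G)) :
    x * s * x⁻¹ ∈ centralizer ({f} : Set G) ⊓ centralizer ({ia cd} : Set G) := by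
  obtain ⟨⟨ha2, -, -, -⟩, -, -⟩ := cent_facts cd
  obtain ⟨hsf, hsa⟩ := hs
  have h1 : Commute (x * s * x⁻¹) (ia cd) :=
    hx.1 ▸ (Commute.conj (mem_centralizer_singleton_iff.mp hsa) x)
  have h2 : Commute (x * s * x⁻¹) (ia cd * f) :=
    hx.2 ▸ (Commute.conj (mem_centralizer_singleton_iff.mp hsf) x)
  refine ⟨mem_centralizer_singleton_iff.mpr ?_, mem_centralizer_singleton_iff.mpr h1.eq⟩
  have := h1.mul_right h2
  rw [← mul_assoc, ha2, one_mul] at this
  exact this.eq

/-- Conjugation by the fixed word. -/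
theorem tf_facts : cd.v glue.tf * ia cd * (cd.v glue.tf)⁻¹ = ia cd * f ∧
    (∀ k < 5, glue.tfIm.getD k 0 < 256) ∧
    ∀ k < 5, cd.v glue.tf * el cd (glue.gi.getD k 0) * (cd.v glue.tf)⁻¹ = el cd (glue.tfIm.getD k 0) := by
  have h := glue_tfChk
  simp only [GData.tfChk, Bool.and_eq_true, List.all_eq_true, List.mem_range, Nat.blt_eq] at h
  obtain ⟨⟨⟨htf, h1⟩, -⟩, h2⟩ := h
  obtain ⟨-, -, hg, -⟩ := base_facts cd
  have hu : okW fd010.u = true := FData.ok_u fd010_good
  refine ⟨?_, fun k hk => (h2 k hk).1, fun k hk => ?_⟩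
  · have e := of_beq cd (okW_cjW htf hu) (okW_append.mpr ⟨hu, okW_z 8⟩) h1
    rwa [cd.v_cjW htf hu, cd.v_append hu (okW_z 8), cd.v_t] at e
  · obtain ⟨hlt, e⟩ := h2 k hk
    rw [rKey_eq hlt] at e
    have := of_beq cd (okW_cjW htf (ok_r (hg k hk))) (ok_r hlt) e
    rwa [cd.v_cjW htf (ok_r (hg k hk))] at this

theorem exists_moves (hone : ∀ s : G, orderOf s = 2 → ∃ g : G, g * f * g⁻¹ = s) (hf : orderOf f = 2) :
    ∃ x, Moves cd x := by
  obtain ⟨⟨ha2, ha1, haf, -⟩, hc, -⟩ := cent_facts cd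
  have hu : okW fd010.u = true := FData.ok_u fd010_good
  obtain ⟨g, hg⟩ := hone (ia cd) (orderOf_eq_prime (by rw [pow_two]; exact ha2) ha1)
  have hf2 : f * f = 1 := by rw [← pow_two, ← hf, pow_orderOf_eq_one]
  have hf1 : f ≠ 1 := fun e => by rw [e, orderOf_one] at hf; omega
  have hfa : Commute f (ia cd) := (mem_centralizer_singleton_iff.mp (cd.v_cent hu)).symm
  set s := g⁻¹ * f * g with hs
  have hsC : s ∈ centralizer ({f} : Set G) := mem_centralizer_singleton_iff.mpr (by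
    have := hfa.conj g⁻¹
    rw [← hg] at this
    simpa [hs, mul_assoc] using this.eq)
  have hsf : s ≠ f := fun e => haf (by
    have : g * f * g⁻¹ = f := by
      calc g * f * g⁻¹ = g * s * g⁻¹ := by rw [e]
        _ = f := by rw [hs]; group
    rw [← hg, this])
  obtain ⟨p, hp, hps⟩ := conj_ia cd hsC (by rw [hs, show g⁻¹ * f * g * (g⁻¹ * f * g) = g⁻¹ * (f * f) * g by group, hf2]; group)
    (fun e => hf1 (by
      calc f = g * s * g⁻¹ := by rw [hs]; group
        _ = 1 := by rw [e]; group)) hsf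
    (.inr (by
      have h := cent_conj_card g f s
      rw [hg, show g * s * g⁻¹ = f by rw [hs]; group, inf_comm, hc] at h
      exact h.symm))
  have hpf : p * f * p⁻¹ = f := by rw [mem_centralizer_singleton_iff.mp hp, mul_inv_cancel_right]
  refine ⟨g * (p * cd.v glue.tf * p⁻¹) * g⁻¹, ?_, ?_⟩
  · have htfC : p * cd.v glue.tf * p⁻¹ ∈ centralizer ({f} : Set G) := by
      have h := glue_tfChk
      simp only [GData.tfChk, Bool.and_eq_true] at h
      exact mul_mem (mul_mem hp (cd.v_cent h.1.1.1)) (inv_mem hp)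
    rw [← hg, show g * (p * cd.v glue.tf * p⁻¹) * g⁻¹ * (g * f * g⁻¹) * (g * (p * cd.v glue.tf * p⁻¹) * g⁻¹)⁻¹ =
      g * ((p * cd.v glue.tf * p⁻¹) * f * (p * cd.v glue.tf * p⁻¹)⁻¹) * g⁻¹ by group,
      mem_centralizer_singleton_iff.mp htfC, mul_inv_cancel_right]
  · have e : f = g * (p * ia cd * p⁻¹) * g⁻¹ := by rw [hps, hs]; group
    calc _ = g * (p * cd.v glue.tf * p⁻¹) * g⁻¹ * (g * (p * ia cd * p⁻¹) * g⁻¹) *
          (g * (p * cd.v glue.tf * p⁻¹) * g⁻¹)⁻¹ := by rw [← e]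
      _ = g * (p * (cd.v glue.tf * ia cd * (cd.v glue.tf)⁻¹) * p⁻¹) * g⁻¹ := by group
      _ = g * (p * (ia cd * f) * p⁻¹) * g⁻¹ := by rw [(tf_facts cd).1]
      _ = (g * (p * ia cd * p⁻¹) * g⁻¹) * (g * (p * f * p⁻¹) * g⁻¹) := by group
      _ = f * ia cd := by rw [← e, hpf, hg]
      _ = ia cd * f := hfa.eq

theorem moves_mul {r x : G} (hr : r ∈ centralizer ({f} : Set G) ⊓ centralizer ({ia cd} : Set G)) (hx : Moves cd x) :
    Moves cd (r * x) := by
  have e1 : r * ia cd * r⁻¹ = ia cd := by rw [mem_centralizer_singleton_iff.mp hr.2, mul_inv_cancel_right]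
  have e2 : r * f * r⁻¹ = f := by rw [mem_centralizer_singleton_iff.mp hr.1, mul_inv_cancel_right]
  refine ⟨?_, ?_⟩
  · rw [show r * x * ia cd * (r * x)⁻¹ = r * (x * ia cd * x⁻¹) * r⁻¹ by group, hx.1, e1]
  · rw [show r * x * f * (r * x)⁻¹ = r * (x * f * x⁻¹) * r⁻¹ by group, hx.2,
      show r * (ia cd * f) * r⁻¹ = r * ia cd * r⁻¹ * (r * f * r⁻¹) by group, e1, e2]

/-- An element moving one involution to the product has the images of one of the cases. -/
theorem exists_case (hone : ∀ s : G, orderOf s = 2 → ∃ g : G, g * f * g⁻¹ = s) (hf : orderOf f = 2) :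
    ∃ x, Moves cd x ∧ ∃ C ∈ glue.cases, (∀ k < 5, C.im.getD k 0 < 256) ∧
      ∀ k < 5, x * el cd (glue.gi.getD k 0) * x⁻¹ = el cd (C.im.getD k 0) := by
  classical
  obtain ⟨x₀, hx₀⟩ := exists_moves cd hone hf
  obtain ⟨h1, he, hg, hea, hef, -⟩ := base_facts cd
  have hR : ∀ k < 5, el cd (glue.gi.getD k 0) ∈ centralizer ({f} : Set G) ⊓ centralizer ({ia cd} : Set G) :=
    fun k hk => el_mem cd (hg k hk)
  have hinv : ∀ (x : G), Moves cd x → ∀ k < 5, ∃ p < glue.invs.length, glue.invs.getD p 0 < 256 ∧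
      el cd (glue.invs.getD p 0) = x * el cd (glue.gi.getD k 0) * x⁻¹ := by
    intro x hx k hk
    obtain ⟨h2, hn⟩ := gen_sq cd hk
    refine inv_listed cd (moves_part cd hx (hR k hk)) ?_ fun e => hn (conj_eq_one_iff.mp e)
    rw [show x * el cd (glue.gi.getD k 0) * x⁻¹ * (x * el cd (glue.gi.getD k 0) * x⁻¹) =
      x * (el cd (glue.gi.getD k 0) * el cd (glue.gi.getD k 0)) * x⁻¹ by group, h2, mul_one, mul_inv_cancel]
  have hw := glue_witChk
  simp only [GData.witChk, Bool.and_eq_true, List.all_eq_true, List.mem_range, Nat.blt_eq] at hw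
  -- the second generator
  obtain ⟨p, hp, hpl, ep⟩ := hinv x₀ hx₀ 1 (by norm_num)
  obtain ⟨⟨hr, hk⟩, hrp⟩ := hw.1.2 p hp
  set r := (glue.cwit.getD p (0, 0)).1 with hrd
  set k := (glue.cwit.getD p (0, 0)).2 with hkd
  obtain ⟨⟨hcl, hdl⟩, hdw⟩ := hw.2 k hk
  have hx₁ := moves_mul cd (el_mem cd hr) hx₀
  set x₁ := el cd r * x₀ with hx₁d
  have e1 : x₁ * el cd (glue.gi.getD 1 0) * x₁⁻¹ = el cd (glue.creps.getD k 0) := by
    have h := (mul_eq_iff cd hr hpl hcl hr).mp (Nat.eq_of_beq_eq_true hrp)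
    rw [ep] at h
    calc _ = el cd r * (x₀ * el cd (glue.gi.getD 1 0) * x₀⁻¹) * (el cd r)⁻¹ := by rw [hx₁d]; group
      _ = _ := by rw [h, mul_inv_cancel_right]
  -- the third
  obtain ⟨p', hp', hpl', ep'⟩ := hinv x₁ hx₁ 2 (by norm_num)
  obtain ⟨⟨⟨hr', hl⟩, hrc⟩, hrp'⟩ := hdw p' hp'
  set r' := ((glue.dwit.getD k []).getD p' (0, 0)).1 with hr'd
  set l := ((glue.dwit.getD k []).getD p' (0, 0)).2 with hld
  have hdmem : (glue.dreps.getD k []).getD l 0 ∈ glue.dreps.getD k [] := by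
    rw [List.getD_eq_getElem _ _ hl]; exact List.getElem_mem hl
  have hd256 := hdl _ hdmem
  have hx₂ := moves_mul cd (el_mem cd hr') hx₁
  set x₂ := el cd r' * x₁ with hx₂d
  have e2 : x₂ * el cd (glue.gi.getD 1 0) * x₂⁻¹ = el cd (glue.creps.getD k 0) := by
    have h := (mul_eq_iff cd hr' hcl hcl hr').mp (Nat.eq_of_beq_eq_true hrc)
    calc _ = el cd r' * (x₁ * el cd (glue.gi.getD 1 0) * x₁⁻¹) * (el cd r')⁻¹ := by rw [hx₂d]; group
      _ = _ := by rw [e1, h, mul_inv_cancel_right]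
  have e3 : x₂ * el cd (glue.gi.getD 2 0) * x₂⁻¹ = el cd ((glue.dreps.getD k []).getD l 0) := by
    have h := (mul_eq_iff cd hr' hpl' hd256 hr').mp (Nat.eq_of_beq_eq_true hrp')
    rw [ep'] at h
    calc _ = el cd r' * (x₁ * el cd (glue.gi.getD 2 0) * x₁⁻¹) * (el cd r')⁻¹ := by rw [hx₂d]; group
      _ = _ := by rw [h, mul_inv_cancel_right]
  -- the last
  obtain ⟨p'', hp'', hh, eh⟩ := hinv x₂ hx₂ 4 (by norm_num)
  obtain ⟨haf, eaf⟩ := el_mul cd (hg 0 (by norm_num)) (hg 3 (by norm_num))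
  rw [hea, hef] at eaf
  set c := glue.creps.getD k 0 with hcd
  set d := (glue.dreps.getD k []).getD l 0 with hdd
  set h := glue.invs.getD p'' 0 with hhd
  set AF := glue.mul (glue.gi.getD 0 0) (glue.gi.getD 3 0) with hAF
  set im := [glue.gi.getD 0 0, c, d, AF, h] with him
  have hlt : ∀ k < 5, im.getD k 0 < 256 := by
    intro k hk
    interval_cases k
    exacts [hg 0 (by norm_num), hcl, hd256, haf, hh]
  have hims : ∀ k < 5, x₂ * el cd (glue.gi.getD k 0) * x₂⁻¹ = el cd (im.getD k 0) := by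
    intro k hk
    interval_cases k
    · show _ = el cd (glue.gi.getD 0 0); rw [hea, hx₂.1]
    · exact e2
    · exact e3
    · show _ = el cd AF; rw [hef, eaf, hx₂.2]
    · exact eh.symm
  have ht := glue_triChk
  simp only [GData.triChk, Bool.and_eq_true, List.all_eq_true, List.mem_range, Bool.or_eq_true, Bool.not_eq_true',
    List.any_eq_true, Nat.blt_eq, beq_iff_eq] at ht
  obtain ⟨⟨⟨⟨h4k, h5k⟩, h4⟩, h5⟩, htri⟩ := ht
  have hrel : ∀ (w : List ℕ) (im' : List ℕ), (∀ k ∈ w, k < 5 ∧ im'.getD k 0 = im.getD k 0) →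
      Nat.beq (glue.evI glue.gi w) glue.one = true → glue.evI im' w = glue.one := by
    intro w im' hw hh
    obtain ⟨ha, ea⟩ := el_evI cd w fun k hk => hg k (hw k hk).1
    obtain ⟨hb, eb⟩ := el_evI cd (im := im') w fun k hk => by rw [(hw k hk).2]; exact hlt k (hw k hk).1
    refine el_inj cd hb h1 ?_
    rw [eb, he]
    rw [Nat.eq_of_beq_eq_true hh, he] at ea
    calc (w.map fun k => el cd (im'.getD k 0)).prod
        = (w.map fun k => MulAut.conj x₂ (el cd (glue.gi.getD k 0))).prod := by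
          refine congrArg List.prod (List.map_congr_left fun k hk => ?_)
          rw [MulAut.conj_apply, hims k (hw k hk).1, (hw k hk).2]
      _ = MulAut.conj x₂ (w.map fun k => el cd (glue.gi.getD k 0)).prod := by rw [map_list_prod, List.map_map]; rfl
      _ = 1 := by rw [← ea, map_one]
  rcases htri k hk d hdmem with hbad | hall
  · refine absurd (hrel glue.rel4 _ (fun j hj => ⟨(h4k j hj).trans (by norm_num), ?_⟩) h4) (Nat.ne_of_beq_eq_false hbad)
    have := h4k j hj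
    interval_cases j <;> rfl
  rcases hall h (by rw [hhd, List.getD_eq_getElem _ _ hp'']; exact List.getElem_mem hp'') with hbad | ⟨a, ha, ea⟩
  · exact absurd (hrel glue.rel5 _ (fun j hj => ⟨h5k j hj, rfl⟩) h5) (Nat.ne_of_beq_eq_false hbad)
  have hau := glue_autoChk
  simp only [GData.autoChk, Bool.and_eq_true, List.all_eq_true, List.mem_range, List.any_eq_true, Nat.blt_eq] at hau
  obtain ⟨⟨⟨hz, hinn⟩, hcover⟩, hautos⟩ := hau
  obtain ⟨-, hkind⟩ := hautos a ha
  rw [ea] at hkind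
  have conj := fun {i} hi => conj_el cd (x := x₂) hlt hims (i := i) hi
  -- elements of the common part do not act as the forbidden maps
  have hno : ∀ (ys : List ℕ), glue.notInner ys = true → (∀ k < 5, ys.getD k 0 < 256) →
      ∀ y ∈ centralizer ({f} : Set G) ⊓ centralizer ({ia cd} : Set G),
      (∀ k < 5, y * el cd (glue.gi.getD k 0) * y⁻¹ = el cd (ys.getD k 0)) → False := by
    intro ys hni hys y hy hyg
    obtain ⟨i, hi, rfl⟩ := ((cent_facts cd).2.2 y).mp hy
    obtain ⟨s, hs, z, hz', hsz⟩ := hcover i hi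
    obtain ⟨hz256, hzc⟩ := hz z hz'
    simp only [GData.notInner, List.all_eq_true, List.any_eq_true, List.mem_range, Bool.not_eq_true'] at hni
    obtain ⟨j, hj, hne⟩ := hni s hs
    refine Nat.ne_of_beq_eq_false hne ((mul_eq_iff cd (hinn s hs) (hg j hj) (hys j hj) (hinn s hs)).mpr ?_)
    have hzcom : el cd z * el cd (glue.gi.getD j 0) = el cd (glue.gi.getD j 0) * el cd z :=
      (mul_eq_iff cd hz256 (hg j hj) (hg j hj) hz256).mp (Nat.eq_of_beq_eq_true (hzc j hj))
    have := hyg j hj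
    rw [Nat.eq_of_beq_eq_true hsz, (el_mul cd (hinn s hs) hz256).2] at this
    rw [← this, show el cd s * el cd z * el cd (glue.gi.getD j 0) * (el cd s * el cd z)⁻¹ * el cd s =
      el cd s * (el cd z * el cd (glue.gi.getD j 0)) * (el cd z)⁻¹ by group, hzcom]
    group
  obtain ⟨⟨ha2, -, -, -⟩, -, -⟩ := cent_facts cd
  have hxf : x₂ * (ia cd * f) * x₂⁻¹ = f := by
    rw [show x₂ * (ia cd * f) * x₂⁻¹ = x₂ * ia cd * x₂⁻¹ * (x₂ * f * x₂⁻¹) by group, hx₂.1, hx₂.2, ← mul_assoc, ha2,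
      one_mul]
  by_cases h0 : Nat.beq a.2 0 = true
  · exfalso
    rw [if_pos h0] at hkind
    have hmap : ∀ j < 5, (im.map (glue.mapI im)).getD j 0 = glue.mapI im (im.getD j 0) := fun j hj => by
      have hjl : j < im.length := by simp [him]; omega
      rw [List.getD_eq_getElem _ _ (by rw [List.length_map]; exact hjl), List.getElem_map,
        ← List.getD_eq_getElem _ 0]
    refine hno _ hkind (fun j hj => ?_) (x₂ * x₂) ?_ fun j hj => ?_
    · rw [hmap j hj]; exact (conj (hlt j hj)).1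
    · refine ⟨mem_centralizer_singleton_iff.mpr (mul_inv_eq_iff_eq_mul.mp ?_),
        mem_centralizer_singleton_iff.mpr (mul_inv_eq_iff_eq_mul.mp ?_)⟩
      · rw [show x₂ * x₂ * f * (x₂ * x₂)⁻¹ = x₂ * (x₂ * f * x₂⁻¹) * x₂⁻¹ by group, hx₂.2, hxf]
      · rw [show x₂ * x₂ * ia cd * (x₂ * x₂)⁻¹ = x₂ * (x₂ * ia cd * x₂⁻¹) * x₂⁻¹ by group, hx₂.1, hx₂.1]
    · have h := conj (hlt j hj)
      rw [show x₂ * x₂ * el cd (glue.gi.getD j 0) * (x₂ * x₂)⁻¹ = x₂ * (x₂ * el cd (glue.gi.getD j 0) * x₂⁻¹) * x₂⁻¹ by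
        group, hims j hj, h.2, hmap j hj]
  by_cases h1' : Nat.beq a.2 1 = true
  · exfalso
    rw [if_neg h0, if_pos h1'] at hkind
    obtain ⟨htfa, htlt, htg⟩ := tf_facts cd
    set v := cd.v glue.tf with hv
    have hvC : v * f * v⁻¹ = f := by
      have h := glue_tfChk
      simp only [GData.tfChk, Bool.and_eq_true] at h
      rw [hv, mem_centralizer_singleton_iff.mp (cd.v_cent h.1.1.1), mul_inv_cancel_right]
    have hlen : glue.gi.length = 5 := by
      have h := glue_tfChk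
      simp only [GData.tfChk, Bool.and_eq_true] at h
      exact Nat.eq_of_beq_eq_true h.1.2
    have step : ∀ {i : ℕ}, i < 256 → glue.mapI glue.tfIm (glue.mapI im i) < 256 ∧
        el cd (glue.mapI glue.tfIm (glue.mapI im i)) = v * x₂ * el cd i * (v * x₂)⁻¹ := by
      intro i hi
      obtain ⟨a1, a2⟩ := conj hi
      obtain ⟨b1, b2⟩ := conj_el cd htlt htg a1
      exact ⟨b1, by rw [← b2, ← a2]; group⟩
    have three : ∀ j < 5, ∃ i, i < 256 ∧
        el cd i = v * x₂ * (v * x₂) * (v * x₂) * el cd (glue.gi.getD j 0) * (v * x₂ * (v * x₂) * (v * x₂))⁻¹ ∧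
        (glue.gi.map fun g => glue.mapI glue.tfIm (glue.mapI im (glue.mapI glue.tfIm (glue.mapI im
          (glue.mapI glue.tfIm (glue.mapI im g)))))).getD j 0 = i := by
      intro j hj
      obtain ⟨a1, a2⟩ := step (hg j hj)
      obtain ⟨b1, b2⟩ := step a1
      obtain ⟨c1, c2⟩ := step b1
      refine ⟨_, c1, ?_, ?_⟩
      · rw [c2, b2, a2]; group
      · rw [List.getD_eq_getElem _ _ (by rw [List.length_map, hlen]; exact hj), List.getElem_map,
          ← List.getD_eq_getElem _ 0]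
    refine hno _ hkind (fun j hj => ?_) (v * x₂ * (v * x₂) * (v * x₂)) ?_ fun j hj => ?_
    · obtain ⟨i, hi, -, ei⟩ := three j hj
      exact ei ▸ hi
    · have hq0 : v * x₂ * ia cd * (v * x₂)⁻¹ = ia cd * f := by
        rw [show v * x₂ * ia cd * (v * x₂)⁻¹ = v * (x₂ * ia cd * x₂⁻¹) * v⁻¹ by group, hx₂.1, htfa]
      have hq1 : v * x₂ * f * (v * x₂)⁻¹ = ia cd := by
        rw [show v * x₂ * f * (v * x₂)⁻¹ = v * (x₂ * f * x₂⁻¹) * v⁻¹ by group, hx₂.2,
          show v * (ia cd * f) * v⁻¹ = v * ia cd * v⁻¹ * (v * f * v⁻¹) by group, htfa, hvC, mul_assoc,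
          show f * f = 1 by rw [← pow_two, ← hf, pow_orderOf_eq_one], mul_one]
      have hq2 : v * x₂ * (ia cd * f) * (v * x₂)⁻¹ = f := by
        rw [show v * x₂ * (ia cd * f) * (v * x₂)⁻¹ = v * (x₂ * (ia cd * f) * x₂⁻¹) * v⁻¹ by group, hxf, hvC]
      refine ⟨mem_centralizer_singleton_iff.mpr (mul_inv_eq_iff_eq_mul.mp ?_),
        mem_centralizer_singleton_iff.mpr (mul_inv_eq_iff_eq_mul.mp ?_)⟩
      · calc _ = v * x₂ * (v * x₂ * (v * x₂ * f * (v * x₂)⁻¹) * (v * x₂)⁻¹) * (v * x₂)⁻¹ := by group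
          _ = f := by rw [hq1, hq0, hq2]
      · calc _ = v * x₂ * (v * x₂ * (v * x₂ * ia cd * (v * x₂)⁻¹) * (v * x₂)⁻¹) * (v * x₂)⁻¹ := by group
          _ = ia cd := by rw [hq0, hq2, hq1]
    · obtain ⟨i, -, hi2, ei⟩ := three j hj
      rw [ei, hi2]
  rw [if_neg h0, if_neg h1', List.any_eq_true] at hkind
  obtain ⟨C, hC, hCim⟩ := hkind
  rw [beq_iff_eq] at hCim
  exact ⟨x₂, hx₂, C, hC, fun j hj => hCim ▸ hlt j hj, fun j hj => hCim ▸ hims j hj⟩

end Share

end CfsgON
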