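/-
Seven elements satisfying the relations of the O'Nan group, from two glued involution centralisers.
-/
import Cfsg.Agent.Lib.ONRecog.PairMove
import Cfsg.Agent.Lib.ONRecog.Swap

set_option autoImplicit false
set_option maxHeartbeats 800000
set_option linter.unusedSectionVars false

namespace CfsgON

open CfsgPC Subgroup CfsgLib.CosetEnum

universe u

theorem presON_short : (([0, 1, 2, 3, 4, 5, 6].all fun i => presON.rels.contains [i, i]) &&
    presON.rels.contains [0, 1, 0, 1, 0, 1]) = true := by decide +kernel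

theorem cases_distinct : (glue.cases.all fun C => !Nat.beq (fd010.K C.b) (fd010.K fd010.u)) = true := by
  decide +kernel

theorem glue_case {C : GCase} (hC : C ∈ glue.cases) : glue.relChk C = true ∧ glue.sideChk C C.side₁ = true ∧
    glue.sideChk C C.side₂ = true ∧ glue.pairChk C = true := by
  have hC' : C ∈ [glueCase0, glueCase1, glueCase2, glueCase3] := hC
  simp only [List.mem_cons, List.not_mem_nil, or_false] at hC'
  rcases hC' with rfl | rfl | rfl | rfl
  exacts [⟨glue_relChk0, glue_side₁0, glue_side₂0, glue_pairChk0⟩, ⟨glue_relChk1, glue_side₁1, glue_side₂1, glue_pairChk1⟩,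
    ⟨glue_relChk2, glue_side₁2, glue_side₂2, glue_pairChk2⟩, ⟨glue_relChk3, glue_side₁3, glue_side₂3, glue_pairChk3⟩]

variable {G : Type u} [Group G] [Finite G] {f : G} (cd : Coord G f (0, 1, 0))

attribute [local irreducible] glue fd010 GData.mapI GData.evI GData.mul

namespace Share

variable {C : GCase} {x : G}

/-- Conjugation by the composite swaps the two involutions. -/
noncomputable def swapper (x : G) : G := x * cd.v glue.tf * x

theorem swap_el (hlt : ∀ k < 5, C.im.getD k 0 < 256)
    (hx : ∀ k < 5, x * el cd (glue.gi.getD k 0) * x⁻¹ = el cd (C.im.getD k 0)) {i : ℕ} (hi : i < 256) :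
    glue.beta C i < 256 ∧ swapper cd x * el cd i * (swapper cd x)⁻¹ = el cd (glue.beta C i) := by
  obtain ⟨-, htlt, htg⟩ := tf_facts cd
  obtain ⟨a1, a2⟩ := conj_el cd hlt hx hi
  obtain ⟨b1, b2⟩ := conj_el cd htlt htg a1
  obtain ⟨c1, c2⟩ := conj_el cd hlt hx b1
  refine ⟨c1, ?_⟩
  show _ = el cd (glue.mapI C.im (glue.mapI glue.tfIm (glue.mapI C.im i)))
  rw [← c2, ← b2, ← a2, swapper]
  group

variable (hC : C ∈ glue.cases) (hlt : ∀ k < 5, C.im.getD k 0 < 256)
  (hx : ∀ k < 5, x * el cd (glue.gi.getD k 0) * x⁻¹ = el cd (C.im.getD k 0))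

include hC hlt hx

theorem case_ok : okW C.b = true ∧ (∀ e ∈ C.es, okW e = true) ∧ C.c < 256 ∧ C.d < 256 ∧ C.h < 256 ∧
    swapper cd x * ia cd * (swapper cd x)⁻¹ = f ∧ swapper cd x * f * (swapper cd x)⁻¹ = ia cd := by
  have h := (glue_case hC).1
  simp only [GData.relChk, Bool.and_eq_true, List.all_eq_true, Nat.blt_eq] at h
  obtain ⟨⟨⟨⟨⟨⟨⟨⟨h1, h2⟩, h3⟩, h4⟩, h5⟩, h6⟩, h7⟩, -⟩, -⟩ := h
  obtain ⟨-, -, hg, hea, hef, -⟩ := base_facts cd
  refine ⟨h1, h2, h3, h4, h5, ?_, ?_⟩
  · have := (swap_el cd hlt hx (hg 0 (by norm_num))).2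
    rwa [hea, Nat.eq_of_beq_eq_true h6, hef] at this
  · have := (swap_el cd hlt hx (hg 3 (by norm_num))).2
    rwa [hef, Nat.eq_of_beq_eq_true h7, hea] at this

theorem ok_tuple (s : ℕ) : okW ((glue.tuple C).getD s []) = true := by
  obtain ⟨hb, -, hc, hd, hh, -⟩ := case_ok cd hC hlt hx
  refine okW_getD (fun w hw => ?_) s
  simp only [GData.tuple, List.mem_cons, List.not_mem_nil, or_false] at hw
  rcases hw with rfl | rfl | rfl | rfl | rfl | rfl | rfl
  exacts [FData.ok_u fd010_good, hb, ok_r hc, ok_r hd, rfl, ok_r ((base_facts cd).2.2.1 3 (by norm_num)), ok_r hh]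

theorem ok_swapped {e : List ℕ} (he : okW e = true) (s : ℕ) : okW ((glue.swapped C e).getD s []) = true := by
  obtain ⟨-, -, hc, hd, hh, -⟩ := case_ok cd hC hlt hx
  refine okW_getD (fun w hw => ?_) s
  simp only [GData.swapped, List.mem_cons, List.not_mem_nil, or_false] at hw
  rcases hw with rfl | rfl | rfl | rfl | rfl | rfl | rfl
  exacts [ok_r ((base_facts cd).2.2.1 3 (by norm_num)), rfl, ok_r (swap_el cd hlt hx hc).1,
    ok_r (swap_el cd hlt hx hd).1, he, FData.ok_u fd010_good, ok_r (swap_el cd hlt hx hh).1]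

/-- The relations without the fifth generator. -/
theorem rel_first {r : List ℕ} (hr : r ∈ presON.rels) (h4 : r.contains 4 = false) :
    (r.map fun s => cd.v ((glue.tuple C).getD s [])).prod = 1 := by
  have h := (glue_case hC).1
  simp only [GData.relChk, Bool.and_eq_true, List.all_eq_true] at h
  have h' := (h.1.2 r hr).2
  rw [h4] at h'
  simp only [Bool.not_false, if_true] at h'
  have hok := ok_tuple cd hC hlt hx
  rw [← cd.v_catW hok r, ← cd.v_nil]
  exact of_beq cd (okW_catW hok r) rfl h'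

/-- The pair of first generators. -/
theorem pair_facts : cd.v C.b * cd.v C.b = 1 ∧ (ia cd * cd.v C.b) ^ 3 = 1 ∧ cd.v C.b ≠ ia cd := by
  have hs := presON_short
  simp only [Bool.and_eq_true, List.all_eq_true, List.contains_iff_mem] at hs
  have h1 := rel_first cd hC hlt hx (hs.1 1 (by simp)) (by decide)
  have h3 := rel_first cd hC hlt hx hs.2 (by decide)
  have ha : cd.v ((glue.tuple C).getD 0 []) = ia cd := rfl
  have hb : cd.v ((glue.tuple C).getD 1 []) = cd.v C.b := rfl
  simp only [List.map_cons, List.map_nil, List.prod_cons, List.prod_nil, mul_one, ha, hb] at h1 h3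
  refine ⟨h1, ?_, ?_⟩
  · rw [← h3]; simp [pow_succ, mul_assoc]
  · have hd := cases_distinct
    simp only [List.all_eq_true, Bool.not_eq_true'] at hd
    exact of_nbeq cd (case_ok cd hC hlt hx).1 (FData.ok_u fd010_good) (hd C hC)

theorem ok_sideWords {S : GSide} (hk : okW S.k0 = true) {i : ℕ} (hi : i < 256) :
    ∀ w ∈ glue.sideWords C S i, okW w = true := by
  intro w hw
  rcases List.mem_cons.mp hw with rfl | hw
  · exact okW_append.mpr ⟨hk, ok_r hi⟩
  · obtain ⟨j, hj, rfl⟩ := List.mem_map.mp hw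
    exact ok_r (swap_el cd hlt hx (List.mem_range.mp (List.mem_filter.mp hj).1)).1

/-- A side gives an element of the centraliser whose pullback commutes with both generators. -/
theorem exists_side (hone : ∀ s : G, orderOf s = 2 → ∃ g : G, g * f * g⁻¹ = s) (hf : orderOf f = 2) {S : GSide}
    (hS : glue.sideChk C S = true) :
    ∃ i < 256, (∃ p ∈ S.info, p.1 = i ∧ p.2.isEmpty = true) ∧ okW S.k0 = true ∧
      ∀ s, Commute ((swapper cd x)⁻¹ * cd.v ((glue.sideWords C S i).getD s []) * swapper cd x) (cd.v C.b) := by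
  classical
  obtain ⟨hbok, -, -, -, -, hya, hyf⟩ := case_ok cd hC hlt hx
  obtain ⟨hb2, hab3, hba⟩ := pair_facts cd hC hlt hx
  obtain ⟨⟨ha2, ha1, haf, -⟩, -, hmem⟩ := cent_facts cd
  obtain ⟨hone', heone, hg, hea, hef, -⟩ := base_facts cd
  have hS' := hS
  simp only [GData.sideChk, Bool.and_eq_true, List.all_eq_true, List.mem_range, Bool.or_eq_true, Bool.not_eq_true',
    Nat.blt_eq, List.any_eq_true] at hS'
  obtain ⟨⟨⟨⟨⟨⟨⟨⟨⟨⟨⟨hw, hw2⟩, hw1⟩, hwz⟩, hwb⟩, hβw⟩, hpar⟩, hβt⟩, hk0⟩, hk0c⟩, hk0u⟩, hinfo⟩ := hS'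
  set y := swapper cd x with hy
  set w := el cd S.w with hwd
  set b := cd.v C.b with hbd
  set a := ia cd with had
  have hww : w * w = 1 := by rw [← (el_mul cd hw hw).2, Nat.eq_of_beq_eq_true hw2, heone]
  have hwne1 : w ≠ 1 := fun e => Nat.ne_of_beq_eq_false hw1 (el_inj cd hw hone' (e.trans heone.symm))
  have hwnef : w ≠ f := fun e => Nat.ne_of_beq_eq_false hwz (el_inj cd hw (hg 3 (by norm_num)) (e.trans hef.symm))
  have hwR := el_mem cd hw
  rw [← hwd] at hwR
  have hwb' : Commute w b := commute_of_beq cd (ok_r hw) hbok hwb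
  have hwa' : Commute w a := mem_centralizer_singleton_iff.mp hwR.2
  have hwf' : Commute w f := mem_centralizer_singleton_iff.mp hwR.1
  set w' := el cd (glue.beta C S.w) with hw'd
  have hyw : y * w * y⁻¹ = w' := (swap_el cd hlt hx hw).2
  have hw'2 : w' * w' = 1 := by
    rw [← hyw, show y * w * y⁻¹ * (y * w * y⁻¹) = y * (w * w) * y⁻¹ by group, hww, mul_one, mul_inv_cancel]
  have hw'1 : w' ≠ 1 := fun e => hwne1 (conj_eq_one_iff.mp (hyw.trans e))
  have hw'f : w' ≠ f := fun e => by
    refine of_nbeq cd (ok_r hβw) (okW_z 8) hβt ?_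
    rw [cd.v_t]; exact e
  have hw'C := (el_mem cd hβw).1
  have hwa : w ≠ a := fun e => hw'f (by rw [← hyw, e, hya])
  -- move the involution to the centre
  obtain ⟨g, hgw⟩ := hone w (orderOf_eq_prime (by rw [pow_two]; exact hww) hwne1)
  have hback : ∀ {z : G}, Commute w z → g⁻¹ * z * g ∈ centralizer ({f} : Set G) := by
    intro z hz
    refine mem_centralizer_singleton_iff.mpr ?_
    have := hz.conj g⁻¹
    rw [← hgw] at this
    simpa [mul_assoc] using this.eq.symm
  have hgne : ∀ {z : G}, z ≠ w → g⁻¹ * z * g ≠ f := fun {z} hz e => hz (by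
    rw [← hgw, ← e]; group)
  have hcard : Nat.card ↥(centralizer ({f} : Set G) ⊓ centralizer ({g⁻¹ * a * g} : Set G)) = 256 := by
    have h1 := cent_conj_card g f (g⁻¹ * a * g)
    rw [hgw, show g * (g⁻¹ * a * g) * g⁻¹ = a by group] at h1
    rw [← h1, ← cent_conj_card y w a, hyw, hya, inf_comm]
    exact card_of_inner cd hw'C hw'2 hw'1 hw'f ((cd.inner_iff (ok_r hβw)).mpr hpar)
  have hs := conj_ia cd (s := g⁻¹ * a * g) (hback hwa')
    (by rw [show g⁻¹ * a * g * (g⁻¹ * a * g) = g⁻¹ * (a * a) * g by group, ha2]; group)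
    (fun e => ha1 (by rw [show a = g * (g⁻¹ * a * g) * g⁻¹ by group, e]; group)) (hgne (Ne.symm hwa)) (.inr hcard)
  have hf2 : f * f = 1 := by rw [← pow_two, ← hf, pow_orderOf_eq_one]
  have hf1 : f ≠ 1 := fun e => by rw [e, orderOf_one] at hf; omega
  have hfa : Commute f a := (mem_centralizer_singleton_iff.mp (cd.v_cent (FData.ok_u fd010_good))).symm
  have hfb : Commute f b := (mem_centralizer_singleton_iff.mp (cd.v_cent hbok)).symm
  obtain ⟨k₀, hk₀C, hk₀a, hk₀b, hk₀f⟩ := pair_move cd (z := g⁻¹ * f * g) hs (hback hwb')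
    (by
      rw [show g⁻¹ * a * g * (g⁻¹ * b * g) = g⁻¹ * (a * b) * (g⁻¹)⁻¹ by group, conj_pow, hab3]; group)
    (by rw [show g⁻¹ * b * g * (g⁻¹ * b * g) = g⁻¹ * (b * b) * g by group, hb2]; group)
    (fun e => hba (mul_left_cancel (mul_right_cancel e)))
    (hback hwf') (by rw [show g⁻¹ * f * g * (g⁻¹ * f * g) = g⁻¹ * (f * f) * g by group, hf2]; group)
    (fun e => hf1 (by rw [show f = g * (g⁻¹ * f * g) * g⁻¹ by group, e]; group)) (hgne (Ne.symm hwnef))
    (by simpa [mul_assoc] using hfa.conj g⁻¹) (by simpa [mul_assoc] using hfb.conj g⁻¹)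
  set k := g * k₀ * g⁻¹ with hkd
  have hka : Commute k a := by
    have := hk₀a.conj g
    rwa [show g * (g⁻¹ * a * g) * g⁻¹ = a by group] at this
  have hkb : Commute k b := by
    have := hk₀b.conj g
    rwa [show g * (g⁻¹ * b * g) * g⁻¹ = b by group] at this
  have hkw : Commute k w := by
    have := Commute.conj (mem_centralizer_singleton_iff.mp hk₀C) g
    rwa [hgw] at this
  have hkf : k * f * k⁻¹ = f * w := by
    have : g * (k₀ * (g⁻¹ * f * g) * k₀⁻¹) * g⁻¹ = g * (g⁻¹ * f * g * f) * g⁻¹ := by rw [hk₀f]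
    rw [← hgw, hkd]
    calc _ = g * (k₀ * (g⁻¹ * f * g) * k₀⁻¹) * g⁻¹ := by group
      _ = _ := this
      _ = _ := by group
  -- the pullback
  set k' := y * k * y⁻¹ with hk'd
  have hk'f : Commute k' f := by have := hka.conj y; rwa [hya] at this
  have hk'w : Commute k' w' := by have := hkw.conj y; rwa [hyw] at this
  have hk'a : k' * a * k'⁻¹ = a * w' := by
    rw [hk'd]
    calc y * k * y⁻¹ * a * (y * k * y⁻¹)⁻¹ = y * k * y⁻¹ * (y * f * y⁻¹) * (y * k * y⁻¹)⁻¹ := by rw [hyf]
      _ = y * (k * f * k⁻¹) * y⁻¹ := by group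
      _ = y * f * y⁻¹ * (y * w * y⁻¹) := by rw [hkf]; group
      _ = a * w' := by rw [hyf, hyw]
  set k0 := cd.v S.k0 with hk0d
  have hk0w : Commute k0 w' := commute_of_beq cd hk0 (ok_r hβw) hk0c
  have hk0a : k0 * a * k0⁻¹ = a * w' := by
    have := of_beq cd (okW_cjW hk0 (FData.ok_u fd010_good)) (okW_append.mpr ⟨FData.ok_u fd010_good, ok_r hβw⟩) hk0u
    rwa [cd.v_cjW hk0 (FData.ok_u fd010_good), cd.v_append (FData.ok_u fd010_good) (ok_r hβw)] at this
  have hrest : k0⁻¹ * k' ∈ centralizer ({f} : Set G) ⊓ centralizer ({a} : Set G) := by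
    refine ⟨Subgroup.mul_mem _ (Subgroup.inv_mem _ (cd.v_cent hk0)) (mem_centralizer_singleton_iff.mpr hk'f.eq),
      mem_centralizer_singleton_iff.mpr (mul_inv_eq_iff_eq_mul.mp ?_)⟩
    rw [show k0⁻¹ * k' * a * (k0⁻¹ * k')⁻¹ = k0⁻¹ * (k' * a * k'⁻¹) * k0 by group, hk'a, ← hk0a]
    group
  obtain ⟨i, hi, ei⟩ := (hmem _).mp hrest
  have hk'v : cd.v (S.k0 ++ fd010.r i) = k' := by
    rw [cd.v_append hk0 (ok_r hi)]
    show k0 * el cd i = k'
    rw [ei, mul_inv_cancel_left]
  have hiw : Commute (el cd i) w' := by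
    rw [ei]; exact hk0w.inv_left.mul_left hk'w
  rcases hinfo i hi with hno | ⟨p, hp, hpi, hp2⟩
  · refine absurd ?_ (Nat.ne_of_beq_eq_false hno)
    exact Nat.eq_of_beq_eq_true (beq_of_commute cd (ok_r hi) (ok_r hβw) hiw)
  have hswok : ∀ s, okW ((glue.sideWords C S i).getD s []) = true :=
    okW_getD (ok_sideWords cd hC hlt hx hk0 hi)
  -- all listed elements pull back into the centraliser of the pair
  have hall : ∀ s, y⁻¹ * cd.v ((glue.sideWords C S i).getD s []) * y ∈ centralizer ({a} : Set G) ⊓ centralizer ({b} : Set G) := by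
    intro s
    by_cases hs : s < (glue.sideWords C S i).length
    · rw [List.getD_eq_getElem _ _ hs]
      rcases List.mem_cons.mp (List.getElem_mem hs) with e | e
      · rw [e, hk'v, show y⁻¹ * k' * y = k by rw [hk'd]; group]
        exact ⟨mem_centralizer_singleton_iff.mpr hka.eq, mem_centralizer_singleton_iff.mpr hkb.eq⟩
      · obtain ⟨j, hj, ej⟩ := List.mem_map.mp e
        obtain ⟨hj', hjb⟩ := List.mem_filter.mp hj
        have hj256 := List.mem_range.mp hj'
        rw [← ej, show cd.v (fd010.r (glue.beta C j)) = y * el cd j * y⁻¹ from (swap_el cd hlt hx hj256).2.symm,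
          show y⁻¹ * (y * el cd j * y⁻¹) * y = el cd j by group]
        exact ⟨(el_mem cd hj256).2, mem_centralizer_singleton_iff.mpr (commute_of_beq cd (ok_r hj256) hbok hjb).eq⟩
    · rw [List.getD_eq_default _ _ (Nat.le_of_not_lt hs), cd.v_nil, mul_one, inv_mul_cancel]
      exact one_mem _
  refine ⟨i, hi, ⟨p, hp, Nat.eq_of_beq_eq_true hpi, ?_⟩, hk0, fun s => mem_centralizer_singleton_iff.mp (hall s).2⟩
  rcases hp2 with hp2 | ⟨⟨-, hxa⟩, hxn⟩
  · exact hp2
  exfalso
  set X := catW (glue.sideWords C S i) p.2 with hX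
  have hXok : okW X = true := okW_catW hswok p.2
  have hXC : y⁻¹ * cd.v X * y ∈ centralizer ({a} : Set G) ⊓ centralizer ({b} : Set G) := by
    rw [hX, cd.v_catW hswok, show y⁻¹ * (p.2.map fun s => cd.v ((glue.sideWords C S i).getD s [])).prod * y =
      MulAut.conj y⁻¹ (p.2.map fun s => cd.v ((glue.sideWords C S i).getD s [])).prod by simp, map_list_prod,
      List.map_map]
    refine list_prod_mem fun z hz => ?_
    obtain ⟨s, -, rfl⟩ := List.mem_map.mp hz
    simpa using hall s
  have hXf : y⁻¹ * cd.v X * y ∈ centralizer ({f} : Set G) := by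
    refine mem_centralizer_singleton_iff.mpr ?_
    have := (commute_of_beq cd hXok (FData.ok_u fd010_good) hxa).conj y⁻¹
    rw [show cd.v fd010.u = y * f * y⁻¹ from hyf.symm] at this
    simpa [mul_assoc] using this.eq
  obtain ⟨j, hj, ej⟩ := (hmem _).mp ⟨hXf, hXC.1⟩
  have hjb : j ∈ GData.fixB C := by
    refine List.mem_filter.mpr ⟨List.mem_range.mpr hj, beq_of_commute cd (ok_r hj) hbok ?_⟩
    show Commute (el cd j) b
    rw [ej]; exact mem_centralizer_singleton_iff.mp hXC.2
  have hej : el cd (glue.beta C j) = cd.v X := by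
    rw [← (swap_el cd hlt hx hj).2, ← hy, ej]; group
  refine absurd (List.contains_iff_mem.mpr (List.mem_map.mpr ⟨j, hjb, ?_⟩)) (by rw [hxn]; decide)
  rw [rKey_eq (swap_el cd hlt hx hj).1]
  exact (key_iff cd (ok_r (swap_el cd hlt hx hj).1) hXok).mpr hej

/-- Seven elements satisfying all relations. -/
theorem exists_tuple (hone : ∀ s : G, orderOf s = 2 → ∃ g : G, g * f * g⁻¹ = s) (hf : orderOf f = 2) :
    ∃ τ : ℕ → G, (∀ i, τ i * τ i = 1) ∧ (∀ r ∈ presON.rels, (r.map τ).prod = 1) ∧ τ 5 = f ∧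
      centralizer ({f} : Set G) ≤ closure (τ '' Set.Iio 7) := by
  classical
  obtain ⟨hbok, hesok, hc, hd, hh, hya, hyf⟩ := case_ok cd hC hlt hx
  obtain ⟨-, hs1, hs2, hpairs⟩ := glue_case hC
  obtain ⟨i₁, hi₁, ⟨p, hp, hp1, hp2⟩, hk1, hc1⟩ := exists_side cd hC hlt hx hone hf hs1
  obtain ⟨i₂, hi₂, ⟨q, hq, hq1, hq2⟩, hk2, hc2⟩ := exists_side cd hC hlt hx hone hf hs2
  simp only [GData.pairChk, List.all_eq_true, List.any_eq_true, Bool.or_eq_true, Bool.and_eq_true, Bool.not_eq_true',
    Nat.blt_eq] at hpairs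
  rcases hpairs p hp with h | hpairs
  · rw [h] at hp2; exact absurd hp2 (by decide)
  rcases hpairs q hq with h | ⟨z, -, ⟨⟨-, hidx⟩, -, hprod⟩⟩
  · rw [h] at hq2; exact absurd hq2 (by decide)
  set y := swapper cd x with hy
  set b := cd.v C.b with hbd
  have he_mem : C.es.getD z.2.2.1 [] ∈ C.es := by
    rw [List.getD_eq_getElem _ _ hidx]; exact List.getElem_mem hidx
  set e' := C.es.getD z.2.2.1 [] with he'
  have heok := hesok e' he_mem
  rw [hp1, hq1] at hprod
  set ws := (C.side₁.k0 ++ fd010.r i₁) :: glue.sideWords C C.side₂ i₂ with hws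
  have hwsok : ∀ s, okW (ws.getD s []) = true := okW_getD fun w hw => by
    rcases List.mem_cons.mp hw with rfl | hw
    · exact okW_append.mpr ⟨hk1, ok_r hi₁⟩
    · exact ok_sideWords cd hC hlt hx hk2 hi₂ w hw
  have heb : Commute (y⁻¹ * cd.v e' * y) b := by
    have e := of_beq cd (okW_catW hwsok _) heok hprod
    rw [← e, cd.v_catW hwsok, show y⁻¹ * (z.2.2.2.map fun s => cd.v (ws.getD s [])).prod * y =
      MulAut.conj y⁻¹ (z.2.2.2.map fun s => cd.v (ws.getD s [])).prod by simp, map_list_prod, List.map_map]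
    refine Commute.list_prod_left _ _ fun g hg => ?_
    obtain ⟨s, -, rfl⟩ := List.mem_map.mp hg
    rcases s with _ | s
    · simpa [hws, GData.sideWords] using hc1 0
    · simpa [hws] using hc2 s
  set T : List G := [ia cd, b, el cd C.c, el cd C.d, y⁻¹ * cd.v e' * y, f, el cd C.h] with hT
  have hfv : cd.v (fd010.r (glue.gi.getD 3 0)) = f := (base_facts cd).2.2.2.2.1
  have hsame : ∀ s, s ≠ 4 → T.getD s 1 = cd.v ((glue.tuple C).getD s []) := by
    intro s hs
    rcases s with _ | _ | _ | _ | _ | _ | _ | s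
    exacts [rfl, rfl, rfl, rfl, absurd rfl hs, hfv.symm, rfl, cd.v_nil.symm]
  have hconj : ∀ s, s ≠ 1 → y * T.getD s 1 * y⁻¹ = cd.v ((glue.swapped C e').getD s []) := by
    intro s hs
    rcases s with _ | _ | _ | _ | _ | _ | _ | s
    exacts [hya.trans hfv.symm, absurd rfl hs, (swap_el cd hlt hx hc).2, (swap_el cd hlt hx hd).2,
      (show y * (y⁻¹ * cd.v e' * y) * y⁻¹ = cd.v e' by group), hyf, (swap_el cd hlt hx hh).2,
      (show y * 1 * y⁻¹ = cd.v [] by rw [cd.v_nil]; group)]
  have hsq : ∀ i, (∀ r ∈ presON.rels, (r.map fun s => T.getD s 1).prod = 1) → T.getD i 1 * T.getD i 1 = 1 := by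
    intro i hrel
    by_cases hi : i < 7
    · have hs := presON_short
      simp only [Bool.and_eq_true, List.all_eq_true, List.contains_iff_mem] at hs
      have hi' : i ∈ [0, 1, 2, 3, 4, 5, 6] := by
        simp only [List.mem_cons, List.not_mem_nil, or_false]; omega
      simpa using hrel _ (hs.1 i hi')
    · rw [List.getD_eq_default _ _ (by simpa [hT] using Nat.le_of_not_lt hi), mul_one]
  have hrel : ∀ r ∈ presON.rels, (r.map fun s => T.getD s 1).prod = 1 := by
    intro r hr
    by_cases h4 : r.contains 4 = true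
    · have h := (glue_case hC).1
      simp only [GData.relChk, Bool.and_eq_true, List.all_eq_true] at h
      have hbody := (h.1.2 r hr).2
      rw [h4] at hbody
      simp only [Bool.not_true, Bool.false_eq_true, if_false] at hbody
      by_cases h1 : r.contains 1 = true
      · -- the commuting pair
        rw [h1] at hbody
        simp only [Bool.not_true, Bool.false_eq_true, if_false, beq_iff_eq] at hbody
        have hr4 : (T.getD 4 1) * (T.getD 4 1) = 1 := by
          have hs := presON_short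
          simp only [Bool.and_eq_true, List.all_eq_true, List.contains_iff_mem] at hs
          have h44 := (h.1.2 _ (hs.1 4 (by simp))).2
          simp only [List.contains_cons, List.contains_nil, beq_self_eq_true, Bool.true_or, Bool.not_true,
            Bool.false_eq_true, if_false, Nat.reduceBEq, Bool.or_false, Bool.not_false, if_true, List.all_eq_true] at h44
          have hok := ok_swapped cd hC hlt hx heok
          have := of_beq cd (okW_catW hok _) rfl (h44 e' he_mem)
          rw [cd.v_catW hok, cd.v_nil] at this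
          simp only [List.map_cons, List.map_nil, List.prod_cons, List.prod_nil, mul_one, ← hconj 4 (by norm_num)] at this
          rw [show y * T.getD 4 1 * y⁻¹ * (y * T.getD 4 1 * y⁻¹) = y * (T.getD 4 1 * T.getD 4 1) * y⁻¹ by group,
            conj_eq_one_iff] at this
          exact this
        have hb2 : b * b = 1 := (pair_facts cd hC hlt hx).1
        rw [hbody]
        show T.getD 1 1 * (T.getD 4 1 * (T.getD 1 1 * (T.getD 4 1 * 1))) = 1
        rw [mul_one, ← mul_assoc, ← mul_assoc, show T.getD 1 1 * T.getD 4 1 = T.getD 4 1 * T.getD 1 1 from heb.eq.symm,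
          mul_assoc (T.getD 4 1) (T.getD 1 1) (T.getD 1 1), show T.getD 1 1 * T.getD 1 1 = 1 from hb2, mul_one, hr4]
      · rw [Bool.not_eq_true] at h1
        rw [h1] at hbody
        simp only [Bool.not_false, if_true, List.all_eq_true] at hbody
        have hok := ok_swapped cd hC hlt hx heok
        have := of_beq cd (okW_catW hok r) rfl (hbody e' he_mem)
        rw [cd.v_catW hok, cd.v_nil] at this
        have hmap : (r.map fun s => cd.v ((glue.swapped C e').getD s [])) = r.map (MulAut.conj y ∘ fun s => T.getD s 1) := by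
          refine List.map_congr_left fun s hs => ?_
          rw [Function.comp_apply, MulAut.conj_apply, hconj s fun e => ?_]
          rw [e, ← List.contains_iff_mem] at hs
          rw [hs] at h1; exact absurd h1 (by decide)
        rw [hmap, ← List.map_map, ← map_list_prod, MulEquiv.map_eq_one_iff] at this
        exact this
    · rw [Bool.not_eq_true] at h4
      rw [List.map_congr_left fun s hs => hsame s fun e => ?_]
      · exact rel_first cd hC hlt hx hr h4
      · rw [e, ← List.contains_iff_mem] at hs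
        rw [hs] at h4; exact absurd h4 (by decide)
  refine ⟨fun s => T.getD s 1, fun i => hsq i hrel, hrel, rfl, ?_⟩
  set H : Subgroup G := closure ((fun s => T.getD s 1) '' Set.Iio 7) with hH
  intro g hg
  obtain ⟨w, hw, rfl⟩ := cd.v_surj hg
  clear hg
  have h3 : ∀ a < 3, cd.v [a] ∈ H := by
    intro a ha
    have h := (glue_case hC).1
    simp only [GData.relChk, Bool.and_eq_true, List.all_eq_true, List.mem_range, Bool.not_eq_true', Nat.blt_eq] at h
    obtain ⟨hsyms, hK⟩ := h.2 a ha
    have hok := ok_tuple cd hC hlt hx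
    rw [← of_beq cd (okW_catW hok _) (okW_single (by omega)) hK, cd.v_catW hok]
    refine list_prod_mem fun z hz => ?_
    obtain ⟨s, hs, rfl⟩ := List.mem_map.mp hz
    obtain ⟨hs7, hs4⟩ := hsyms s hs
    rw [← hsame s (Nat.ne_of_beq_eq_false hs4)]
    exact subset_closure ⟨s, Set.mem_Iio.mpr hs7, rfl⟩
  have h6 : ∀ a < 6, cd.v [a] ∈ H := by
    intro a ha
    rcases Nat.lt_or_ge a 3 with h | h
    · exact h3 a h
    · have e : [a] = invW [a - 3] := by
        simp [invW, invL]; omega
      rw [e, cd.v_invW (okW_single (by omega))]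
      exact inv_mem (h3 _ (by omega))
  induction w with
  | nil => rw [cd.v_nil]; exact one_mem _
  | cons a w ih =>
    rw [okW_iff] at hw
    have hw' : okW w = true := okW_iff.mpr fun b hb => hw b (List.mem_cons_of_mem _ hb)
    rw [show a :: w = [a] ++ w from rfl, cd.v_append (okW_single (hw a (List.mem_cons_self ..))) hw']
    exact mul_mem (h6 a (hw a (List.mem_cons_self ..))) (ih hw')

end Share

/-- Seven elements satisfying the relations exist. -/
theorem exists_generators (hone : ∀ s : G, orderOf s = 2 → ∃ g : G, g * f * g⁻¹ = s) (hf : orderOf f = 2)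
    (cd : Coord G f (0, 1, 0)) :
    ∃ τ : ℕ → G, (∀ i, τ i * τ i = 1) ∧ (∀ r ∈ presON.rels, (r.map τ).prod = 1) ∧ τ 5 = f ∧
      centralizer ({f} : Set G) ≤ closure (τ '' Set.Iio 7) := by
  obtain ⟨x, -, C, hC, hlt, hx⟩ := Share.exists_case cd hone hf
  exact Share.exists_tuple cd hC hlt hx hone hf

end CfsgON
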