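/-
The Coxeter element of the six nodes fixes no point but the first (part 0).
-/
import Cfsg.Agent.Lib.CosetEnum.ON122760.Main
import Cfsg.Agent.Lib.CosetEnum.OrbitChunk

set_option autoImplicit false
set_option maxRecDepth 1000000
set_option maxHeartbeats 4000000

namespace CfsgON

open CfsgLib.CosetEnum CfsgLib.CosetEnum.ON122760

theorem nineteen0_ok : allFrom 0 6000 (fun d => Nat.beq d 0 || !Nat.beq (runT table 7 [5, 4, 3, 2, 1, 0] d) d) = true := by
  decide +kernel

theorem nineteen2_ok : allFrom 12000 6000 (fun d => Nat.beq d 0 || !Nat.beq (runT table 7 [5, 4, 3, 2, 1, 0] d) d) = true := by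
  decide +kernel

theorem nineteen4_ok : allFrom 24000 6000 (fun d => Nat.beq d 0 || !Nat.beq (runT table 7 [5, 4, 3, 2, 1, 0] d) d) = true := by
  decide +kernel

theorem nineteen6_ok : allFrom 36000 6000 (fun d => Nat.beq d 0 || !Nat.beq (runT table 7 [5, 4, 3, 2, 1, 0] d) d) = true := by
  decide +kernel

theorem nineteen8_ok : allFrom 48000 6000 (fun d => Nat.beq d 0 || !Nat.beq (runT table 7 [5, 4, 3, 2, 1, 0] d) d) = true := by
  decide +kernel

theorem nineteen10_ok : allFrom 60000 6000 (fun d => Nat.beq d 0 || !Nat.beq (runT table 7 [5, 4, 3, 2, 1, 0] d) d) = true := by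
  decide +kernel

theorem nineteen12_ok : allFrom 72000 6000 (fun d => Nat.beq d 0 || !Nat.beq (runT table 7 [5, 4, 3, 2, 1, 0] d) d) = true := by
  decide +kernel

theorem nineteen14_ok : allFrom 84000 6000 (fun d => Nat.beq d 0 || !Nat.beq (runT table 7 [5, 4, 3, 2, 1, 0] d) d) = true := by
  decide +kernel

theorem nineteen16_ok : allFrom 96000 6000 (fun d => Nat.beq d 0 || !Nat.beq (runT table 7 [5, 4, 3, 2, 1, 0] d) d) = true := by
  decide +kernel

theorem nineteen18_ok : allFrom 108000 6000 (fun d => Nat.beq d 0 || !Nat.beq (runT table 7 [5, 4, 3, 2, 1, 0] d) d) = true := by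
  decide +kernel

theorem nineteen20_ok : allFrom 120000 2760 (fun d => Nat.beq d 0 || !Nat.beq (runT table 7 [5, 4, 3, 2, 1, 0] d) d) = true := by
  decide +kernel

end CfsgON
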