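/-
The Coxeter element of the six nodes fixes no point but the first (part 1).
-/
import Cfsg.Agent.Lib.CosetEnum.ON122760.Main
import Cfsg.Agent.Lib.CosetEnum.OrbitChunk

set_option autoImplicit false
set_option maxRecDepth 1000000
set_option maxHeartbeats 4000000

namespace CfsgON

open CfsgLib.CosetEnum CfsgLib.CosetEnum.ON122760

theorem nineteen1_ok : allFrom 6000 6000 (fun d => Nat.beq d 0 || !Nat.beq (runT table 7 [5, 4, 3, 2, 1, 0] d) d) = true := by
  decide +kernel

theorem nineteen3_ok : allFrom 18000 6000 (fun d => Nat.beq d 0 || !Nat.beq (runT table 7 [5, 4, 3, 2, 1, 0] d) d) = true := by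
  decide +kernel

theorem nineteen5_ok : allFrom 30000 6000 (fun d => Nat.beq d 0 || !Nat.beq (runT table 7 [5, 4, 3, 2, 1, 0] d) d) = true := by
  decide +kernel

theorem nineteen7_ok : allFrom 42000 6000 (fun d => Nat.beq d 0 || !Nat.beq (runT table 7 [5, 4, 3, 2, 1, 0] d) d) = true := by
  decide +kernel

theorem nineteen9_ok : allFrom 54000 6000 (fun d => Nat.beq d 0 || !Nat.beq (runT table 7 [5, 4, 3, 2, 1, 0] d) d) = true := by
  decide +kernel

theorem nineteen11_ok : allFrom 66000 6000 (fun d => Nat.beq d 0 || !Nat.beq (runT table 7 [5, 4, 3, 2, 1, 0] d) d) = true := by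
  decide +kernel

theorem nineteen13_ok : allFrom 78000 6000 (fun d => Nat.beq d 0 || !Nat.beq (runT table 7 [5, 4, 3, 2, 1, 0] d) d) = true := by
  decide +kernel

theorem nineteen15_ok : allFrom 90000 6000 (fun d => Nat.beq d 0 || !Nat.beq (runT table 7 [5, 4, 3, 2, 1, 0] d) d) = true := by
  decide +kernel

theorem nineteen17_ok : allFrom 102000 6000 (fun d => Nat.beq d 0 || !Nat.beq (runT table 7 [5, 4, 3, 2, 1, 0] d) d) = true := by
  decide +kernel

theorem nineteen19_ok : allFrom 114000 6000 (fun d => Nat.beq d 0 || !Nat.beq (runT table 7 [5, 4, 3, 2, 1, 0] d) d) = true := by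
  decide +kernel

end CfsgON
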