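/-
Checks for gluing two involution centralisers along their common part.
-/
import Cfsg.Agent.Lib.ONRecog.Fus.C010
import Cfsg.Agent.Lib.CosetEnum.PresON

set_option autoImplicit false
set_option maxHeartbeats 400000

namespace CfsgON

open CfsgPC

/-- One involution to glue over: its number, a conjugator and how each candidate is treated. -/
structure GSide where
  w : ℕ
  k0 : List ℕ
  info : List (ℕ × List ℕ)

/-- One automorphism of the common part and the generators belonging to it. -/
structure GCase where
  im : List ℕ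
  c : ℕ
  d : ℕ
  h : ℕ
  b : List ℕ
  es : List (List ℕ)
  letters : List (List ℕ)
  side₁ : GSide
  side₂ : GSide
  pairs : List (ℕ × ℕ × ℕ × List ℕ)

/-- The data for gluing. -/
structure GData where
  one : ℕ
  st : ℕ → ℕ → ℕ
  wd : ℕ → List ℕ
  gi : List ℕ
  tf : List ℕ
  tfIm : List ℕ
  invs : List ℕ
  cwit : List (ℕ × ℕ)
  creps : List ℕ
  dreps : List (List ℕ)
  dwit : List (List (ℕ × ℕ))
  rel4 : List ℕ
  rel5 : List ℕ
  autos : List (List ℕ × ℕ)
  inn : List ℕ
  zc : List ℕ
  treps : List (List ℕ)
  twit : ℕ → ℕ × ℕ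
  tk : List (List (ℕ × ℕ))
  cases : List GCase

/-- A concatenation of listed words. -/
def catW (ws : List (List ℕ)) (r : List ℕ) : List ℕ := (r.map fun s => ws.getD s []).flatten

namespace GData

/-- The product of two elements of the common part. -/
def mul (E : GData) (i j : ℕ) : ℕ := (E.wd j).foldl E.st i

/-- A word in given elements of the common part. -/
def evI (E : GData) (im : List ℕ) (w : List ℕ) : ℕ := w.foldl (fun p k => E.mul p (im.getD k 0)) E.one

/-- The map with given images of the generators. -/
def mapI (E : GData) (im : List ℕ) (i : ℕ) : ℕ := E.evI im (E.wd i)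

/-- The composite swapping the two commuting involutions. -/
def beta (E : GData) (C : GCase) (i : ℕ) : ℕ := E.mapI C.im (E.mapI E.tfIm (E.mapI C.im i))

/-- The table. -/
noncomputable def tabChk (E : GData) : Bool :=
  (List.range 256).all (fun i => (List.range 5).all (fun k => Nat.blt (E.st i k) 256 &&
      Nat.beq (fd010.K (fd010.r i ++ fd010.r (E.gi.getD k 0))) (fd010.rKey (E.st i k))) &&
    (E.wd i).all (fun k => Nat.blt k 5) && Nat.beq ((E.wd i).foldl E.st E.one) i) &&
  Nat.blt E.one 256 && Nat.beq (fd010.rKey E.one) (fd010.K []) &&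
  (List.range 5).all (fun k => Nat.blt (E.gi.getD k 0) 256) &&
  Nat.beq (fd010.rKey (E.gi.getD 0 0)) (fd010.K fd010.u) &&
  Nat.beq (fd010.rKey (E.gi.getD 3 0)) (fd010.K (zWords.getD 8 []))

/-- The reductions by inner automorphisms. -/
noncomputable def witChk (E : GData) : Bool :=
  E.invs.all (fun i => Nat.blt i 256) &&
  (List.range 256).all (fun i => !Nat.beq (E.mul i i) E.one || Nat.beq i E.one || E.invs.contains i) &&
  (List.range E.invs.length).all (fun p =>
    let q := E.cwit.getD p (0, 0)
    Nat.blt q.1 256 && Nat.blt q.2 E.creps.length &&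
      Nat.beq (E.mul q.1 (E.invs.getD p 0)) (E.mul (E.creps.getD q.2 0) q.1)) &&
  (List.range E.creps.length).all (fun k => Nat.blt (E.creps.getD k 0) 256 &&
    (E.dreps.getD k []).all (fun d => Nat.blt d 256) &&
    (List.range E.invs.length).all (fun p =>
      let q := (E.dwit.getD k []).getD p (0, 0)
      Nat.blt q.1 256 && Nat.blt q.2 (E.dreps.getD k []).length &&
        Nat.beq (E.mul q.1 (E.creps.getD k 0)) (E.mul (E.creps.getD k 0) q.1) &&
        Nat.beq (E.mul q.1 (E.invs.getD p 0)) (E.mul ((E.dreps.getD k []).getD q.2 0) q.1)))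

/-- The images of the generators left after the relations. -/
noncomputable def triChk (E : GData) : Bool :=
  let A := E.gi.getD 0 0
  let AF := E.mul A (E.gi.getD 3 0)
  E.rel4.all (fun k => Nat.blt k 4) && E.rel5.all (fun k => Nat.blt k 5) &&
  Nat.beq (E.evI E.gi E.rel4) E.one && Nat.beq (E.evI E.gi E.rel5) E.one &&
  (List.range E.creps.length).all fun k =>
    let c := E.creps.getD k 0
    (E.dreps.getD k []).all fun d => !Nat.beq (E.evI [A, c, d, AF] E.rel4) E.one ||
      E.invs.all fun h => !Nat.beq (E.evI [A, c, d, AF, h] E.rel5) E.one ||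
        E.autos.any fun a => a.1 == [A, c, d, AF, h]

/-- The images of the generators are not those of an inner automorphism. -/
def notInner (E : GData) (ys : List ℕ) : Bool :=
  E.inn.all fun r => (List.range 5).any fun k => !Nat.beq (E.mul r (E.gi.getD k 0)) (E.mul (ys.getD k 0) r)

/-- Only the listed cases remain. -/
noncomputable def autoChk (E : GData) : Bool :=
  E.zc.all (fun z => Nat.blt z 256 && (List.range 5).all fun k =>
      Nat.beq (E.mul z (E.gi.getD k 0)) (E.mul (E.gi.getD k 0) z)) &&
  E.inn.all (fun r => Nat.blt r 256) &&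
  (List.range 256).all (fun r => E.inn.any fun s => E.zc.any fun z => Nat.beq r (E.mul s z)) &&
  E.autos.all fun a => a.1.all (fun i => Nat.blt i 256) &&
    (if Nat.beq a.2 0 then E.notInner (a.1.map (E.mapI a.1))
    else if Nat.beq a.2 1 then
      E.notInner (E.gi.map fun g =>
        E.mapI E.tfIm (E.mapI a.1 (E.mapI E.tfIm (E.mapI a.1 (E.mapI E.tfIm (E.mapI a.1 g))))))
    else E.cases.any fun C => C.im == a.1)

/-- The element moving the one involution to the product. -/
noncomputable def tfChk (E : GData) : Bool :=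
  okW E.tf && Nat.beq (fd010.K (cjW E.tf fd010.u)) (fd010.K (fd010.u ++ zWords.getD 8 [])) &&
  Nat.beq E.gi.length 5 &&
  (List.range 5).all fun k => Nat.blt (E.tfIm.getD k 0) 256 &&
    Nat.beq (fd010.K (cjW E.tf (fd010.r (E.gi.getD k 0)))) (fd010.rKey (E.tfIm.getD k 0))

/-- The pairs of inner involutions with product of order three. -/
noncomputable def tChk (E : GData) : Bool :=
  E.treps.all okW &&
  (List.range 630).all fun p =>
    let q := cjW (fd010.cw p) fd010.u
    let x := fd010.u ++ q
    !Nat.beq (fd010.K (x ++ x ++ x)) (fd010.K []) || Nat.beq (fd010.cKey p) (fd010.K fd010.u) ||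
      (let w := E.twit p
       Nat.blt w.1 256 && Nat.blt w.2 E.treps.length &&
         Nat.beq (fd010.K (cjW (fd010.r w.1) q)) (fd010.K (E.treps.getD w.2 [])))

/-- Involutions centralising such a pair move by the central involution. -/
noncomputable def tkChk (E : GData) : Bool :=
  let z := E.gi.getD 3 0
  (List.range E.treps.length).all fun j =>
    let q := E.treps.getD j []
    (List.range 256).all fun i => !Nat.beq (E.mul i i) E.one || Nat.beq i E.one || Nat.beq i z ||
      !Nat.beq (fd010.K (fd010.r i ++ q)) (fd010.K (q ++ fd010.r i)) ||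
      (E.tk.getD j []).any fun ik => Nat.beq ik.1 i && Nat.blt ik.2 256 &&
        Nat.beq (fd010.K (fd010.r ik.2 ++ q)) (fd010.K (q ++ fd010.r ik.2)) &&
        Nat.beq (E.mul ik.2 i) (E.mul (E.mul i z) ik.2)

/-- The six generators in the centraliser, a word for each number. -/
noncomputable def tuple (E : GData) (C : GCase) : List (List ℕ) :=
  [fd010.u, C.b, fd010.r C.c, fd010.r C.d, [], fd010.r (E.gi.getD 3 0), fd010.r C.h]

/-- The generators after the swap, with a candidate for the remaining one. -/
noncomputable def swapped (E : GData) (C : GCase) (e : List ℕ) : List (List ℕ) :=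
  [fd010.r (E.gi.getD 3 0), [], fd010.r (E.beta C C.c), fd010.r (E.beta C C.d), e, fd010.u, fd010.r (E.beta C C.h)]

/-- The relations. -/
noncomputable def relChk (E : GData) (C : GCase) : Bool :=
  okW C.b && C.es.all okW && Nat.blt C.c 256 && Nat.blt C.d 256 && Nat.blt C.h 256 &&
  Nat.beq (E.beta C (E.gi.getD 0 0)) (E.gi.getD 3 0) && Nat.beq (E.beta C (E.gi.getD 3 0)) (E.gi.getD 0 0) &&
  CfsgLib.CosetEnum.presON.rels.all (fun r => r.all (fun x => Nat.blt x 7) &&
    if !r.contains 4 then Nat.beq (fd010.K (catW (E.tuple C) r)) (fd010.K [])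
    else if !r.contains 1 then C.es.all fun e => Nat.beq (fd010.K (catW (E.swapped C e) r)) (fd010.K [])
    else r == [1, 4, 1, 4]) &&
  (List.range 3).all fun a => (C.letters.getD a []).all (fun x => Nat.blt x 7 && !Nat.beq x 4) &&
    Nat.beq (fd010.K (catW (E.tuple C) (C.letters.getD a []))) (fd010.K [a])

/-- The elements of the common part commuting with the second generator. -/
noncomputable def fixB (C : GCase) : List ℕ :=
  (List.range 256).filter fun j => Nat.beq (fd010.K (fd010.r j ++ C.b)) (fd010.K (C.b ++ fd010.r j))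

/-- The candidate conjugator number `i` and the images of the elements commuting with the second generator. -/
noncomputable def sideWords (E : GData) (C : GCase) (S : GSide) (i : ℕ) : List (List ℕ) :=
  (S.k0 ++ fd010.r i) :: (fixB C).map fun j => fd010.r (E.beta C j)

/-- One side. -/
noncomputable def sideChk (E : GData) (C : GCase) (S : GSide) : Bool :=
  let w' := fd010.r (E.beta C S.w)
  let bK := (fixB C).map fun j => fd010.rKey (E.beta C j)
  Nat.blt S.w 256 && Nat.beq (E.mul S.w S.w) E.one && !Nat.beq S.w E.one && !Nat.beq S.w (E.gi.getD 3 0) &&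
  Nat.beq (fd010.K (fd010.r S.w ++ C.b)) (fd010.K (C.b ++ fd010.r S.w)) &&
  Nat.blt (E.beta C S.w) 256 && parW w' && !Nat.beq (fd010.K w') (fd010.K (zWords.getD 8 [])) &&
  okW S.k0 && Nat.beq (fd010.K (S.k0 ++ w')) (fd010.K (w' ++ S.k0)) &&
  Nat.beq (fd010.K (cjW S.k0 fd010.u)) (fd010.K (fd010.u ++ w')) &&
  (List.range 256).all fun i => !Nat.beq (fd010.K (fd010.r i ++ w')) (fd010.K (w' ++ fd010.r i)) ||
    S.info.any fun p => Nat.beq p.1 i &&
      (p.2.isEmpty ||
        (let x := catW (E.sideWords C S i) p.2
         p.2.all (fun s => Nat.blt s (E.sideWords C S i).length) &&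
         Nat.beq (fd010.K (x ++ fd010.u)) (fd010.K (fd010.u ++ x)) && !bK.contains (fd010.K x)))

/-- The two sides give a candidate. -/
noncomputable def pairChk (E : GData) (C : GCase) : Bool :=
  C.side₁.info.all fun p => !p.2.isEmpty || C.side₂.info.all fun q => !q.2.isEmpty ||
    C.pairs.any fun z => Nat.beq z.1 p.1 && Nat.beq z.2.1 q.1 && Nat.blt z.2.2.1 C.es.length &&
      (let ws := (C.side₁.k0 ++ fd010.r p.1) :: E.sideWords C C.side₂ q.1
       z.2.2.2.all (fun s => Nat.blt s ws.length) &&
       Nat.beq (fd010.K (catW ws z.2.2.2)) (fd010.K (C.es.getD z.2.2.1 [])))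

/-- All checks of one case. -/
noncomputable def caseChk (E : GData) (C : GCase) : Bool :=
  E.relChk C && E.sideChk C C.side₁ && E.sideChk C C.side₂ && E.pairChk C

end GData

end CfsgON
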