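/-
An element of order nineteen of the O'Nan group with one fixed point commutes with no element of order thirty-one.
-/
import Cfsg.Agent.Lib.ONRecog.Fixed0
import Cfsg.Agent.Lib.ONRecog.Fixed1
import Cfsg.Agent.Lib.CosetEnum.ONPoint

set_option autoImplicit false
set_option maxRecDepth 100000
set_option maxHeartbeats 800000
set_option linter.unusedSectionVars false

namespace CfsgON

open CfsgLib.CosetEnum

theorem coxeter_fixed : ∀ d < 122760,
    (Nat.beq d 0 || !Nat.beq (runT ON122760.table 7 [5, 4, 3, 2, 1, 0] d) d) = true := by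
  have h0 : ∀ d < 0, (Nat.beq d 0 || !Nat.beq (runT ON122760.table 7 [5, 4, 3, 2, 1, 0] d) d) = true :=
    fun d hd => absurd hd (Nat.not_lt_zero d)
  have h1 := allFrom_step nineteen0_ok h0
  have h2 := allFrom_step nineteen1_ok h1
  have h3 := allFrom_step nineteen2_ok h2
  have h4 := allFrom_step nineteen3_ok h3
  have h5 := allFrom_step nineteen4_ok h4
  have h6 := allFrom_step nineteen5_ok h5
  have h7 := allFrom_step nineteen6_ok h6
  have h8 := allFrom_step nineteen7_ok h7
  have h9 := allFrom_step nineteen8_ok h8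
  have h10 := allFrom_step nineteen9_ok h9
  have h11 := allFrom_step nineteen10_ok h10
  have h12 := allFrom_step nineteen11_ok h11
  have h13 := allFrom_step nineteen12_ok h12
  have h14 := allFrom_step nineteen13_ok h13
  have h15 := allFrom_step nineteen14_ok h14
  have h16 := allFrom_step nineteen15_ok h15
  have h17 := allFrom_step nineteen16_ok h16
  have h18 := allFrom_step nineteen17_ok h17
  have h19 := allFrom_step nineteen18_ok h18
  have h20 := allFrom_step nineteen19_ok h19
  have h21 := allFrom_step nineteen20_ok h20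
  exact h21

/-- The relation of order nineteen. -/
theorem coxeter_scalar : ONL37.okScalar (ONL37.pairVal (List.replicate 19 [0, 1, 2, 3, 4, 5]).flatten) = true := by
  decide +kernel

/-- The map to the automorphisms of the simple subgroup is injective. -/
theorem autHom_injective : Function.Injective ONL37.autHom := by
  haveI := ONL37.card_le.1
  haveI : Finite ONL37.PSL37 := inferInstance
  haveI : Finite (MulAut ONL37.PSL37) := inferInstance
  set R := (MulAut.conj : ONL37.PSL37 →* MulAut ONL37.PSL37).range with hR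
  have hle : R ≤ ONL37.autHom.range := by
    rintro _ ⟨x, rfl⟩
    obtain ⟨A, rfl⟩ := QuotientGroup.mk'_surjective _ x
    exact ONL37.inner_le_range A
  have h0 : ONL37.outer 0 ∈ ONL37.autHom.range := ⟨_, ONL37.autHom_σ (by norm_num)⟩
  have hc : Nat.card R = 1876896 := by
    rw [← Nat.card_congr (MonoidHom.ofInjective ONL37.conjPSL_injective).toEquiv, ONL37.card_psl]
  have hm : Nat.card R * R.relIndex ONL37.autHom.range = Nat.card ONL37.autHom.range := by
    have := Subgroup.relIndex_mul_relIndex (H := (⊥ : Subgroup (MulAut ONL37.PSL37))) (K := R) (L := ONL37.autHom.range) bot_le hle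
    rwa [Subgroup.relIndex_bot_left, Subgroup.relIndex_bot_left] at this
  have h2 : R.relIndex ONL37.autHom.range ≠ 1 := fun h =>
    ONL37.outer_not_inner (Subgroup.relIndex_eq_one.mp h h0)
  have h3 : R.relIndex ONL37.autHom.range ≠ 0 := Subgroup.index_ne_zero_of_finite
  have hge : 3753792 ≤ Nat.card ONL37.autHom.range := by
    rw [← hm, hc]
    calc 3753792 = 1876896 * 2 := by norm_num
      _ ≤ _ := Nat.mul_le_mul_left _ (by omega)
  have hb : Function.Bijective ONL37.autHom.rangeRestrict :=
    (Nat.bijective_iff_surjective_and_card _).mpr ⟨ONL37.autHom.rangeRestrict_surjective,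
      le_antisymm (ONL37.card_le.2.trans hge) (Nat.card_le_card_of_surjective _ ONL37.autHom.rangeRestrict_surjective)⟩
  intro a b hab
  exact hb.1 (Subtype.ext hab)

/-- The element of order nineteen. -/
noncomputable def nineteen : presON.Grp := ([0, 1, 2, 3, 4, 5].map presON.σ).prod

theorem nineteen_pow : nineteen ^ 19 = 1 := by
  have hmem : ∀ x ∈ (List.replicate 19 [0, 1, 2, 3, 4, 5]).flatten, x < 6 := by decide
  have h := ONL37.outer_word (List.replicate 19 [0, 1, 2, 3, 4, 5]).flatten (by decide) hmem
  rw [ONL37.pr_eq_one (by rw [ONL37.pairS_val]; exact coxeter_scalar), map_one, ← ONL37.autHom_word _ hmem,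
    ← ONL37.autHom.map_one] at h
  have e := congrArg onHhom (autHom_injective h)
  rw [map_one, map_list_prod, List.map_map] at e
  rw [← e, nineteen, ← List.prod_replicate, show (List.replicate 19 ([0, 1, 2, 3, 4, 5].map presON.σ).prod) =
    ((List.replicate 19 [0, 1, 2, 3, 4, 5]).map (List.map presON.σ)).map List.prod by simp, ← List.prod_flatten,
    ← List.map_flatten]
  exact congrArg List.prod (List.map_congr_left fun x hx => (onHhom_σ (hmem x hx)).symm)

/-- It fixes one point only. -/
theorem nineteen_fixed : ∀ d : Fin ON122760.cert.T.n, ON122760.cert.hom ON122760.hlt nineteen d = d → (d : ℕ) = 0 := by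
  intro d hd
  have hlt6 : ∀ x ∈ [0, 1, 2, 3, 4, 5], x < presON.k := by decide
  rw [nineteen, ON122760.cert.hom_word ON122760.hlt presON_idx _ hlt6] at hd
  have h := ON122760.cert.word_smul [0, 1, 2, 3, 4, 5] (fun x hx => by rw [ON122760.cert.hk]; exact hlt6 x hx) d
  rw [hd] at h
  have hf := coxeter_fixed (d : ℕ) d.2
  simp only [Bool.or_eq_true, Bool.not_eq_true'] at hf
  rcases hf with hf | hf
  · exact Nat.eq_of_beq_eq_true hf
  · refine absurd ?_ (Nat.ne_of_beq_eq_false hf)
    rw [runT_eq]
    exact h.symm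

theorem nineteen_ne : nineteen ≠ 1 := fun h => by
  have := nineteen_fixed ⟨1, show 1 < 122760 by norm_num⟩ (by rw [h, map_one]; rfl)
  simp at this

/-- No element of order nineteen commutes with one of order thirty-one. -/
theorem no_589 {x z : presON.Grp} (hx : orderOf x = 19) (hz : orderOf z = 31) (h : Commute x z) : False := by
  classical
  haveI : Fact (Nat.Prime 19) := ⟨by norm_num⟩
  haveI : Finite presON.Grp := presON_upper.1
  have hord : orderOf nineteen = 19 := orderOf_eq_prime nineteen_pow nineteen_ne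
  have hsyl : ∀ g : presON.Grp, orderOf g = 19 → ∃ P : Sylow 19 presON.Grp, (P : Subgroup presON.Grp) = Subgroup.zpowers g := by
    intro g hg
    have hidx : ¬ 19 ∣ (Subgroup.zpowers g).index := by
      have hm := (Subgroup.zpowers g).card_mul_index
      rw [Nat.card_zpowers, hg, presON_card] at hm
      omega
    exact ⟨(IsPGroup.of_card (n := 1) (by rw [Nat.card_zpowers, hg, pow_one])).toSylow hidx, rfl⟩
  obtain ⟨P, hP⟩ := hsyl _ hord
  obtain ⟨Q, hQ⟩ := hsyl _ hx
  obtain ⟨g, hg⟩ := MulAction.exists_smul_eq presON.Grp Q P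
  have hxm : g * x * g⁻¹ ∈ Subgroup.zpowers nineteen := by
    rw [← hP, ← hg, Sylow.coe_subgroup_smul, hQ]
    exact Subgroup.smul_mem_pointwise_smul x (MulAut.conj g) _ (Subgroup.mem_zpowers x)
  obtain ⟨k, hk⟩ : ∃ k : ℤ, nineteen = (g * x * g⁻¹) ^ k := by
    have hle : Subgroup.zpowers (g * x * g⁻¹) ≤ Subgroup.zpowers nineteen := Subgroup.zpowers_le.mpr hxm
    have he := Subgroup.eq_of_le_of_card_ge hle (by
      rw [Nat.card_zpowers, Nat.card_zpowers, hord, ← MulAut.conj_apply, MulEquiv.orderOf_eq, hx])
    obtain ⟨k, hk⟩ := Subgroup.mem_zpowers_iff.mp (he ▸ Subgroup.mem_zpowers nineteen)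
    exact ⟨k, hk.symm⟩
  set w := g * z * g⁻¹ with hw
  have hcom : Commute w nineteen := by
    rw [hk]; exact ((h.symm.conj g).zpow_right k)
  -- the common fixed point
  obtain ⟨e, he⟩ := ON122760.cert.exists_equiv ON122760.hlt presON_idx ON122760.hhw
  set o : Fin ON122760.cert.T.n := e.symm (((1 : presON.Grp)) : presON.Grp ⧸ ON122760.cert.sub) with ho
  have hfix : ∀ {q : presON.Grp}, q ∈ ON122760.cert.sub ↔ ON122760.cert.hom ON122760.hlt q o = o := by
    intro q
    rw [← e.apply_eq_iff_eq, he, ho, e.apply_symm_apply, MulAction.Quotient.smul_mk, smul_eq_mul, mul_one,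
      QuotientGroup.eq, mul_one, inv_mem_iff]
  have hsub : nineteen ∈ ON122760.cert.sub := by
    rw [← onHhom_range]
    refine ⟨([0, 1, 2, 3, 4, 5].map ONL37.presONH.σ).prod, ?_⟩
    rw [map_list_prod, List.map_map, nineteen]
    exact congrArg List.prod (List.map_congr_left fun x hx => onHhom_σ ((by decide : ∀ y ∈ [0, 1, 2, 3, 4, 5], y < 6) x hx))
  have h1 := hfix.mp hsub
  have h2 : ON122760.cert.hom ON122760.hlt nineteen (ON122760.cert.hom ON122760.hlt w o) =
      ON122760.cert.hom ON122760.hlt w o := by
    rw [← Equiv.Perm.mul_apply, ← map_mul, ← hcom.eq, map_mul, Equiv.Perm.mul_apply, h1]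
  have hmem : w ∈ ON122760.cert.sub := hfix.mpr (Fin.ext ((nineteen_fixed _ h2).trans (nineteen_fixed _ h1).symm))
  have hd := Subgroup.orderOf_dvd_natCard _ hmem
  rw [hw, ← MulAut.conj_apply, MulEquiv.orderOf_eq, hz, presON_card_sub] at hd
  norm_num at hd

end CfsgON
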