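/-
Recognition of the O'Nan group from an involution centraliser.
-/
import Cfsg.Agent.Lib.ONRecog.CaseProof
import Cfsg.Agent.Lib.ONRecog.Nineteen
import Cfsg.Agent.Lib.CosetEnum.ONIso
import Cfsg.Agent.Lib.TwoFusion.StrongEmb
import Cfsg.Agent.Lib.OddOrder.FeitThompson
import Cfsg.Agent.Lib.HallPi

set_option autoImplicit false
set_option maxHeartbeats 800000
set_option linter.unusedSectionVars false
set_option linter.style.haveILetI false

namespace CfsgON

open Subgroup CfsgLib.CosetEnum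

universe u

variable {G : Type u} [Group G] [Finite G]

/-- A map from the presented group, given seven elements satisfying its relations. -/
theorem exists_hom (τ : ℕ → G) (hτ : ∀ i, τ i * τ i = 1) (hrel : ∀ r ∈ presON.rels, (r.map τ).prod = 1) :
    ∃ φ : presON.Grp →* G, ∀ x < 7, φ (presON.σ x) = τ x := by
  haveI : Small.{0} G := inferInstance
  let E : Shrink.{0} G ≃* G := Shrink.mulEquiv
  have h := presON.lift_rel (M := Shrink.{0} G) (τ := fun i => E.symm (τ i)) (fun i => by rw [← map_mul, hτ, map_one])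
    (fun r hr => by
      rw [← map_one E.symm, ← hrel r hr, map_list_prod, List.map_map]
      rfl)
  refine ⟨E.toMonoidHom.comp (PresentedGroup.toGroup (f := (fun i => E.symm (τ i)) ∘ presON.idx) h), fun x hx => ?_⟩
  rw [Pres.σ, if_pos (show x < presON.k from hx), MonoidHom.comp_apply, PresentedGroup.toGroup.of]
  show E (E.symm (τ (presON.idx (presON.gen x)))) = τ x
  rw [E.apply_symm_apply, presON_idx x hx]

variable {t : G}

/-- Coordinates inside a subgroup containing the centraliser. -/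
theorem coord_restrict {c : ℕ × ℕ × ℕ} (cd : Coord G t c) {H : Subgroup G} (ht : t ∈ H)
    (hH : centralizer ({t} : Set G) ≤ H) : Nonempty (Coord H (⟨t, ht⟩ : H) c) := by
  classical
  let v : List ℕ → H := fun a => if h : cd.v a ∈ H then ⟨cd.v a, h⟩ else 1
  have hv : ∀ {a : List ℕ}, okW a = true → (v a : G) = cd.v a := fun {a} ha => by
    simp only [v, dif_pos (hH (cd.v_cent ha))]
  have hC : ∀ g : H, g ∈ centralizer ({(⟨t, ht⟩ : H)} : Set H) ↔ (g : G) ∈ centralizer ({t} : Set G) := fun g => by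
    rw [mem_centralizer_singleton_iff, mem_centralizer_singleton_iff, Subtype.ext_iff, Subgroup.coe_mul,
      Subgroup.coe_mul]
  refine ⟨⟨cd.mem, v, cd.M.subgroupOf H, ?_, fun {a b} ha hb => Subtype.ext ?_, fun {a} ha => (hC _).mpr ?_,
    fun {g} hg => ?_, fun {a b} ha hb => ?_, fun {a} ha => ?_, Subtype.ext ((hv (okW_z 8)).trans cd.v_t), ?_⟩⟩
  · exact Subtype.ext ((hv (a := []) rfl).trans cd.v_nil)
  · rw [Subgroup.coe_mul, hv (okW_append.mpr ⟨ha, hb⟩), hv ha, hv hb, cd.v_append ha hb]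
  · rw [hv ha]; exact cd.v_cent ha
  · obtain ⟨a, ha, e⟩ := cd.v_surj ((hC g).mp hg)
    exact ⟨a, ha, Subtype.ext ((hv ha).trans e)⟩
  · rw [cd.key_iff ha hb, Subtype.ext_iff, hv ha, hv hb]
  · rw [mem_subgroupOf, hv ha, cd.inner_iff ha]
  · rw [← cd.card]
    exact Nat.card_congr
      { toFun := fun g => ⟨(g : H), (hC _).mp g.2⟩
        invFun := fun g => ⟨⟨g, hH g.2⟩, (hC _).mpr g.2⟩
        left_inv := fun g => rfl
        right_inv := fun g => rfl }

/-- The index of the centraliser in a transitive subgroup is the number of involutions. -/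
theorem card_involutions (K H : Subgroup G) (hK : K ≤ H) (ht : t ∈ H) (ht2 : orderOf t = 2)
    (htr : ∀ s ∈ H, orderOf s = 2 → ∃ k ∈ K, k * t * k⁻¹ = s) :
    ((centralizer ({t} : Set G)).subgroupOf K).index = Set.ncard {s : G | s ∈ H ∧ orderOf s = 2} := by
  rw [Subgroup.index, ← Nat.card_coe_set_eq]
  set C : Subgroup K := (centralizer ({t} : Set G)).subgroupOf K
  let f : K ⧸ C → {s : G | s ∈ H ∧ orderOf s = 2} :=
    Quotient.lift (fun k : K => ⟨(k : G) * t * (k : G)⁻¹,
      mul_mem (mul_mem (hK k.2) ht) (inv_mem (hK k.2)), by rw [← MulAut.conj_apply, MulEquiv.orderOf_eq, ht2]⟩)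
      fun a b hab => by
        have h := QuotientGroup.leftRel_apply.mp hab
        have hc : ((a : G)⁻¹ * b) * t = t * ((a : G)⁻¹ * b) := mem_centralizer_singleton_iff.mp (mem_subgroupOf.mp h)
        refine Subtype.ext ?_
        show (a : G) * t * (a : G)⁻¹ = (b : G) * t * (b : G)⁻¹
        calc (a : G) * t * (a : G)⁻¹ = (a : G) * (t * ((a : G)⁻¹ * b)) * (b : G)⁻¹ := by group
          _ = (a : G) * ((a : G)⁻¹ * b * t) * (b : G)⁻¹ := by rw [hc]
          _ = _ := by group
  refine Nat.card_eq_of_bijective f ⟨?_, ?_⟩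
  · rintro ⟨a⟩ ⟨b⟩ hab
    refine Quotient.sound (QuotientGroup.leftRel_apply.mpr (mem_subgroupOf.mpr (mem_centralizer_singleton_iff.mpr ?_)))
    have e : (a : G) * t * (a : G)⁻¹ = (b : G) * t * (b : G)⁻¹ := congrArg Subtype.val hab
    show ((a : G)⁻¹ * b) * t = t * ((a : G)⁻¹ * b)
    calc (a : G)⁻¹ * b * t = (a : G)⁻¹ * ((b : G) * t * (b : G)⁻¹) * b := by group
      _ = (a : G)⁻¹ * ((a : G) * t * (a : G)⁻¹) * b := by rw [e]
      _ = _ := by group
  · rintro ⟨s, hs, hs2⟩
    obtain ⟨k, hk, e⟩ := htr s hs hs2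
    exact ⟨QuotientGroup.mk ⟨k, hk⟩, Subtype.ext e⟩

/-- A group of order 589 has commuting elements of orders 19 and 31. -/
theorem exists_commute_589 {K : Type u} [Group K] [Finite K] (hK : Nat.card K = 589) :
    ∃ x z : K, orderOf x = 19 ∧ orderOf z = 31 ∧ Commute x z := by
  classical
  haveI : Fact (Nat.Prime 19) := ⟨by norm_num⟩
  haveI : Fact (Nat.Prime 31) := ⟨by norm_num⟩
  obtain ⟨x, hx⟩ := exists_prime_orderOf_dvd_card' (G := K) 19 (by rw [hK]; norm_num)
  obtain ⟨z, hz⟩ := exists_prime_orderOf_dvd_card' (G := K) 31 (by rw [hK]; norm_num)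
  refine ⟨x, z, hx, hz, ?_⟩
  have hidx : (zpowers z).index = 19 := by
    have h := (zpowers z).card_mul_index
    rw [Nat.card_zpowers, hz, hK] at h
    omega
  haveI : (zpowers z).Normal := Subgroup.normal_of_index_eq_minFac_card (by
    rw [hidx, hK]; norm_num)
  let P := zpowers z
  let χ : K →* MulAut P := MulAut.conjNormal
  have hd1 : orderOf (χ x) ∣ 19 := hx ▸ orderOf_map_dvd χ x
  have hd2 : orderOf (χ x) ∣ 30 := by
    refine (orderOf_dvd_natCard (χ x)).trans ?_
    rw [IsCyclic.card_mulAut, Nat.card_zpowers, hz, Nat.totient_prime (by norm_num)]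
  have h1 : χ x = 1 := orderOf_eq_one_iff.mp (Nat.dvd_one.mp ((Nat.dvd_gcd hd1 hd2).trans (by norm_num)))
  have h2 := congrArg (fun φ : MulAut P => (φ ⟨z, mem_zpowers z⟩ : K)) h1
  simp only [χ, MulAut.conjNormal_apply, MulAut.one_apply] at h2
  exact mul_inv_eq_iff_eq_mul.mp h2

/-- No subgroup of odd order of a copy of the presented group has order divisible by the number of involutions. -/
theorem no_odd_transitive {H : Type u} [Group H] [Finite H] (eH : presON.Grp ≃* H) {D : Subgroup H}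
    (hDodd : Odd (Nat.card D)) (hdvd : 2857239 ∣ Nat.card D) : False := by
  have hsolv : Group.IsSolvable D := CfsgLib.OddOrder.feitThompson hDodd
  obtain ⟨K, hKD, hKπ, hKi⟩ := CfsgLib.exists_isPiHallOf ({19, 31} : Set ℕ) hsolv
  have hDH : Nat.card D ∣ 460815505920 := by
    rw [← presON_card, Nat.card_congr eH.toEquiv]; exact card_subgroup_dvd_card D
  have hKD' := CfsgLib.card_mul_relIndex hKD
  have hp19 : 19 ∣ Nat.card K := by
    refine ((show Nat.Prime 19 by norm_num).dvd_mul.mp (hKD'.symm ▸ (show 19 ∣ 2857239 by norm_num).trans hdvd)).resolve_right ?_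
    exact hKi 19 (by norm_num) (by simp)
  have hp31 : 31 ∣ Nat.card K := by
    refine ((show Nat.Prime 31 by norm_num).dvd_mul.mp (hKD'.symm ▸ (show 31 ∣ 2857239 by norm_num).trans hdvd)).resolve_right ?_
    exact hKi 31 (by norm_num) (by simp)
  have hK589 : Nat.card K = 589 := by
    have hd : Nat.card K ∣ 589 * 782369280 := by
      norm_num; exact (Dvd.intro _ hKD').trans hDH
    have hcop : (Nat.card K).Coprime 782369280 := by
      refine Nat.coprime_of_dvd fun p hp hpK hpm => ?_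
      have := hKπ p hp hpK
      simp only [Set.mem_insert_iff, Set.mem_singleton_iff] at this
      rcases this with rfl | rfl <;> norm_num at hpm
    exact Nat.dvd_antisymm (hcop.dvd_of_dvd_mul_right hd) (Nat.Coprime.mul_dvd_of_dvd_of_dvd (by norm_num) hp19 hp31)
  obtain ⟨x, z, hx, hz, hc⟩ := exists_commute_589 hK589
  refine no_589 (x := eH.symm (x : H)) (z := eH.symm (z : H)) ?_ ?_ ?_
  · rw [MulEquiv.orderOf_eq, Subgroup.orderOf_coe, hx]
  · rw [MulEquiv.orderOf_eq, Subgroup.orderOf_coe, hz]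
  · exact (hc.map K.subtype).map eH.symm.toMonoidHom

/-- A group with one class of involutions and this centraliser is a copy of the presented group. -/
theorem equiv_of_coord (ht : orderOf t = 2) (cd : Coord G t (0, 1, 0))
    (hone : ∀ s : G, orderOf s = 2 → ∃ g : G, g * t * g⁻¹ = s) : Nonempty (presON.Grp ≃* G) := by
  classical
  obtain ⟨τ, hτ, hrel, hτ5, hgen⟩ := exists_generators hone ht cd
  obtain ⟨φ, hφ⟩ := exists_hom τ hτ hrel
  haveI := presON_simple
  haveI : Finite presON.Grp := presON_upper.1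
  have h1t : t ≠ 1 := fun e => by rw [e, orderOf_one] at ht; omega
  have hinj : Function.Injective φ := by
    rw [← MonoidHom.ker_eq_bot_iff]
    refine (φ.normal_ker.eq_bot_or_eq_top).resolve_right fun h => h1t ?_
    have : presON.σ 5 ∈ φ.ker := h ▸ Subgroup.mem_top _
    rwa [MonoidHom.mem_ker, hφ 5 (by norm_num), hτ5] at this
  set H := φ.range with hH
  have hCH : centralizer ({t} : Set G) ≤ H := by
    refine hgen.trans ((closure_le _).mpr ?_)
    rintro _ ⟨x, hx, rfl⟩
    exact ⟨presON.σ x, hφ x hx⟩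
  let eH : presON.Grp ≃* H := MonoidHom.ofInjective hinj
  have hcardH : Nat.card H = 460815505920 := by rw [← Nat.card_congr eH.toEquiv, presON_card]
  by_cases htop : H = ⊤
  · exact ⟨eH.trans ((MulEquiv.subgroupCongr htop).trans Subgroup.topEquiv)⟩
  exfalso
  haveI : IsSimpleGroup H := eH.symm.isSimpleGroup
  have htH : t ∈ H := hCH (mem_centralizer_singleton_iff.mpr rfl)
  have htH2 : orderOf (⟨t, htH⟩ : H) = 2 := by rw [orderOf_mk, ht]
  obtain ⟨cdH⟩ := coord_restrict cd htH hCH
  have honeH : ∀ s ∈ H, orderOf s = 2 → ∃ h ∈ H, h * t * h⁻¹ = s := by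
    intro s hs hs2
    obtain ⟨g, hg⟩ := (sylow_and_class htH2 cdH).2 ⟨s, hs⟩ (by rw [orderOf_mk, hs2])
    exact ⟨g, g.2, congrArg Subtype.val hg⟩
  have hse : Cfsg.IsStronglyEmbedded H := by
    refine ⟨htop, ?_, fun g hg => ?_⟩
    · rw [hcardH]; exact ⟨230407752960, rfl⟩
    by_contra hodd
    rw [Nat.not_odd_iff_even, even_iff_two_dvd] at hodd
    haveI : Fact (Nat.Prime 2) := ⟨Nat.prime_two⟩
    obtain ⟨⟨s, hsm⟩, hs⟩ := exists_prime_orderOf_dvd_card' 2 hodd
    rw [orderOf_mk] at hs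
    obtain ⟨hs1, hs2⟩ := Subgroup.mem_inf.mp hsm
    obtain ⟨r, hr, hrs⟩ := hs2
    rw [MulEquiv.coe_toMonoidHom, MulAut.conj_apply] at hrs
    obtain ⟨h, hh, eh⟩ := honeH s hs1 hs
    obtain ⟨h', hh', eh'⟩ := honeH r hr (by rw [← hs, ← hrs, ← MulAut.conj_apply, MulEquiv.orderOf_eq])
    apply hg
    have hc : h⁻¹ * g * h' ∈ centralizer ({t} : Set G) := by
      refine mem_centralizer_singleton_iff.mpr ?_
      calc h⁻¹ * g * h' * t = h⁻¹ * (g * (h' * t * h'⁻¹) * g⁻¹) * g * h' := by group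
        _ = h⁻¹ * (h * t * h⁻¹) * g * h' := by rw [eh', hrs, eh]
        _ = _ := by group
    have := mul_mem (mul_mem hh (hCH hc)) (inv_mem hh')
    simpa [mul_assoc] using this
  obtain ⟨u, hu, huH⟩ : ∃ u : G, orderOf u = 2 ∧ u ∉ H := by
    by_contra h
    push Not at h
    refine htop (eq_top_iff.mpr fun m _ => ?_)
    have hm2 : orderOf (m * t * m⁻¹) = 2 := by rw [← MulAut.conj_apply, MulEquiv.orderOf_eq, ht]
    obtain ⟨h', hh', e⟩ := honeH _ (h _ hm2) hm2
    have hc : h'⁻¹ * m ∈ centralizer ({t} : Set G) := by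
      refine mem_centralizer_singleton_iff.mpr ?_
      calc h'⁻¹ * m * t = h'⁻¹ * (m * t * m⁻¹) * m := by group
        _ = t * (h'⁻¹ * m) := by rw [← e]; group
    simpa using mul_mem hh' (hCH hc)
  set D := H ⊓ H.map (MulAut.conj u).toMonoidHom with hD
  have hDodd : Odd (Nat.card D) := hse.2.2 u huH
  have htr : ∀ s ∈ H, orderOf s = 2 → ∃ k ∈ D, k * t * k⁻¹ = s := fun s hs hs2 =>
    CfsgLib.StrongEmb.exists_conj_in_inter hse hu huH htH ht hs hs2
  have hnum : ((centralizer ({t} : Set G)).subgroupOf H).index = 2857239 := by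
    have h := ((centralizer ({t} : Set G)).subgroupOf H).card_mul_index
    rw [Nat.card_congr (subgroupOfEquivOfLe hCH).toEquiv, cd.card, hcardH] at h
    omega
  have hdvd : 2857239 ∣ Nat.card D := by
    rw [← hnum, card_involutions H H le_rfl htH ht honeH, ← card_involutions D H inf_le_left htH ht htr]
    exact Subgroup.index_dvd_card _
  exact no_odd_transitive eH (D := D.subgroupOf H)
    (by rwa [Nat.card_congr (subgroupOfEquivOfLe (inf_le_left : D ≤ H)).toEquiv])
    (by rwa [Nat.card_congr (subgroupOfEquivOfLe (inf_le_left : D ≤ H)).toEquiv])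

/-- A simple group with one class of involutions and this centraliser is the O'Nan group. -/
theorem isoON_of_coord [IsSimpleGroup G] (ht : orderOf t = 2) (cd : Coord G t (0, 1, 0))
    (hone : ∀ s : G, orderOf s = 2 → ∃ g : G, g * t * g⁻¹ = s) : Cfsg.Spor.IsoON G :=
  let ⟨e⟩ := equiv_of_coord ht cd hone
  ⟨e.symm.trans onEquiv.symm⟩

/-- Recognition. -/
theorem isoON [IsSimpleGroup G] (t : G) (ht : orderOf t = 2) (M : Subgroup (centralizer ({t} : Set G))) [M.Normal]
    (hM : M.index = 2) (hout : centralizer (M : Set (centralizer ({t} : Set G))) ≤ M) (hZc : IsCyclic (center M))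
    (hZ4 : Nat.card (center M) = 4) (hperf : commutator M = ⊤) (F : Type) [Field F] [Fintype F]
    (hF : Fintype.card F = 4) (e : M ⧸ center M ≃* Matrix.ProjectiveSpecialLinearGroup (Fin 3) F) :
    Cfsg.Spor.IsoON G := by
  obtain ⟨⟨cd⟩, hone⟩ := fusion t ht M hM hout hZc hZ4 hperf F hF e
  exact isoON_of_coord ht cd hone

end CfsgON
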